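import Cfsg.Agent.Lib.Lead.ReeAbs.Ax

/-! # [A] arithmetic of q = 3^(2m+1), r = 3^(m+1) -/

set_option autoImplicit false

namespace Cfsg.Agent.Lib.Lead.ReeAbs.Arith

/-- with `3^m = 2z+1`: `q = 12z²+12z+3`, `r = 6z+3`. -/
theorem exists_z (m : ℕ) : ∃ z : ℕ, 3 ^ (2 * m + 1) = 12 * z ^ 2 + 12 * z + 3 ∧
    3 ^ (m + 1) = 6 * z + 3 ∧ 3 ^ m = 2 * z + 1 := by
  obtain ⟨z, hz⟩ : Odd (3 ^ m) := Odd.pow (by decide)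
  refine ⟨z, ?_, ?_, hz⟩
  · have h : 3 ^ (2 * m + 1) = 3 * (3 ^ m) ^ 2 := by ring
    rw [h, hz]; ring
  · rw [pow_succ, hz]; ring

theorem cop_of_lin {a b u v c : ℕ} (h : u * a = v * b + c) (hc : a.Coprime c) : a.Coprime b := by
  have h1 : Nat.gcd a b ∣ c :=
    (Nat.dvd_add_right (Dvd.dvd.mul_left (Nat.gcd_dvd_right a b) v)).1
      (h ▸ Dvd.dvd.mul_left (Nat.gcd_dvd_left a b) u)
  have h2 : Nat.gcd a b ∣ Nat.gcd a c := Nat.dvd_gcd (Nat.gcd_dvd_left a b) h1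
  rw [hc.gcd_eq_one] at h2
  exact Nat.eq_one_of_dvd_one h2

theorem cop_of_lin1 {a b u v : ℕ} (h : u * a = v * b + 1) : a.Coprime b :=
  cop_of_lin h (Nat.coprime_one_right a)

theorem q_mod8 (m : ℕ) : 3 ^ (2 * m + 1) % 8 = 3 := by
  rw [pow_succ, pow_mul]
  simp [Nat.mul_mod, Nat.pow_mod]

theorem r_sq (m : ℕ) : (3 ^ (m + 1)) ^ 2 = 3 * 3 ^ (2 * m + 1) := by ring

/-- `3r ≤ q` for `m ≥ 1` -/
theorem three_r_le {m : ℕ} (hm : 1 ≤ m) : 3 * 3 ^ (m + 1) ≤ 3 ^ (2 * m + 1) := by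
  have h : 3 * 3 ^ (m + 1) = 3 ^ (m + 2) := by ring
  rw [h]
  exact Nat.pow_le_pow_right (by norm_num) (by omega)

theorem k0_eq (z : ℕ) : (12 * z ^ 2 + 12 * z + 3 - 1) / 2 = 6 * z ^ 2 + 6 * z + 1 := by omega
theorem k1_eq (z : ℕ) : (12 * z ^ 2 + 12 * z + 3 + 1) / 4 = 3 * z ^ 2 + 3 * z + 1 := by omega
theorem k2_eq (z : ℕ) : 12 * z ^ 2 + 12 * z + 3 - (6 * z + 3) + 1 = 12 * z ^ 2 + 6 * z + 1 := by omega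
theorem k3_eq (z : ℕ) : 12 * z ^ 2 + 12 * z + 3 + (6 * z + 3) + 1 = 12 * z ^ 2 + 18 * z + 7 := by omega
theorem qm1_eq (z : ℕ) : 12 * z ^ 2 + 12 * z + 3 - 1 = 12 * z ^ 2 + 12 * z + 2 := by omega
theorem phi6_eq (z : ℕ) : (12 * z ^ 2 + 12 * z + 3) ^ 2 - (12 * z ^ 2 + 12 * z + 3) + 1 =
    (12 * z ^ 2 + 6 * z + 1) * (12 * z ^ 2 + 18 * z + 7) := by
  have h : (12 * z ^ 2 + 12 * z + 3) ^ 2 - (12 * z ^ 2 + 12 * z + 3) =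
      (12 * z ^ 2 + 12 * z + 3) * (12 * z ^ 2 + 12 * z + 2) :=
    Nat.sub_eq_of_eq_add (by ring)
  rw [h]; ring

theorem k2_mul_k3 (m : ℕ) : (3 ^ (2 * m + 1) - 3 ^ (m + 1) + 1) * (3 ^ (2 * m + 1) + 3 ^ (m + 1) + 1) =
    (3 ^ (2 * m + 1)) ^ 2 - 3 ^ (2 * m + 1) + 1 := by
  obtain ⟨z, hq, hr, -⟩ := exists_z m
  rw [hq, hr, k2_eq, k3_eq, phi6_eq]

/-- `|G| = q^3 * 8 * k0 * k1 * k2 * k3` -/
theorem card_factor (m : ℕ) :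
    (3 ^ (2 * m + 1)) ^ 3 * (3 ^ (2 * m + 1) - 1) * ((3 ^ (2 * m + 1)) ^ 3 + 1) =
      (3 ^ (2 * m + 1)) ^ 3 * 8 * ((3 ^ (2 * m + 1) - 1) / 2) * ((3 ^ (2 * m + 1) + 1) / 4) *
        (3 ^ (2 * m + 1) - 3 ^ (m + 1) + 1) * (3 ^ (2 * m + 1) + 3 ^ (m + 1) + 1) := by
  obtain ⟨z, hq, hr, -⟩ := exists_z m
  rw [hq, hr, k0_eq, k1_eq, k2_eq, k3_eq, qm1_eq]
  ring

theorem two_mul_k0 (m : ℕ) : 2 * ((3 ^ (2 * m + 1) - 1) / 2) = 3 ^ (2 * m + 1) - 1 := by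
  have := q_mod8 m
  omega
theorem four_mul_k1 (m : ℕ) : 4 * ((3 ^ (2 * m + 1) + 1) / 4) = 3 ^ (2 * m + 1) + 1 := by
  have := q_mod8 m
  omega

/-- the six numbers `2, 3, k0, k1, k2, k3` are pairwise coprime -/
theorem cop_6_k0 (m : ℕ) : Nat.Coprime 6 ((3 ^ (2 * m + 1) - 1) / 2) := by
  obtain ⟨z, hq, hr, -⟩ := exists_z m
  rw [hq, k0_eq]
  exact (cop_of_lin1 (u := 1) (v := z ^ 2 + z) (by ring)).symm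
theorem cop_6_k1 (m : ℕ) : Nat.Coprime 6 ((3 ^ (2 * m + 1) + 1) / 4) := by
  obtain ⟨z, hq, hr, -⟩ := exists_z m
  rw [hq, k1_eq]
  obtain ⟨t, ht⟩ := Nat.even_mul_succ_self z
  refine (cop_of_lin1 (u := 1) (v := t) ?_).symm
  calc 1 * (3 * z ^ 2 + 3 * z + 1) = 3 * (z * (z + 1)) + 1 := by ring
    _ = 3 * (t + t) + 1 := by rw [ht]
    _ = t * 6 + 1 := by ring
theorem cop_6_k2 (m : ℕ) : Nat.Coprime 6 (3 ^ (2 * m + 1) - 3 ^ (m + 1) + 1) := by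
  obtain ⟨z, hq, hr, -⟩ := exists_z m
  rw [hq, hr, k2_eq]
  exact (cop_of_lin1 (u := 1) (v := 2 * z ^ 2 + z) (by ring)).symm
theorem cop_6_k3 (m : ℕ) : Nat.Coprime 6 (3 ^ (2 * m + 1) + 3 ^ (m + 1) + 1) := by
  obtain ⟨z, hq, hr, -⟩ := exists_z m
  rw [hq, hr, k3_eq]
  exact (cop_of_lin1 (u := 1) (v := 2 * z ^ 2 + 3 * z + 1) (by ring)).symm
theorem cop_k0_k1 (m : ℕ) : Nat.Coprime ((3 ^ (2 * m + 1) - 1) / 2) ((3 ^ (2 * m + 1) + 1) / 4) := by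
  obtain ⟨z, hq, hr, -⟩ := exists_z m
  rw [hq, k0_eq, k1_eq]
  exact (cop_of_lin1 (u := 2) (v := 1) (by ring)).symm
theorem cop_k0_k2 (m : ℕ) : Nat.Coprime ((3 ^ (2 * m + 1) - 1) / 2) (3 ^ (2 * m + 1) - 3 ^ (m + 1) + 1) := by
  obtain ⟨z, hq, hr, -⟩ := exists_z m
  rw [hq, hr, k0_eq, k2_eq]
  exact (cop_of_lin1 (u := 6 * z + 5) (v := 12 * z + 4) (by ring)).symm
theorem cop_k0_k3 (m : ℕ) : Nat.Coprime ((3 ^ (2 * m + 1) - 1) / 2) (3 ^ (2 * m + 1) + 3 ^ (m + 1) + 1) := by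
  obtain ⟨z, hq, hr, -⟩ := exists_z m
  rw [hq, hr, k0_eq, k3_eq]
  exact cop_of_lin1 (u := 12 * z + 8) (v := 6 * z + 1) (by ring)
theorem cop_k1_k2 (m : ℕ) : Nat.Coprime ((3 ^ (2 * m + 1) + 1) / 4) (3 ^ (2 * m + 1) - 3 ^ (m + 1) + 1) := by
  obtain ⟨z, hq, hr, -⟩ := exists_z m
  rw [hq, hr, k1_eq, k2_eq]
  exact (cop_of_lin1 (u := 2 * z + 1) (v := 8 * z) (by ring)).symm
theorem cop_k1_k3 (m : ℕ) : Nat.Coprime ((3 ^ (2 * m + 1) + 1) / 4) (3 ^ (2 * m + 1) + 3 ^ (m + 1) + 1) := by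
  obtain ⟨z, hq, hr, -⟩ := exists_z m
  rw [hq, hr, k1_eq, k3_eq]
  exact cop_of_lin1 (u := 8 * z + 8) (v := 2 * z + 1) (by ring)
theorem cop_k2_k3 (m : ℕ) : Nat.Coprime (3 ^ (2 * m + 1) - 3 ^ (m + 1) + 1) (3 ^ (2 * m + 1) + 3 ^ (m + 1) + 1) := by
  obtain ⟨z, hq, hr, -⟩ := exists_z m
  rw [hq, hr, k2_eq, k3_eq]
  exact cop_of_lin1 (u := z + 1) (v := z) (by ring)

/-- a prime divisor of `|G|` is 2, 3 or divides exactly one of the `k_i` -/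
theorem prime_cases (m : ℕ) {p : ℕ} (hp : p.Prime)
    (h : p ∣ (3 ^ (2 * m + 1)) ^ 3 * (3 ^ (2 * m + 1) - 1) * ((3 ^ (2 * m + 1)) ^ 3 + 1)) :
    p = 2 ∨ p = 3 ∨ p ∣ (3 ^ (2 * m + 1) - 1) / 2 ∨ p ∣ (3 ^ (2 * m + 1) + 1) / 4 ∨
      p ∣ 3 ^ (2 * m + 1) - 3 ^ (m + 1) + 1 ∨ p ∣ 3 ^ (2 * m + 1) + 3 ^ (m + 1) + 1 := by
  rw [card_factor] at h
  rcases hp.dvd_mul.1 h with h | h
  · rcases hp.dvd_mul.1 h with h | h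
    · rcases hp.dvd_mul.1 h with h | h
      · rcases hp.dvd_mul.1 h with h | h
        · rcases hp.dvd_mul.1 h with h | h
          · have h3 : p ∣ 3 := hp.dvd_of_dvd_pow (hp.dvd_of_dvd_pow h)
            exact Or.inr (Or.inl ((Nat.prime_dvd_prime_iff_eq hp Nat.prime_three).1 h3))
          · have h2 : p ∣ 2 := hp.dvd_of_dvd_pow (show p ∣ 2 ^ 3 from h)
            exact Or.inl ((Nat.prime_dvd_prime_iff_eq hp Nat.prime_two).1 h2)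
        · exact Or.inr (Or.inr (Or.inl h))
      · exact Or.inr (Or.inr (Or.inr (Or.inl h)))
    · exact Or.inr (Or.inr (Or.inr (Or.inr (Or.inl h))))
  · exact Or.inr (Or.inr (Or.inr (Or.inr (Or.inr h))))

theorem cop_q3 {k : ℕ} (m : ℕ) (h : Nat.Coprime 6 k) : Nat.Coprime k ((3 ^ (2 * m + 1)) ^ 3 * 8) := by
  have h3 : Nat.Coprime 3 k := Nat.Coprime.of_dvd_left (by norm_num) h
  have h2 : Nat.Coprime 2 k := Nat.Coprime.of_dvd_left (by norm_num) h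
  refine Nat.Coprime.mul_right ?_ ?_
  · exact (Nat.Coprime.pow_left _ (Nat.Coprime.pow_left _ h3)).symm
  · exact (show Nat.Coprime (2 ^ 3) k from Nat.Coprime.pow_left _ h2).symm

/-- `k_i` is a Hall divisor of `|G|` -/
theorem hall_k0 (m : ℕ) : Nat.Coprime ((3 ^ (2 * m + 1) - 1) / 2)
    ((3 ^ (2 * m + 1)) ^ 3 * (3 ^ (2 * m + 1) - 1) * ((3 ^ (2 * m + 1)) ^ 3 + 1) / ((3 ^ (2 * m + 1) - 1) / 2)) := by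
  have hpos : 0 < (3 ^ (2 * m + 1) - 1) / 2 := by
    obtain ⟨z, hq, -, -⟩ := exists_z m
    rw [hq, k0_eq]; positivity
  have e : (3 ^ (2 * m + 1)) ^ 3 * (3 ^ (2 * m + 1) - 1) * ((3 ^ (2 * m + 1)) ^ 3 + 1) =
      ((3 ^ (2 * m + 1) - 1) / 2) * ((3 ^ (2 * m + 1)) ^ 3 * 8 * ((3 ^ (2 * m + 1) + 1) / 4) *
        (3 ^ (2 * m + 1) - 3 ^ (m + 1) + 1) * (3 ^ (2 * m + 1) + 3 ^ (m + 1) + 1)) := by
    rw [card_factor]; ring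
  rw [e, Nat.mul_div_cancel_left _ hpos]
  exact Nat.Coprime.mul_right (Nat.Coprime.mul_right (Nat.Coprime.mul_right
    (cop_q3 m (cop_6_k0 m)) (cop_k0_k1 m)) (cop_k0_k2 m)) (cop_k0_k3 m)
theorem hall_k1 (m : ℕ) : Nat.Coprime ((3 ^ (2 * m + 1) + 1) / 4)
    ((3 ^ (2 * m + 1)) ^ 3 * (3 ^ (2 * m + 1) - 1) * ((3 ^ (2 * m + 1)) ^ 3 + 1) / ((3 ^ (2 * m + 1) + 1) / 4)) := by
  have hpos : 0 < (3 ^ (2 * m + 1) + 1) / 4 := by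
    obtain ⟨z, hq, -, -⟩ := exists_z m
    rw [hq, k1_eq]; positivity
  have e : (3 ^ (2 * m + 1)) ^ 3 * (3 ^ (2 * m + 1) - 1) * ((3 ^ (2 * m + 1)) ^ 3 + 1) =
      ((3 ^ (2 * m + 1) + 1) / 4) * ((3 ^ (2 * m + 1)) ^ 3 * 8 * ((3 ^ (2 * m + 1) - 1) / 2) *
        (3 ^ (2 * m + 1) - 3 ^ (m + 1) + 1) * (3 ^ (2 * m + 1) + 3 ^ (m + 1) + 1)) := by
    rw [card_factor]; ring
  rw [e, Nat.mul_div_cancel_left _ hpos]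
  exact Nat.Coprime.mul_right (Nat.Coprime.mul_right (Nat.Coprime.mul_right
    (cop_q3 m (cop_6_k1 m)) (cop_k0_k1 m).symm) (cop_k1_k2 m)) (cop_k1_k3 m)
theorem hall_k2 (m : ℕ) : Nat.Coprime (3 ^ (2 * m + 1) - 3 ^ (m + 1) + 1)
    ((3 ^ (2 * m + 1)) ^ 3 * (3 ^ (2 * m + 1) - 1) * ((3 ^ (2 * m + 1)) ^ 3 + 1) / (3 ^ (2 * m + 1) - 3 ^ (m + 1) + 1)) := by
  have hpos : 0 < 3 ^ (2 * m + 1) - 3 ^ (m + 1) + 1 := Nat.succ_pos _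
  have e : (3 ^ (2 * m + 1)) ^ 3 * (3 ^ (2 * m + 1) - 1) * ((3 ^ (2 * m + 1)) ^ 3 + 1) =
      (3 ^ (2 * m + 1) - 3 ^ (m + 1) + 1) * ((3 ^ (2 * m + 1)) ^ 3 * 8 * ((3 ^ (2 * m + 1) - 1) / 2) *
        ((3 ^ (2 * m + 1) + 1) / 4) * (3 ^ (2 * m + 1) + 3 ^ (m + 1) + 1)) := by
    rw [card_factor]; ring
  rw [e, Nat.mul_div_cancel_left _ hpos]
  exact Nat.Coprime.mul_right (Nat.Coprime.mul_right (Nat.Coprime.mul_right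
    (cop_q3 m (cop_6_k2 m)) (cop_k0_k2 m).symm) (cop_k1_k2 m).symm) (cop_k2_k3 m)
theorem hall_k3 (m : ℕ) : Nat.Coprime (3 ^ (2 * m + 1) + 3 ^ (m + 1) + 1)
    ((3 ^ (2 * m + 1)) ^ 3 * (3 ^ (2 * m + 1) - 1) * ((3 ^ (2 * m + 1)) ^ 3 + 1) / (3 ^ (2 * m + 1) + 3 ^ (m + 1) + 1)) := by
  have hpos : 0 < 3 ^ (2 * m + 1) + 3 ^ (m + 1) + 1 := Nat.succ_pos _
  have e : (3 ^ (2 * m + 1)) ^ 3 * (3 ^ (2 * m + 1) - 1) * ((3 ^ (2 * m + 1)) ^ 3 + 1) =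
      (3 ^ (2 * m + 1) + 3 ^ (m + 1) + 1) * ((3 ^ (2 * m + 1)) ^ 3 * 8 * ((3 ^ (2 * m + 1) - 1) / 2) *
        ((3 ^ (2 * m + 1) + 1) / 4) * (3 ^ (2 * m + 1) - 3 ^ (m + 1) + 1)) := by
    rw [card_factor]; ring
  rw [e, Nat.mul_div_cancel_left _ hpos]
  exact Nat.Coprime.mul_right (Nat.Coprime.mul_right (Nat.Coprime.mul_right
    (cop_q3 m (cop_6_k3 m)) (cop_k0_k3 m).symm) (cop_k1_k3 m).symm) (cop_k2_k3 m).symm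

/-- the counting identity: with `N = |G|`,
`6 N = 6 + 6 (q^3+1)(2q^3-q^2-1) + 6 q^2(q^2-q+1) + 3 (q-3) q^3 (q^3+1) + (q-3) q^3 (q-1)(q^2-q+1) + RHS(CountT)` -/
theorem count_identity {m : ℕ} (hm : 1 ≤ m) :
    6 * ((3 ^ (2 * m + 1)) ^ 3 * (3 ^ (2 * m + 1) - 1) * ((3 ^ (2 * m + 1)) ^ 3 + 1)) =
      6 + 6 * (((3 ^ (2 * m + 1)) ^ 3 + 1) * (2 * (3 ^ (2 * m + 1)) ^ 3 - (3 ^ (2 * m + 1)) ^ 2 - 1)) +
      6 * ((3 ^ (2 * m + 1)) ^ 2 * ((3 ^ (2 * m + 1)) ^ 2 - 3 ^ (2 * m + 1) + 1)) +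
      3 * ((3 ^ (2 * m + 1) - 3) * (3 ^ (2 * m + 1)) ^ 3 * ((3 ^ (2 * m + 1)) ^ 3 + 1)) +
      (3 ^ (2 * m + 1) - 3) * (3 ^ (2 * m + 1)) ^ 3 * (3 ^ (2 * m + 1) - 1) *
        ((3 ^ (2 * m + 1)) ^ 2 - 3 ^ (2 * m + 1) + 1) +
      (3 ^ (2 * m + 1)) ^ 3 * ((3 ^ (2 * m + 1)) ^ 2 - 1) *
      ((3 ^ (2 * m + 1) - 3 ^ (m + 1)) * (3 ^ (2 * m + 1) + 3 ^ (m + 1) + 1) +
        (3 ^ (2 * m + 1) + 3 ^ (m + 1)) * (3 ^ (2 * m + 1) - 3 ^ (m + 1) + 1)) := by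
  obtain ⟨z, hq, hr, -⟩ := exists_z m
  rw [hq, hr, k2_eq, phi6_eq, qm1_eq]
  have e1 : 12 * z ^ 2 + 12 * z + 3 - 3 = 12 * z ^ 2 + 12 * z := by omega
  have e2 : 12 * z ^ 2 + 12 * z + 3 - (6 * z + 3) = 12 * z ^ 2 + 6 * z := by omega
  have e3 : (12 * z ^ 2 + 12 * z + 3) ^ 2 - 1 =
      (12 * z ^ 2 + 12 * z + 2) * (12 * z ^ 2 + 12 * z + 4) := Nat.sub_eq_of_eq_add (by ring)
  have e4 : 2 * (12 * z ^ 2 + 12 * z + 3) ^ 3 - (12 * z ^ 2 + 12 * z + 3) ^ 2 - 1 =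
      (12 * z ^ 2 + 12 * z + 2) *
        (2 * (12 * z ^ 2 + 12 * z + 3) ^ 2 + (12 * z ^ 2 + 12 * z + 3) + 1) := by
    rw [Nat.sub_sub]
    exact Nat.sub_eq_of_eq_add (by ring)
  rw [e1, e2, e3, e4]
  ring

end Cfsg.Agent.Lib.Lead.ReeAbs.Arith
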