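import Mathlib

/-!
# Abstract groups of Ree type: the interface of the 2G2 campaign

`ReeAx G K m` collects the facts on `G = 2G2(q)`, `q = 3^(2m+1)`, that are proved in the matrix model
(`Cfsg.Lie.twistedG2 K (3^m)`).  Everything else (Sylow 2-subgroups, the four families of cyclic Hall
subgroups, element orders, class sizes, solvable subgroups) is derived abstractly from it.
-/

set_option autoImplicit false

namespace Cfsg.Agent.Lib.Lead.ReeAbs

open Subgroup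

universe u v

/-- `q = 3^(2m+1)` -/
abbrev qq (m : ℕ) : ℕ := 3 ^ (2 * m + 1)

/-- `r = 3^(m+1)`, so that `r^2 = 3q` -/
abbrev rr (m : ℕ) : ℕ := 3 ^ (m + 1)

/-- The facts proved in the model. `U` Sylow 3-subgroup, `H` the cyclic torus of order `q-1`, `B = UH`,
`w` a representative of the nontrivial Weyl element, `a` the involution of `H`. -/
structure ReeAx (G : Type u) [Group G] (K : Type v) [Field K] [Fintype K] (m : ℕ) where
  U : Subgroup G
  H : Subgroup G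
  w : G
  a : G
  hm : 1 ≤ m
  hK : Fintype.card K = 3 ^ (2 * m + 1)
  card_G : Nat.card G = (3 ^ (2 * m + 1)) ^ 3 * (3 ^ (2 * m + 1) - 1) * ((3 ^ (2 * m + 1)) ^ 3 + 1)
  perfect : commutator G = ⊤
  card_U : Nat.card U = (3 ^ (2 * m + 1)) ^ 3
  card_H : Nat.card H = 3 ^ (2 * m + 1) - 1
  cyc_H : IsCyclic H
  H_norm : ∀ h ∈ H, ∀ u ∈ U, h * u * h⁻¹ ∈ U
  /-- `U` is a TI-subgroup with normalizer `UH` -/
  TI : ∀ g : G, (∃ u ∈ U, u ≠ 1 ∧ g * u * g⁻¹ ∈ U) → ∃ u ∈ U, ∃ h ∈ H, g = u * h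
  bruhat : ∀ g : G, (∃ u ∈ U, ∃ h ∈ H, g = u * h) ∨ ∃ u ∈ U, ∃ h ∈ H, ∃ u' ∈ U, g = u * w * h * u'
  w_inv : ∀ h ∈ H, w * h * w⁻¹ = h⁻¹
  w_not : ¬ ∃ u ∈ U, ∃ h ∈ H, w = u * h
  a_mem : a ∈ H
  a_ne : a ≠ 1
  a_sq : a * a = 1
  /-- only `1` and `a` have fixed points on `U \ 1` -/
  cent_H : ∀ h ∈ H, ∀ u ∈ U, u ≠ 1 → h * u = u * h → h = 1 ∨ h = a
  card_CU : Nat.card ↥(U ⊓ centralizer {a}) = 3 ^ (2 * m + 1)
  card_three : Nat.card {u : U // orderOf u = 3} = (3 ^ (2 * m + 1)) ^ 2 - 1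
  exp_U : ∀ u ∈ U, u ^ 9 = 1
  centA : ↥(centralizer ({a} : Set G)) ≃*
    Multiplicative (ZMod 2) × Matrix.ProjectiveSpecialLinearGroup (Fin 2) K

/-- `A` is a cyclic subgroup of order `k` with abelian centralizer of order `c`, normalizer of order `n`,
and every nontrivial subgroup of `A` has the same centralizer and the same normalizer. -/
structure IsTorus {G : Type u} [Group G] (A : Subgroup G) (k c n : ℕ) : Prop where
  cyc : IsCyclic A
  card : Nat.card A = k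
  card_cent : Nat.card ↥(centralizer (A : Set G)) = c
  comm_cent : ∀ x ∈ centralizer (A : Set G), ∀ y ∈ centralizer (A : Set G), x * y = y * x
  card_norm : Nat.card ↥(normalizer (A : Set G)) = n
  cent_eq : ∀ A' : Subgroup G, A' ≤ A → A' ≠ ⊥ → centralizer (A' : Set G) = centralizer (A : Set G)
  norm_eq : ∀ A' : Subgroup G, A' ≤ A → A' ≠ ⊥ → normalizer (A' : Set G) = normalizer (A : Set G)

/-- torus of order `(q-1)/2` -/
def Tor0 (G : Type u) [Group G] (m : ℕ) : Prop :=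
  ∃ A : Subgroup G, IsTorus A ((3 ^ (2 * m + 1) - 1) / 2) (3 ^ (2 * m + 1) - 1) (2 * (3 ^ (2 * m + 1) - 1)) ∧
    IsCyclic ↥(centralizer (A : Set G))

/-- torus of order `(q+1)/4` -/
def Tor1 (G : Type u) [Group G] (m : ℕ) : Prop :=
  ∃ A : Subgroup G, IsTorus A ((3 ^ (2 * m + 1) + 1) / 4) (3 ^ (2 * m + 1) + 1) (6 * (3 ^ (2 * m + 1) + 1)) ∧
    ∀ x ∈ centralizer (A : Set G), orderOf x ≠ 4

/-- torus of order `q-r+1` -/
def Tor2 (G : Type u) [Group G] (m : ℕ) : Prop :=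
  ∃ A : Subgroup G, IsTorus A (3 ^ (2 * m + 1) - 3 ^ (m + 1) + 1) (3 ^ (2 * m + 1) - 3 ^ (m + 1) + 1)
    (6 * (3 ^ (2 * m + 1) - 3 ^ (m + 1) + 1))

/-- torus of order `q+r+1` -/
def Tor3 (G : Type u) [Group G] (m : ℕ) : Prop :=
  ∃ A : Subgroup G, IsTorus A (3 ^ (2 * m + 1) + 3 ^ (m + 1) + 1) (3 ^ (2 * m + 1) + 3 ^ (m + 1) + 1)
    (6 * (3 ^ (2 * m + 1) + 3 ^ (m + 1) + 1))

/-- Sylow 2-subgroups are elementary abelian of order 8, self-centralizing, with normalizer of order 168;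
all involutions are conjugate. -/
structure Syl2 (G : Type u) [Group G] (a : G) : Prop where
  card : ∀ S : Sylow 2 G, Nat.card S = 8
  exp : ∀ S : Sylow 2 G, ∀ x ∈ S, x * x = 1
  cent : ∀ S : Sylow 2 G, centralizer ((S : Subgroup G) : Set G) = S
  norm : ∀ S : Sylow 2 G, Nat.card ↥(normalizer ((S : Subgroup G) : Set G)) = 168
  conj : ∀ t : G, t ≠ 1 → t * t = 1 → ∃ g : G, g * a * g⁻¹ = t

/-- The structure of the centralizers of the elements of prime order dividing `q^2-q+1`. -/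
def TStr (G : Type u) [Group G] (m : ℕ) : Prop :=
  ∀ (p : ℕ) (x : G), p.Prime → p ∣ (3 ^ (2 * m + 1)) ^ 2 - 3 ^ (2 * m + 1) + 1 → orderOf x = p →
    IsCyclic ↥(centralizer ({x} : Set G)) ∧
    Nat.card ↥(centralizer ({x} : Set G)) ∣ (3 ^ (2 * m + 1)) ^ 2 - 3 ^ (2 * m + 1) + 1 ∧
    (Nat.card ↥(centralizer ({x} : Set G))).Coprime (Nat.card G / Nat.card ↥(centralizer ({x} : Set G))) ∧
    (∀ y ∈ centralizer ({x} : Set G), y ≠ 1 → centralizer ({y} : Set G) = centralizer ({x} : Set G)) ∧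
    Nat.card ↥(normalizer ((centralizer ({x} : Set G) : Subgroup G) : Set G)) ∣
      6 * Nat.card ↥(centralizer ({x} : Set G))

/-- The number of elements whose order is not prime to `q^2-q+1`. -/
def CountT (G : Type u) [Group G] (m : ℕ) : Prop :=
  6 * Nat.card {g : G // ¬ (orderOf g).Coprime ((3 ^ (2 * m + 1)) ^ 2 - 3 ^ (2 * m + 1) + 1)} =
    (3 ^ (2 * m + 1)) ^ 3 * ((3 ^ (2 * m + 1)) ^ 2 - 1) *
      ((3 ^ (2 * m + 1) - 3 ^ (m + 1)) * (3 ^ (2 * m + 1) + 3 ^ (m + 1) + 1) +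
        (3 ^ (2 * m + 1) + 3 ^ (m + 1)) * (3 ^ (2 * m + 1) - 3 ^ (m + 1) + 1))

end Cfsg.Agent.Lib.Lead.ReeAbs
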