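import Cfsg.Agent.Lib.Lead.ReeCent2
import Cfsg.Agent.Lib.Lead.ReeAbs.Ax

/-! # [MOD] the instance of `ReeAx` for the matrix model, given the isomorphism `centA` -/

set_option autoImplicit false

namespace Cfsg.Agent.Lib.Lead.ReeAbs

open Cfsg.Lie Matrix Cfsg.Agent.Lib.Helper6 Cfsg.Agent.Lib.Helper18 Cfsg.Agent.Lib.Lead.ChevSpecial
  Cfsg.Agent.Lib.Lead.FixTwist Cfsg.Agent.Lib.Helper17 Cfsg.Agent.Lib.Lead.Ree

namespace Mod

variable {K : Type*} [Field K]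

/-- `H¹` as a subgroup of `G¹` -/
def H1 (K : Type*) [Field K] (m : ℕ) : Subgroup ↥(twistedG2 K (3 ^ m)) :=
  (chevG2.diagonalSubgroup K ⊓ twistedG2 K (3 ^ m)).subgroupOf (twistedG2 K (3 ^ m))

theorem mem_H1 {m : ℕ} (g : ↥(twistedG2 K (3 ^ m))) :
    g ∈ H1 K m ↔ (g : GL chevG2.Idx K) ∈ chevG2.diagonalSubgroup K := by
  unfold H1
  rw [Subgroup.mem_subgroupOf, Subgroup.mem_inf]
  exact ⟨fun h => h.1, fun h => ⟨h, g.2⟩⟩

variable [Fintype K] {m : ℕ} (hK : Fintype.card K = 3 ^ (2 * m + 1))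
  (T : STwist (bnData_of_mem K memG2))
  (hρR : T.ρR = rhoRG2) (hf : ∀ r t, T.f r t = t ^ (3 ^ (m + kG2 r))) [CharP K 3] [Fact (Nat.Prime 3)]

include hK T hρR hf in
/-- the two cells -/
theorem cases_G1 {g : GL chevG2.Idx K} (hg : g ∈ twistedG2 K (3 ^ m)) :
    (∃ u ∈ chevG2.posUnipotent K ⊓ twistedG2 K (3 ^ m),
      ∃ h ∈ chevG2.diagonalSubgroup K ⊓ twistedG2 K (3 ^ m), g = u * h) ∨
    ∃ u₁ ∈ chevG2.posUnipotent K ⊓ twistedG2 K (3 ^ m),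
      ∃ h ∈ chevG2.diagonalSubgroup K, h * (bnData_of_mem K memG2).hB.nW wG2 ∈ twistedG2 K (3 ^ m) ∧
      ∃ u₂ ∈ chevG2.posUnipotent K ⊓ twistedG2 K (3 ^ m),
        g = u₁ * (h * (bnData_of_mem K memG2).hB.nW wG2) * u₂ := by
  obtain ⟨u₁, h1, g1, n, hn, gn, u₂, h2, g2, e⟩ := (fixBN hK T hρR hf).nf_G1 hg
  rcases N1_cases hK T hρR hf hn gn with hH | ⟨h, hh, rfl⟩
  · left
    refine ⟨u₁ * (n * u₂ * n⁻¹), ⟨mul_mem h1 (B_conj_U (Base.H_le_B hH) (Um_le_U n h2)),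
      (twistedG2 K (3 ^ m)).mul_mem g1 ((twistedG2 K (3 ^ m)).mul_mem
        ((twistedG2 K (3 ^ m)).mul_mem gn g2) ((twistedG2 K (3 ^ m)).inv_mem gn))⟩, n, ⟨hH, gn⟩, ?_⟩
    rw [e]; group
  · exact Or.inr ⟨u₁, ⟨h1, g1⟩, h, hh, gn, u₂, ⟨Um_le_U _ h2, g2⟩, e⟩

omit [Fintype K] [CharP K 3] [Fact (Nat.Prime 3)] in
/-- the big cell moves `U` off itself -/
theorem big_cell_TI {g u₁ h u₂ x : GL chevG2.Idx K} (hu₁ : u₁ ∈ chevG2.posUnipotent K)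
    (hh : h ∈ chevG2.diagonalSubgroup K) (hu₂ : u₂ ∈ chevG2.posUnipotent K)
    (e : g = u₁ * (h * (bnData_of_mem K memG2).hB.nW wG2) * u₂)
    (hx : x ∈ chevG2.posUnipotent K) (hx' : g * x * g⁻¹ ∈ chevG2.posUnipotent K) : x = 1 := by
  have h1 : (h * (bnData_of_mem K memG2).hB.nW wG2) * (u₂ * x * u₂⁻¹) *
      (h * (bnData_of_mem K memG2).hB.nW wG2)⁻¹ ∈ chevG2.negUnipotent K :=
    conj_U_mem_V hh (mul_mem (mul_mem hu₂ hx) (inv_mem hu₂))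
  have h2 : (h * (bnData_of_mem K memG2).hB.nW wG2) * (u₂ * x * u₂⁻¹) *
      (h * (bnData_of_mem K memG2).hB.nW wG2)⁻¹ = u₁⁻¹ * (g * x * g⁻¹) * u₁ := by rw [e]; group
  have h3 : (h * (bnData_of_mem K memG2).hB.nW wG2) * (u₂ * x * u₂⁻¹) *
      (h * (bnData_of_mem K memG2).hB.nW wG2)⁻¹ ∈ chevG2.posUnipotent K ⊓ chevG2.negUnipotent K := by
    refine Subgroup.mem_inf.mpr ⟨?_, h1⟩
    rw [h2]
    exact mul_mem (mul_mem (inv_mem hu₁) hx') hu₁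
  rw [(bnData_of_mem K memG2).hB.U_inf_V (bnData_of_mem K memG2).hT.toTabs, Subgroup.mem_bot] at h3
  have h4 : u₂ * x * u₂⁻¹ = 1 := conj_eq_one_iff.mp h3
  exact conj_eq_one_iff.mp h4

include hK T hρR hf in
/-- rewriting `h n_{w₀}` with `ν₀` -/
theorem hnW_eq {h : GL chevG2.Idx K} (hh : h ∈ chevG2.diagonalSubgroup K)
    (hg : h * (bnData_of_mem K memG2).hB.nW wG2 ∈ twistedG2 K (3 ^ m)) :
    ∃ k ∈ chevG2.diagonalSubgroup K ⊓ twistedG2 K (3 ^ m),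
      h * (bnData_of_mem K memG2).hB.nW wG2 = nu0 K * k := by
  obtain ⟨h0, hh0, e0⟩ := nu0_eq hK T hρR hf
  have hk : h * h0⁻¹ ∈ chevG2.diagonalSubgroup K := mul_mem hh (inv_mem hh0)
  have e1 : h * (bnData_of_mem K memG2).hB.nW wG2 = (h * h0⁻¹) * nu0 K := by rw [e0]; group
  have hk1 : h * h0⁻¹ ∈ twistedG2 K (3 ^ m) := by
    have : h * h0⁻¹ = (h * (bnData_of_mem K memG2).hB.nW wG2) * (nu0 K)⁻¹ := by rw [e1]; group
    rw [this]
    exact mul_mem hg (inv_mem (nu0_mem_G1 hK T hρR hf))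
  refine ⟨(h * h0⁻¹)⁻¹, ⟨(chevG2.diagonalSubgroup K).inv_mem hk,
    (twistedG2 K (3 ^ m)).inv_mem hk1⟩, ?_⟩
  have h2 := nu0_conj_H hK T hρR hf (inv_mem hk)
  rw [inv_inv] at h2
  rw [e1]
  calc h * h0⁻¹ * nu0 K = (nu0 K * (h * h0⁻¹)⁻¹ * (nu0 K)⁻¹) * nu0 K := by rw [h2]
    _ = nu0 K * (h * h0⁻¹)⁻¹ := by group

include hK T hρR hf in
theorem eq_hR_neg_one {a : GL chevG2.Idx K} (haH : a ∈ chevG2.diagonalSubgroup K)
    (haG : a ∈ twistedG2 K (3 ^ m)) (ha1 : a ≠ 1) (ha2 : a * a = 1) : a = hR K m (-1) := by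
  have h : a ∈ chevG2.diagonalSubgroup K ⊓ twistedG2 K (3 ^ m) := ⟨haH, haG⟩
  rw [← range_hR hK T hρR hf] at h
  obtain ⟨c, rfl⟩ := h
  have hc1 : c ≠ 1 := by rintro rfl; exact ha1 (map_one _)
  have h4 : c * c = 1 := hR_injective (by rw [map_mul, ha2, map_one])
  have h5 : ((c : Kˣ) : K) * ((c : Kˣ) : K) = 1 := by
    rw [← Units.val_mul, h4, Units.val_one]
  rcases mul_self_eq_one_iff.mp h5 with h | h
  · exact absurd (Units.ext h) hc1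
  · congr 1
    exact Units.ext (by rw [h]; simp)

theorem Wd_cube (t u v : K) : ∃ u' v', Wd hK T hρR hf t u v ^ 3 = Wd hK T hρR hf 0 u' v' := by
  have h3 : t + t + t = 0 := by
    have : (3 : K) = 0 := three_eq_zero
    linear_combination t * this
  rw [pow_succ, pow_two, Wd_mul, Wd_mul, h3]
  exact ⟨_, _, rfl⟩

theorem Wd_zero_cube (u v : K) : Wd hK T hρR hf 0 u v ^ 3 = 1 := by
  have h := congrArg (fun g : ↥(chevG2.group K) => (g : GL chevG2.Idx K))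
    ((sysU2 hK T hρR hf).word_zero_cube u v)
  rw [pow_succ, pow_two]
  exact h

theorem Wd_pow_nine (t u v : K) : Wd hK T hρR hf t u v ^ 9 = 1 := by
  obtain ⟨u', v', e⟩ := Wd_cube hK T hρR hf t u v
  rw [show 9 = 3 * 3 from rfl, pow_mul, e, Wd_zero_cube]

/-- the centraliser of `a = h(-1)` in `U` -/
theorem Wd_commute_iff (t u v : K) :
    hR K m (-1) * Wd hK T hρR hf t u v = Wd hK T hρR hf t u v * hR K m (-1) ↔ t = 0 ∧ v = 0 := by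
  have h1 := conj_Wd hK T hρR hf (-1) t u v
  rw [ch3_neg_one, chB_neg_one] at h1
  have h3 : (3 : K) = 0 := three_eq_zero
  constructor
  · intro h
    rw [h, mul_inv_cancel_right] at h1
    obtain ⟨a, -, c⟩ := Wd_inj hK T hρR hf h1
    simp only [Units.val_neg, Units.val_one] at a c
    constructor
    · linear_combination (-1 : K) * a + t * h3
    · linear_combination (-1 : K) * c + v * h3
  · rintro ⟨rfl, rfl⟩
    simp only [mul_zero, Units.val_one, one_mul] at h1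
    exact mul_inv_eq_iff_eq_mul.mp h1

include hK T hρR hf in
theorem card_H1' : Nat.card ↥(H1 K m) = 3 ^ (2 * m + 1) - 1 := by
  unfold H1
  rw [Nat.card_congr (Subgroup.subgroupOfEquivOfLe inf_le_right).toEquiv, card_H1 hK T hρR hf]

include hK T hρR hf in
theorem isCyclic_H1' : IsCyclic ↥(H1 K m) := by
  have := isCyclic_H1 hK T hρR hf
  exact isCyclic_of_surjective (Subgroup.subgroupOfEquivOfLe
    (inf_le_right : chevG2.diagonalSubgroup K ⊓ twistedG2 K (3 ^ m) ≤ twistedG2 K (3 ^ m))).symm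
    (MulEquiv.surjective _)

omit [Fintype K] [CharP K 3] [Fact (Nat.Prime 3)] in
theorem H_norm' : ∀ h ∈ H1 K m, ∀ u ∈ U1 K m, h * u * h⁻¹ ∈ U1 K m := by
  intro h hh u hu
  rw [mem_H1] at hh
  rw [mem_U1] at hu ⊢
  exact B_conj_U (Base.H_le_B hh) hu

include hK T hρR hf in
theorem TI' (g : ↥(twistedG2 K (3 ^ m))) (h : ∃ u ∈ U1 K m, u ≠ 1 ∧ g * u * g⁻¹ ∈ U1 K m) :
    ∃ u ∈ U1 K m, ∃ h ∈ H1 K m, g = u * h := by
  obtain ⟨x, hx, hx1, hx'⟩ := h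
  rw [mem_U1] at hx hx'
  rcases cases_G1 hK T hρR hf g.2 with ⟨u, hu, h, hh, e⟩ | ⟨u₁, hu₁, h, hh, -, u₂, hu₂, e⟩
  · exact ⟨⟨u, hu.2⟩, (mem_U1 _).2 hu.1, ⟨h, hh.2⟩, (mem_H1 _).2 hh.1, Subtype.ext e⟩
  · exact absurd (Subtype.ext (big_cell_TI hu₁.1 hh hu₂.1 e hx hx')) hx1

theorem bruhat' (g : ↥(twistedG2 K (3 ^ m))) : (∃ u ∈ U1 K m, ∃ h ∈ H1 K m, g = u * h) ∨
    ∃ u ∈ U1 K m, ∃ h ∈ H1 K m, ∃ u' ∈ U1 K m,
      g = u * ⟨nu0 K, nu0_mem_G1 hK T hρR hf⟩ * h * u' := by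
  rcases cases_G1 hK T hρR hf g.2 with ⟨u, hu, h, hh, e⟩ | ⟨u₁, hu₁, h, hh, hg, u₂, hu₂, e⟩
  · exact Or.inl ⟨⟨u, hu.2⟩, (mem_U1 _).2 hu.1, ⟨h, hh.2⟩, (mem_H1 _).2 hh.1, Subtype.ext e⟩
  · right
    obtain ⟨k, hk, ek⟩ := hnW_eq hK T hρR hf hh hg
    refine ⟨⟨u₁, hu₁.2⟩, (mem_U1 _).2 hu₁.1, ⟨k, hk.2⟩, (mem_H1 _).2 hk.1, ⟨u₂, hu₂.2⟩,
      (mem_U1 _).2 hu₂.1, Subtype.ext ?_⟩
    show (g : GL chevG2.Idx K) = u₁ * nu0 K * k * u₂
    rw [e, ek]; group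

include hK T hρR hf in
theorem cent_H' (a : ↥(twistedG2 K (3 ^ m))) (haeq : (a : GL chevG2.Idx K) = hR K m (-1)) :
    ∀ h ∈ H1 K m, ∀ u ∈ U1 K m, u ≠ 1 → h * u = u * h → h = 1 ∨ h = a := by
  intro h hh u hu hu1 hc
  rw [mem_H1] at hh
  rw [mem_U1] at hu
  rcases centralizer_H1 hK T hρR hf ⟨hh, h.2⟩ ⟨hu, u.2⟩ (fun e => hu1 (Subtype.ext e))
    (congrArg Subtype.val hc) with e | e
  · exact Or.inl (Subtype.ext e)
  · exact Or.inr (Subtype.ext (e.trans haeq.symm))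

theorem Wd_mem_CU (a : ↥(twistedG2 K (3 ^ m))) (haeq : (a : GL chevG2.Idx K) = hR K m (-1)) (x : K) :
    (⟨Wd hK T hρR hf 0 x 0, Wd_mem_G1 hK T hρR hf 0 x 0⟩ : ↥(twistedG2 K (3 ^ m))) ∈
      U1 K m ⊓ Subgroup.centralizer {a} := by
  refine Subgroup.mem_inf.2 ⟨(mem_U1 _).2 (Wd_mem hK T hρR hf 0 x 0).1, ?_⟩
  rw [Subgroup.mem_centralizer_singleton_iff]
  apply Subtype.ext
  show Wd hK T hρR hf 0 x 0 * (a : GL chevG2.Idx K) = (a : GL chevG2.Idx K) * Wd hK T hρR hf 0 x 0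
  rw [haeq]
  exact ((Wd_commute_iff hK T hρR hf 0 x 0).2 ⟨rfl, rfl⟩).symm

include hK T hρR hf in
theorem card_CU' (a : ↥(twistedG2 K (3 ^ m))) (haeq : (a : GL chevG2.Idx K) = hR K m (-1)) :
    Nat.card ↥(U1 K m ⊓ Subgroup.centralizer {a}) = 3 ^ (2 * m + 1) := by
  rw [← hK, ← Nat.card_eq_fintype_card]
  symm
  refine Nat.card_congr (Equiv.ofBijective (fun x : K =>
    (⟨_, Wd_mem_CU hK T hρR hf a haeq x⟩ : ↥(U1 K m ⊓ Subgroup.centralizer {a}))) ⟨?_, ?_⟩)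
  · intro x y h
    have h1 : Wd hK T hρR hf 0 x 0 = Wd hK T hρR hf 0 y 0 :=
      congrArg (fun z : ↥(U1 K m ⊓ Subgroup.centralizer {a}) =>
        ((z : ↥(twistedG2 K (3 ^ m))) : GL chevG2.Idx K)) h
    exact (Wd_inj hK T hρR hf h1).2.1
  · rintro ⟨g, hg⟩
    obtain ⟨hU, hC⟩ := Subgroup.mem_inf.1 hg
    rw [mem_U1] at hU
    have hU' : (g : GL chevG2.Idx K) ∈ chevG2.posUnipotent K ⊓ T.F := by
      rw [← U_inf_G1_eq hK T hρR hf]; exact ⟨hU, g.2⟩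
    obtain ⟨t, u, v, e⟩ := exists_Wd hK T hρR hf hU'
    rw [Subgroup.mem_centralizer_singleton_iff] at hC
    have hc : hR K m (-1) * Wd hK T hρR hf t u v = Wd hK T hρR hf t u v * hR K m (-1) := by
      rw [← e, ← haeq]; exact (congrArg Subtype.val hC).symm
    obtain ⟨rfl, rfl⟩ := (Wd_commute_iff hK T hρR hf t u v).1 hc
    exact ⟨u, Subtype.ext (Subtype.ext e.symm)⟩

include hK T hρR hf in
theorem card_three' : Nat.card {u : ↥(U1 K m) // orderOf u = 3} = (3 ^ (2 * m + 1)) ^ 2 - 1 := by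
  rw [← card_order_three hK T hρR hf]
  apply Nat.card_congr
  unfold U1
  refine (Subgroup.subgroupOfEquivOfLe
    (inf_le_right : chevG2.posUnipotent K ⊓ twistedG2 K (3 ^ m) ≤ twistedG2 K (3 ^ m))).toEquiv.subtypeEquiv ?_
  intro u
  show _ ↔ orderOf ((Subgroup.subgroupOfEquivOfLe _) u) = 3
  rw [MulEquiv.orderOf_eq]

include hK T hρR hf in
theorem exp_U' : ∀ u ∈ U1 K m, u ^ 9 = 1 := by
  intro g hU
  rw [mem_U1] at hU
  have hU' : (g : GL chevG2.Idx K) ∈ chevG2.posUnipotent K ⊓ T.F := by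
    rw [← U_inf_G1_eq hK T hρR hf]; exact ⟨hU, g.2⟩
  obtain ⟨t, u, v, e⟩ := exists_Wd hK T hρR hf hU'
  apply Subtype.ext
  rw [Subgroup.coe_pow, e, Wd_pow_nine]
  rfl

end Mod

open Mod in

theorem exists_reeAx {K : Type*} [Field K] [Fintype K] {m : ℕ} (hm : 1 ≤ m) (hK : Fintype.card K = 3 ^ (2 * m + 1))
    (a : ↥(twistedG2 K (3 ^ m))) (haH : (a : GL chevG2.Idx K) ∈ chevG2.diagonalSubgroup K) (ha1 : a ≠ 1)
    (ha2 : a * a = 1)
    (e : ↥(Subgroup.centralizer ({a} : Set ↥(twistedG2 K (3 ^ m)))) ≃*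
      Multiplicative (ZMod 2) × Matrix.ProjectiveSpecialLinearGroup (Fin 2) K) :
    ∃ X : ReeAx ↥(twistedG2 K (3 ^ m)) K m, X.a = a := by
  have : Fact (Nat.Prime 3) := ⟨by norm_num⟩
  have : CharP K 3 := charP_of_card_eq_prime_pow hK
  obtain ⟨T, -, hρR, hf⟩ := Cfsg.Agent.Lib.Lead.Ree.exists_twist hK
  have haeq : (a : GL chevG2.Idx K) = hR K m (-1) :=
    eq_hR_neg_one hK T hρR hf haH a.2 (fun h => ha1 (Subtype.ext h)) (congrArg Subtype.val ha2)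
  refine ⟨{ U := U1 K m, H := H1 K m, w := ⟨nu0 K, nu0_mem_G1 hK T hρR hf⟩, a := a, hm := hm, hK := hK,
            card_G := card_G1 hK T hρR hf, perfect := perfect hK T hρR hf hm,
            card_U := ?_, card_H := card_H1' hK T hρR hf, cyc_H := isCyclic_H1' hK T hρR hf,
            H_norm := H_norm', TI := TI' hK T hρR hf, bruhat := bruhat' hK T hρR hf,
            w_inv := ?_, w_not := ?_,
            a_mem := (mem_H1 a).2 haH, a_ne := ha1, a_sq := ha2, cent_H := cent_H' hK T hρR hf a haeq,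
            card_CU := card_CU' hK T hρR hf a haeq, card_three := card_three' hK T hρR hf,
            exp_U := exp_U' hK T hρR hf, centA := e }, rfl⟩
  · rw [card_U1 hK T hρR hf, ← pow_mul, mul_comm]
  · intro h hh
    rw [mem_H1] at hh
    exact Subtype.ext (nu0_conj_H hK T hρR hf hh)
  · rintro ⟨u, hu, h, hh, e'⟩
    rw [mem_U1] at hu
    rw [mem_H1] at hh
    apply nu0_not_mem_B hK T hρR hf
    have h1 : nu0 K = (u : GL chevG2.Idx K) * h := congrArg Subtype.val e'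
    rw [h1]
    exact mul_mem (Base.U_le_B hu) (Base.H_le_B hh)

end Cfsg.Agent.Lib.Lead.ReeAbs
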