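import Cfsg.Agent.Lib.Lead.ReeAbs.Ax
import Cfsg.Agent.Lib.Helper5.LinearCard

/-! # [P0] the Borel subgroup, 3-elements, the torus H -/

set_option autoImplicit false
set_option linter.unusedSectionVars false
set_option linter.deprecated false

namespace Cfsg.Agent.Lib.Lead.ReeAbs

open Subgroup
open scoped Pointwise

universe u v

variable {G : Type u} [Group G] [Finite G] {K : Type v} [Field K] [Fintype K] {m : ℕ} (X : ReeAx G K m)

/-- the Borel subgroup -/
def ReeAx.B : Subgroup G := X.U ⊔ X.H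

/-! ### arithmetic -/

lemma q_eq (m : ℕ) : 3 ^ (2 * m + 1) = 3 * 3 ^ (2 * m) := by rw [pow_succ]; ring

lemma q_pos (m : ℕ) : 0 < 3 ^ (2 * m + 1) := by positivity

lemma cop_three_qm (m : ℕ) : Nat.Coprime 3 (3 ^ (2 * m + 1) - 1) := by
  rw [Nat.Prime.coprime_iff_not_dvd Nat.prime_three, q_eq]
  have : 0 < 3 ^ (2 * m) := by positivity
  omega

lemma cop_pow_qm (m k : ℕ) : Nat.Coprime (3 ^ k) (3 ^ (2 * m + 1) - 1) :=
  Nat.Coprime.pow_left k (cop_three_qm m)

lemma cop_three_qc (m : ℕ) : Nat.Coprime 3 ((3 ^ (2 * m + 1)) ^ 3 + 1) := by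
  rw [Nat.Prime.coprime_iff_not_dvd Nat.prime_three, q_eq]
  have : (3 * 3 ^ (2 * m)) ^ 3 = 3 * (9 * (3 ^ (2 * m)) ^ 3) := by ring
  rw [this]
  omega

/-! ### the Borel subgroup -/

omit [Finite G] in
lemma H_norm' {h u : G} (hh : h ∈ X.H) (hu : u ∈ X.U) : h⁻¹ * u * h ∈ X.U := by
  have := X.H_norm h⁻¹ (X.H.inv_mem hh) u hu
  rwa [inv_inv] at this

theorem mem_B {g : G} : g ∈ X.B ↔ ∃ u ∈ X.U, ∃ h ∈ X.H, g = u * h := by
  constructor
  · intro hg
    let B' : Subgroup G :=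
      { carrier := {g | ∃ u ∈ X.U, ∃ h ∈ X.H, g = u * h}
        one_mem' := ⟨1, X.U.one_mem, 1, X.H.one_mem, by simp⟩
        mul_mem' := by
          rintro _ _ ⟨u, hu, h, hh, rfl⟩ ⟨u', hu', h', hh', rfl⟩
          exact ⟨u * (h * u' * h⁻¹), X.U.mul_mem hu (X.H_norm h hh u' hu'), h * h',
            X.H.mul_mem hh hh', by group⟩
        inv_mem' := by
          rintro _ ⟨u, hu, h, hh, rfl⟩
          exact ⟨h⁻¹ * u⁻¹ * h, H_norm' X hh (X.U.inv_mem hu), h⁻¹, X.H.inv_mem hh, by group⟩ }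
    have h1 : X.B ≤ B' := by
      apply sup_le
      · intro u hu
        exact ⟨u, hu, 1, X.H.one_mem, by simp⟩
      · intro h hh
        exact ⟨1, X.U.one_mem, h, hh, by simp⟩
    exact h1 hg
  · rintro ⟨u, hu, h, hh, rfl⟩
    exact Subgroup.mul_mem_sup hu hh

theorem U_inf_H : X.U ⊓ X.H = ⊥ := by
  apply Subgroup.inf_eq_bot_of_coprime
  rw [X.card_U, X.card_H, ← pow_mul]
  exact cop_pow_qm m _

lemma eq_one_of_mem_U_H {g : G} (h1 : g ∈ X.U) (h2 : g ∈ X.H) : g = 1 := by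
  have : g ∈ X.U ⊓ X.H := ⟨h1, h2⟩
  rwa [U_inf_H, mem_bot] at this

/-- uniqueness of the decomposition -/
lemma uh_unique {u u' h h' : G} (hu : u ∈ X.U) (hu' : u' ∈ X.U) (hh : h ∈ X.H) (hh' : h' ∈ X.H)
    (e : u * h = u' * h') : u = u' ∧ h = h' := by
  have h1 : u'⁻¹ * u = h' * h⁻¹ := by
    have : u'⁻¹ * (u * h) * h⁻¹ = u'⁻¹ * (u' * h') * h⁻¹ := by rw [e]
    simpa [mul_assoc] using this
  have h2 : u'⁻¹ * u = 1 := eq_one_of_mem_U_H X (X.U.mul_mem (X.U.inv_mem hu') hu)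
    (h1 ▸ X.H.mul_mem hh' (X.H.inv_mem hh))
  have h3 : u = u' := by rwa [inv_mul_eq_one, eq_comm] at h2
  subst h3
  exact ⟨rfl, mul_left_cancel e⟩

/-- `U × H ≃ B` -/
noncomputable def equivB : X.U × X.H ≃ X.B :=
  Equiv.ofBijective (fun p => ⟨(p.1 : G) * (p.2 : G), (mem_B X).2 ⟨_, p.1.2, _, p.2.2, rfl⟩⟩) (by
    constructor
    · rintro ⟨u, h⟩ ⟨u', h'⟩ e
      have e' : (u : G) * h = u' * h' := congrArg Subtype.val e
      obtain ⟨h1, h2⟩ := uh_unique X u.2 u'.2 h.2 h'.2 e'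
      exact Prod.ext (Subtype.ext h1) (Subtype.ext h2)
    · rintro ⟨g, hg⟩
      obtain ⟨u, hu, h, hh, rfl⟩ := (mem_B X).1 hg
      exact ⟨(⟨u, hu⟩, ⟨h, hh⟩), rfl⟩)

lemma equivB_coe (p : X.U × X.H) : ((equivB X p : X.B) : G) = (p.1 : G) * (p.2 : G) := rfl

theorem card_B : Nat.card X.B = (3 ^ (2 * m + 1)) ^ 3 * (3 ^ (2 * m + 1) - 1) := by
  rw [← Nat.card_congr (equivB X), Nat.card_prod, X.card_U, X.card_H]

lemma exists_U_ne_one : ∃ u ∈ X.U, u ≠ 1 := by
  have h1 : 1 < Nat.card X.U := by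
    rw [X.card_U]
    have := q_pos m
    have h3 : 3 ≤ 3 ^ (2 * m + 1) := by rw [q_eq]; have : 0 < 3 ^ (2 * m) := by positivity
                                        omega
    calc 1 < 3 := by norm_num
      _ ≤ 3 ^ (2 * m + 1) := h3
      _ ≤ (3 ^ (2 * m + 1)) ^ 3 := Nat.le_self_pow (by norm_num) _
  have : Nontrivial X.U := (Finite.one_lt_card_iff_nontrivial).1 h1
  obtain ⟨u, hu⟩ := exists_ne (1 : X.U)
  exact ⟨u, u.2, fun h => hu (Subtype.ext h)⟩

lemma TI' {g u : G} (hu : u ∈ X.U) (h1 : u ≠ 1) (h : g * u * g⁻¹ ∈ X.U) : g ∈ X.B :=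
  (mem_B X).2 (X.TI g ⟨u, hu, h1, h⟩)

theorem normalizer_U : normalizer (X.U : Set G) = X.B := by
  apply le_antisymm
  · intro g hg
    obtain ⟨u, hu, h1⟩ := exists_U_ne_one X
    exact TI' X hu h1 ((mem_normalizer_iff.1 hg u).1 hu)
  · apply sup_le le_normalizer
    intro h hh
    rw [mem_normalizer_iff]
    intro u
    constructor
    · exact X.H_norm h hh u
    · intro hu
      have := H_norm' X hh hu
      have e : h⁻¹ * (h * u * h⁻¹) * h = u := by group
      rwa [e] at this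

omit [Finite G] in
lemma pow_uh {u h : G} (hu : u ∈ X.U) (hh : h ∈ X.H) (n : ℕ) :
    ∃ u' ∈ X.U, (u * h) ^ n = u' * h ^ n := by
  induction n with
  | zero => exact ⟨1, X.U.one_mem, by simp⟩
  | succ n ih =>
    obtain ⟨u', hu', e⟩ := ih
    refine ⟨u * (h * u' * h⁻¹), X.U.mul_mem hu (X.H_norm h hh u' hu'), ?_⟩
    rw [pow_succ', e, pow_succ']
    group

lemma H_pow_three {h : G} (hh : h ∈ X.H) {k : ℕ} (e : h ^ 3 ^ k = 1) : h = 1 := by
  have h1 : orderOf h ∣ 3 ^ k := orderOf_dvd_of_pow_eq_one e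
  have h2 : orderOf h ∣ 3 ^ (2 * m + 1) - 1 := by
    rw [← X.card_H]
    have := orderOf_dvd_natCard (⟨h, hh⟩ : X.H)
    rwa [Subgroup.orderOf_mk] at this
  have h3 := Nat.dvd_gcd h1 h2
  rw [cop_pow_qm m k] at h3
  exact orderOf_eq_one_iff.1 (Nat.dvd_one.1 h3)

/-- `U` is the set of 3-elements of `B` -/
theorem mem_U_of_three {g : G} (hg : g ∈ X.B) {k : ℕ} (h : g ^ 3 ^ k = 1) : g ∈ X.U := by
  obtain ⟨u, hu, h', hh', rfl⟩ := (mem_B X).1 hg
  obtain ⟨u', hu', e⟩ := pow_uh X hu hh' (3 ^ k)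
  rw [h] at e
  have h1 : h' ^ 3 ^ k = u'⁻¹ := eq_inv_of_mul_eq_one_right e.symm
  have h2 : h' ^ 3 ^ k = 1 := eq_one_of_mem_U_H X (h1 ▸ X.U.inv_mem hu') (X.H.pow_mem hh' _)
  rw [H_pow_three X hh' h2, mul_one]
  exact hu

theorem cent_three {u : G} (hu : u ∈ X.U) (h1 : u ≠ 1) : centralizer {u} ≤ X.B := by
  intro g hg
  rw [mem_centralizer_singleton_iff] at hg
  apply TI' X hu h1
  rw [hg, mul_inv_cancel_right]
  exact hu

lemma isPGroup_U : IsPGroup 3 X.U := by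
  apply IsPGroup.of_card (n := (2 * m + 1) * 3)
  rw [X.card_U, ← pow_mul]

theorem exists_sylow_U : ∃ P : Sylow 3 G, (P : Subgroup G) = X.U := by
  obtain ⟨P, hP⟩ := (isPGroup_U X).exists_le_sylow
  refine ⟨P, ?_⟩
  symm
  apply Subgroup.eq_of_le_of_card_ge hP
  obtain ⟨k, hk⟩ := (IsPGroup.iff_card).1 P.isPGroup'
  have h1 : Nat.card (P : Subgroup G) ∣ Nat.card G := Subgroup.card_subgroup_dvd_card _
  rw [X.card_G, mul_assoc] at h1
  have h2 : Nat.Coprime (Nat.card (P : Subgroup G))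
      ((3 ^ (2 * m + 1) - 1) * ((3 ^ (2 * m + 1)) ^ 3 + 1)) := by
    rw [hk]
    exact Nat.Coprime.pow_left k (Nat.Coprime.mul_right (cop_three_qm m) (cop_three_qc m))
  have h3 := Nat.Coprime.dvd_of_dvd_mul_right h2 h1
  rw [X.card_U]
  exact Nat.le_of_dvd (by positivity) h3

theorem exists_conj_mem_U {g : G} {k : ℕ} (h : g ^ 3 ^ k = 1) : ∃ x : G, x * g * x⁻¹ ∈ X.U := by
  obtain ⟨P, hP⟩ := exists_sylow_U X
  have hz : IsPGroup 3 (zpowers g) := by
    obtain ⟨j, -, hj⟩ := (Nat.dvd_prime_pow Nat.prime_three).1 (orderOf_dvd_of_pow_eq_one h)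
    apply IsPGroup.of_card (n := j)
    rw [Nat.card_zpowers, hj]
  obtain ⟨Q, hQ⟩ := hz.exists_le_sylow
  obtain ⟨x, hx⟩ := MulAction.exists_smul_eq G Q P
  refine ⟨x, ?_⟩
  rw [← hP, ← hx, Sylow.coe_subgroup_smul]
  have := Subgroup.smul_mem_pointwise_smul g (MulAut.conj x) (Q : Subgroup G)
    (hQ (mem_zpowers g))
  simpa [MulAut.smul_def] using this

include X in
theorem card_sylow3 : Nat.card (Sylow 3 G) = (3 ^ (2 * m + 1)) ^ 3 + 1 := by
  obtain ⟨P, hP⟩ := exists_sylow_U X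
  rw [Sylow.card_eq_index_normalizer P]
  have e : normalizer (P : Set G) = X.B := by
    rw [← normalizer_U X, ← hP]; rfl
  rw [e]
  have h1 := Subgroup.card_mul_index X.B
  rw [card_B, X.card_G] at h1
  have hq : 1 < 3 ^ (2 * m + 1) := by
    rw [q_eq]; have : 0 < 3 ^ (2 * m) := by positivity
    omega
  have h2 : 0 < (3 ^ (2 * m + 1)) ^ 3 * (3 ^ (2 * m + 1) - 1) :=
    Nat.mul_pos (by positivity) (by omega)
  exact Nat.eq_of_mul_eq_mul_left h2 h1

lemma mem_smul_iff {x z : G} {P : Subgroup G} : z ∈ MulAut.conj x • P ↔ x⁻¹ * z * x ∈ P := by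
  rw [Subgroup.mem_pointwise_smul_iff_inv_smul_mem]
  simp [MulAut.smul_def]

include X in
/-- Sylow 3-subgroups are TI -/
theorem sylow3_TI (P Q : Sylow 3 G) (h : P ≠ Q) : (P : Subgroup G) ⊓ Q = ⊥ := by
  obtain ⟨P₀, hP₀⟩ := exists_sylow_U X
  obtain ⟨x, hx⟩ := MulAction.exists_smul_eq G P₀ P
  obtain ⟨y, hy⟩ := MulAction.exists_smul_eq G P₀ Q
  rw [eq_bot_iff]
  intro z hz
  rw [mem_bot]
  by_contra hz1
  apply h
  have h1 : x⁻¹ * z * x ∈ X.U := by
    have := hz.1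
    rw [← hx] at this
    have h' : z ∈ MulAut.conj x • (P₀ : Subgroup G) := by
      rw [← Sylow.coe_subgroup_smul]; exact this
    rw [mem_smul_iff, hP₀] at h'
    exact h'
  have h2 : y⁻¹ * z * y ∈ X.U := by
    have := hz.2
    rw [← hy] at this
    have h' : z ∈ MulAut.conj y • (P₀ : Subgroup G) := by
      rw [← Sylow.coe_subgroup_smul]; exact this
    rw [mem_smul_iff, hP₀] at h'
    exact h'
  have h3 : y⁻¹ * x ∈ X.B := by
    apply TI' X h1
    · intro e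
      apply hz1
      have : z = x * (x⁻¹ * z * x) * x⁻¹ := by group
      rw [this, e]; group
    · have : y⁻¹ * x * (x⁻¹ * z * x) * (y⁻¹ * x)⁻¹ = y⁻¹ * z * y := by group
      rw [this]; exact h2
  rw [← normalizer_U, ← hP₀] at h3
  have h4 : (y⁻¹ * x) • P₀ = P₀ := Sylow.smul_eq_iff_mem_normalizer.2 h3
  rw [← hx, ← hy]
  rw [mul_smul, inv_smul_eq_iff] at h4
  exact h4

/-- an element whose order is divisible by 3 lies in a conjugate of `B` -/
theorem exists_conj_mem_B {g : G} (h : 3 ∣ orderOf g) : ∃ x : G, x * g * x⁻¹ ∈ X.B := by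
  obtain ⟨n, hn⟩ := h
  have ho : orderOf (g ^ n) = 3 := by
    have hpos : 0 < orderOf g := orderOf_pos g
    have : n ∣ orderOf g := ⟨3, by rw [hn, mul_comm]⟩
    rw [orderOf_pow_of_dvd (by rintro rfl; simp at hn; omega) this, hn]
    exact Nat.mul_div_cancel _ (Nat.pos_of_ne_zero (by rintro rfl; simp at hn; omega))
  obtain ⟨x, hx⟩ := exists_conj_mem_U X (g := g ^ n) (k := 1) (by rw [pow_one, ← ho, pow_orderOf_eq_one])
  refine ⟨x, cent_three X hx ?_ ?_⟩
  · intro e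
    have : g ^ n = 1 := by
      have : g ^ n = x⁻¹ * (x * g ^ n * x⁻¹) * x := by group
      rw [this, e]; group
    rw [this, orderOf_one] at ho
    omega
  · rw [mem_centralizer_singleton_iff]
    have : g * g ^ n = g ^ n * g := by rw [← pow_succ, ← pow_succ']
    calc x * g * x⁻¹ * (x * g ^ n * x⁻¹) = x * (g * g ^ n) * x⁻¹ := by group
      _ = x * (g ^ n * g) * x⁻¹ := by rw [this]
      _ = x * g ^ n * x⁻¹ * (x * g * x⁻¹) := by group

/-! ### the torus `H` -/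

lemma H_comm {h h' : G} (hh : h ∈ X.H) (hh' : h' ∈ X.H) : h * h' = h' * h := by
  have := X.cyc_H
  have h1 := (IsCyclic.commGroup (α := X.H)).mul_comm ⟨h, hh⟩ ⟨h', hh'⟩
  exact congrArg Subtype.val h1

lemma a_inv : X.a⁻¹ = X.a := inv_eq_of_mul_eq_one_left X.a_sq

/-- an element of `U` commuting with `h ∈ H \ {1,a}` is trivial -/
lemma U_comm_eq_one {h u : G} (hh : h ∈ X.H) (h1 : h ≠ 1) (ha : h ≠ X.a) (hu : u ∈ X.U)
    (e : h * u = u * h) : u = 1 := by
  by_contra hu1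
  rcases X.cent_H h hh u hu hu1 e with h2 | h2
  · exact h1 h2
  · exact ha h2

/-- if `u h u⁻¹ ∈ H` then `u` commutes with `h` -/
lemma comm_of_conj_mem_H {h u : G} (hh : h ∈ X.H) (hu : u ∈ X.U) (e : u * h * u⁻¹ ∈ X.H) :
    h * u = u * h := by
  have h1 : u * (h * u⁻¹ * h⁻¹) = (u * h * u⁻¹) * h⁻¹ := by group
  have h2 : u * (h * u⁻¹ * h⁻¹) = 1 := eq_one_of_mem_U_H X
    (X.U.mul_mem hu (X.H_norm h hh _ (X.U.inv_mem hu))) (h1 ▸ X.H.mul_mem e (X.H.inv_mem hh))
  have h3 : u * h * u⁻¹ * h⁻¹ = 1 := by rw [← h1, h2]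
  have h4 : u * h * u⁻¹ = h := by rwa [mul_inv_eq_one] at h3
  rw [mul_inv_eq_iff_eq_mul] at h4
  exact h4.symm

lemma w_not_mem_B : X.w ∉ X.B := fun h => X.w_not ((mem_B X).1 h)

theorem conj_H {h : G} (hh : h ∈ X.H) (h1 : h ≠ 1) (ha : h ≠ X.a) {g : G} (hg : g * h * g⁻¹ ∈ X.H) :
    g ∈ X.H ∨ ∃ h' ∈ X.H, g = X.w * h' := by
  rcases X.bruhat g with ⟨u₁, hu₁, h₁, hh₁, rfl⟩ | ⟨u₁, hu₁, h₁, hh₁, u₂, hu₂, rfl⟩
  · left
    have e1 : u₁ * h₁ * h * (u₁ * h₁)⁻¹ = u₁ * h * u₁⁻¹ := by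
      have : h₁ * h = h * h₁ := H_comm X hh₁ hh
      calc u₁ * h₁ * h * (u₁ * h₁)⁻¹ = u₁ * (h₁ * h) * h₁⁻¹ * u₁⁻¹ := by group
        _ = u₁ * h * u₁⁻¹ := by rw [this]; group
    rw [e1] at hg
    have e2 := comm_of_conj_mem_H X hh hu₁ hg
    rw [U_comm_eq_one X hh h1 ha hu₁ e2, one_mul]
    exact hh₁
  · right
    obtain ⟨h', hh'def⟩ : ∃ h', h' = u₁ * X.w * h₁ * u₂ * h * (u₁ * X.w * h₁ * u₂)⁻¹ := ⟨_, rfl⟩
    rw [← hh'def] at hg
    obtain ⟨v₂, hv₂def⟩ : ∃ v₂, v₂ = u₂ * (h * u₂⁻¹ * h⁻¹) := ⟨_, rfl⟩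
    obtain ⟨u₄, hu₄def⟩ : ∃ u₄, u₄ = h₁ * v₂ * h₁⁻¹ := ⟨_, rfl⟩
    have hv₂ : v₂ ∈ X.U := hv₂def ▸ X.U.mul_mem hu₂ (X.H_norm h hh _ (X.U.inv_mem hu₂))
    have hu₄ : u₄ ∈ X.U := hu₄def ▸ X.H_norm h₁ hh₁ _ hv₂
    have hw : X.w * h * X.w⁻¹ = h⁻¹ := X.w_inv h hh
    have hcomm : h₁ * h = h * h₁ := H_comm X hh₁ hh
    have s1 : u₂ * h * u₂⁻¹ = v₂ * h := by rw [hv₂def]; group
    have s2 : h₁ * (v₂ * h) * h₁⁻¹ = u₄ * h := by
      have : h₁ * (v₂ * h) * h₁⁻¹ = (h₁ * v₂ * h₁⁻¹) * ((h₁ * h) * h₁⁻¹) := by group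
      rw [this, hcomm, mul_inv_cancel_right, hu₄def]
    have s3 : X.w * (u₄ * h) * X.w⁻¹ = (X.w * u₄ * X.w⁻¹) * h⁻¹ := by rw [← hw]; group
    have s4 : h' = u₁ * (X.w * (h₁ * (u₂ * h * u₂⁻¹) * h₁⁻¹) * X.w⁻¹) * u₁⁻¹ := by
      rw [hh'def]; group
    rw [s1, s2, s3] at s4
    have hy : X.w * u₄ * X.w⁻¹ = (u₁⁻¹ * (h' * u₁ * h'⁻¹)) * (h' * h) := by
      rw [s4]; group
    have hyB : X.w * u₄ * X.w⁻¹ ∈ X.B := by
      rw [hy]
      exact (mem_B X).2 ⟨_, X.U.mul_mem (X.U.inv_mem hu₁) (X.H_norm h' hg _ hu₁), _,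
        X.H.mul_mem hg hh, rfl⟩
    have hyU : X.w * u₄ * X.w⁻¹ ∈ X.U := by
      apply mem_U_of_three X hyB (k := 2)
      rw [conj_pow]
      have : u₄ ^ 3 ^ 2 = 1 := by
        have := X.exp_U u₄ hu₄
        norm_num
        exact this
      rw [this]; group
    have hu₄1 : u₄ = 1 := by
      by_contra hne
      exact w_not_mem_B X (TI' X hu₄ hne hyU)
    have hv₂1 : v₂ = 1 := by
      rw [hu₄def] at hu₄1
      exact conj_eq_one_iff.1 hu₄1
    have hu₂1 : u₂ = 1 := by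
      apply U_comm_eq_one X hh h1 ha hu₂
      rw [hv₂1, one_mul, mul_inv_eq_iff_eq_mul] at s1
      exact s1.symm
    have hu₁1 : u₁ = 1 := by
      rw [hu₄1] at s4
      have s5 : h' = u₁ * h⁻¹ * u₁⁻¹ := by rw [s4]; group
      rw [s5] at hg
      apply U_comm_eq_one X (X.H.inv_mem hh) (by simpa using h1) _ hu₁
        (comm_of_conj_mem_H X (X.H.inv_mem hh) hu₁ hg)
      intro e
      apply ha
      rw [← inv_inv h, e, a_inv]
    exact ⟨h₁, hh₁, by rw [hu₁1, hu₂1]; group⟩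

/-- `a` is the only involution of `H` -/
theorem eq_a_of_sq {h : G} (hh : h ∈ X.H) (h1 : h ≠ 1) (h2 : h * h = 1) : h = X.a := by
  classical
  by_contra hne
  have := X.cyc_H
  have : Fintype X.H := Fintype.ofFinite _
  have hle := IsCyclic.card_pow_eq_one_le (α := X.H) (n := 2) (by norm_num)
  have hsub : ({1, ⟨X.a, X.a_mem⟩, ⟨h, hh⟩} : Finset X.H) ⊆
      Finset.univ.filter (fun x : X.H => x ^ 2 = 1) := by
    intro x hx
    simp only [Finset.mem_insert, Finset.mem_singleton] at hx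
    simp only [Finset.mem_filter, Finset.mem_univ, true_and]
    rcases hx with rfl | rfl | rfl
    · simp
    · apply Subtype.ext; simp [pow_two, X.a_sq]
    · apply Subtype.ext; simp [pow_two, h2]
  have hcard : ({1, ⟨X.a, X.a_mem⟩, ⟨h, hh⟩} : Finset X.H).card = 3 := by
    rw [Finset.card_insert_of_notMem, Finset.card_insert_of_notMem, Finset.card_singleton]
    · simp only [Finset.mem_singleton]
      intro e
      exact hne (congrArg Subtype.val e).symm
    · simp only [Finset.mem_insert, Finset.mem_singleton, not_or]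
      exact ⟨fun e => X.a_ne (congrArg Subtype.val e).symm, fun e => h1 (congrArg Subtype.val e).symm⟩
  have := Finset.card_le_card hsub
  omega

theorem cent_h {h : G} (hh : h ∈ X.H) (h1 : h ≠ 1) (ha : h ≠ X.a) : centralizer {h} = X.H := by
  apply le_antisymm
  · intro g hg
    rw [mem_centralizer_singleton_iff] at hg
    have e : g * h * g⁻¹ = h := by rw [hg, mul_inv_cancel_right]
    rcases conj_H X hh h1 ha (g := g) (by rw [e]; exact hh) with h3 | ⟨h', hh', rfl⟩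
    · exact h3
    · exfalso
      have e2 : X.w * h' * h * (X.w * h')⁻¹ = h⁻¹ := by
        have : h' * h = h * h' := H_comm X hh' hh
        calc X.w * h' * h * (X.w * h')⁻¹ = X.w * (h' * h) * h'⁻¹ * X.w⁻¹ := by group
          _ = X.w * h * X.w⁻¹ := by rw [this]; group
          _ = h⁻¹ := X.w_inv h hh
      rw [e2] at e
      apply ha
      apply eq_a_of_sq X hh h1
      calc h * h = h * h⁻¹ := by rw [e]
        _ = 1 := mul_inv_cancel h
  · intro g hg
    rw [mem_centralizer_singleton_iff]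
    exact H_comm X hg hh

/-- `w` centralizes `a` -/
theorem w_comm_a : X.w * X.a = X.a * X.w := by
  have := X.w_inv X.a X.a_mem
  rw [a_inv, mul_inv_eq_iff_eq_mul] at this
  exact this

/-! ### the centralizer of `a` -/

include X in
lemma two_card_PSL : 2 * Nat.card (Matrix.ProjectiveSpecialLinearGroup (Fin 2) K) =
    3 ^ (2 * m + 1) * ((3 ^ (2 * m + 1)) ^ 2 - 1) := by
  have h := Cfsg.Agent.Lib.Helper5.card_PSL2 (F := K)
  rw [X.hK] at h
  have hg : Nat.gcd (3 ^ (2 * m + 1) - 1) 2 = 2 := by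
    apply Nat.gcd_eq_right
    have hodd : Odd (3 ^ (2 * m + 1)) := Odd.pow (by decide)
    obtain ⟨k, hk⟩ := hodd
    rw [hk]
    exact ⟨k, by omega⟩
  rw [hg] at h
  exact h

theorem card_centA : Nat.card ↥(centralizer ({X.a} : Set G)) =
    3 ^ (2 * m + 1) * ((3 ^ (2 * m + 1)) ^ 2 - 1) := by
  rw [Nat.card_congr X.centA.toEquiv, Nat.card_prod, ← two_card_PSL X]
  congr 1
  simp [Nat.card_eq_fintype_card]

lemma q_ge (hm : 1 ≤ m) : 27 ≤ 3 ^ (2 * m + 1) := by
  calc 27 = 3 ^ 3 := by norm_num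
    _ ≤ 3 ^ (2 * m + 1) := Nat.pow_le_pow_right (by norm_num) (by omega)

include X in
lemma center_PSL : center (Matrix.ProjectiveSpecialLinearGroup (Fin 2) K) = ⊥ := by
  have hq := q_ge X.hm
  have hs : IsSimpleGroup (Matrix.ProjectiveSpecialLinearGroup (Fin 2) K) :=
    Matrix.ProjectiveSpecialLinearGroup.rank_two_simple (by
      rw [Nat.card_eq_fintype_card, X.hK]; omega)
  rcases (inferInstance : (center (Matrix.ProjectiveSpecialLinearGroup (Fin 2) K)).Normal).eq_bot_or_eq_top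
    with h | h
  · exact h
  · exfalso
    let _ : CommGroup (Matrix.ProjectiveSpecialLinearGroup (Fin 2) K) :=
      Group.commGroupOfCenterEqTop h
    have hp : (Nat.card (Matrix.ProjectiveSpecialLinearGroup (Fin 2) K)).Prime :=
      IsSimpleGroup.prime_card
    have h2 := two_card_PSL X
    have h3 : 3 ∣ 2 * Nat.card (Matrix.ProjectiveSpecialLinearGroup (Fin 2) K) := by
      rw [h2, q_eq]
      exact Dvd.dvd.mul_right (Dvd.intro _ rfl) _
    have h4 : 3 ∣ Nat.card (Matrix.ProjectiveSpecialLinearGroup (Fin 2) K) :=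
      (Nat.Coprime.dvd_mul_left (by decide)).1 h3
    have h5 : 3 = Nat.card (Matrix.ProjectiveSpecialLinearGroup (Fin 2) K) :=
      (Nat.prime_dvd_prime_iff_eq Nat.prime_three hp).1 h4
    rw [← h5] at h2
    have h6 : 27 * 1 ≤ 3 ^ (2 * m + 1) * ((3 ^ (2 * m + 1)) ^ 2 - 1) := by
      apply Nat.mul_le_mul hq
      have : 27 ^ 2 ≤ (3 ^ (2 * m + 1)) ^ 2 := Nat.pow_le_pow_left hq 2
      omega
    omega

/-- the image of `a` under `centA` -/
theorem centA_a : X.centA ⟨X.a, by simp [mem_centralizer_iff]⟩ = (Multiplicative.ofAdd 1, 1) := by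
  obtain ⟨z, hz⟩ : ∃ z, z = X.centA ⟨X.a, by simp [mem_centralizer_iff]⟩ := ⟨_, rfl⟩
  rw [← hz]
  have hcomm : ∀ y, z * y = y * z := by
    intro y
    obtain ⟨c, rfl⟩ := X.centA.surjective y
    rw [hz, ← map_mul, ← map_mul]
    congr 1
    apply Subtype.ext
    have := c.2
    rw [mem_centralizer_singleton_iff] at this
    exact this.symm
  have h2 : z.2 = 1 := by
    have : z.2 ∈ center (Matrix.ProjectiveSpecialLinearGroup (Fin 2) K) := by
      rw [mem_center_iff]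
      intro y
      have := congrArg Prod.snd (hcomm (1, y))
      simpa using this.symm
    rwa [center_PSL X, mem_bot] at this
  have h1 : ∀ t : Multiplicative (ZMod 2), t = 1 ∨ t = Multiplicative.ofAdd 1 := by decide
  rcases h1 z.1 with h3 | h3
  · exfalso
    have hz1 : z = 1 := Prod.ext h3 h2
    rw [hz, map_eq_one_iff _ X.centA.injective] at hz1
    exact X.a_ne (congrArg Subtype.val hz1)
  · exact Prod.ext h3 h2

/-! ### counting in `B` -/

lemma three_dvd_orderOf_U {u : G} (hu : u ∈ X.U) (h1 : u ≠ 1) : 3 ∣ orderOf u := by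
  have h2 : orderOf u ∣ 3 ^ 2 := orderOf_dvd_of_pow_eq_one (by
    have := X.exp_U u hu
    norm_num
    exact this)
  obtain ⟨j, -, hj⟩ := (Nat.dvd_prime_pow Nat.prime_three).1 h2
  rcases j with _ | j
  · rw [pow_zero, orderOf_eq_one_iff] at hj
    exact absurd hj h1
  · rw [hj, pow_succ]
    exact Dvd.intro_left _ rfl

lemma odd_orderOf_U {u : G} (hu : u ∈ X.U) : Odd (orderOf u) := by
  have h2 : orderOf u ∣ 3 ^ 2 := orderOf_dvd_of_pow_eq_one (by
    have := X.exp_U u hu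
    norm_num
    exact this)
  obtain ⟨j, -, hj⟩ := (Nat.dvd_prime_pow Nat.prime_three).1 h2
  rw [hj]
  exact Odd.pow (by decide)

lemma not_three_dvd_orderOf_H {h : G} (hh : h ∈ X.H) : ¬ 3 ∣ orderOf h := by
  intro h3
  have h2 : orderOf h ∣ 3 ^ (2 * m + 1) - 1 := by
    rw [← X.card_H]
    have := orderOf_dvd_natCard (⟨h, hh⟩ : X.H)
    rwa [Subgroup.orderOf_mk] at this
  have h4 := (Nat.Prime.coprime_iff_not_dvd Nat.prime_three).1 (cop_three_qm m)
  exact h4 (h3.trans h2)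

/-- every element of the coset `Uh`, `h ∉ {1,a}`, is `U`-conjugate to `h` -/
lemma exists_conj_of_coset {h u : G} (hh : h ∈ X.H) (h1 : h ≠ 1) (ha : h ≠ X.a) (hu : u ∈ X.U) :
    ∃ v ∈ X.U, v * h * v⁻¹ = u * h := by
  let ψ : X.U → X.U := fun v => ⟨(v : G) * (h * (v : G)⁻¹ * h⁻¹),
    X.U.mul_mem v.2 (X.H_norm h hh _ (X.U.inv_mem v.2))⟩
  have hinj : Function.Injective ψ := by
    intro v v' e
    have e1 : (v : G) * (h * (v : G)⁻¹ * h⁻¹) = (v' : G) * (h * (v' : G)⁻¹ * h⁻¹) :=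
      congrArg Subtype.val e
    have e2 : h * ((v' : G)⁻¹ * v) = ((v' : G)⁻¹ * v) * h := by
      have e3 : (v : G) * h * (v : G)⁻¹ = (v' : G) * h * (v' : G)⁻¹ := by
        have : (v : G) * (h * (v : G)⁻¹ * h⁻¹) * h = (v' : G) * (h * (v' : G)⁻¹ * h⁻¹) * h := by
          rw [e1]
        simpa [mul_assoc] using this
      calc h * ((v' : G)⁻¹ * v) = (v' : G)⁻¹ * ((v' : G) * h * (v' : G)⁻¹) * v := by group
        _ = (v' : G)⁻¹ * ((v : G) * h * (v : G)⁻¹) * v := by rw [e3]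
        _ = ((v' : G)⁻¹ * v) * h := by group
    have e4 := U_comm_eq_one X hh h1 ha (X.U.mul_mem (X.U.inv_mem v'.2) v.2) e2
    apply Subtype.ext
    rw [inv_mul_eq_one] at e4
    exact e4.symm
  obtain ⟨v, hv⟩ := (Finite.injective_iff_surjective.1 hinj) ⟨u, hu⟩
  refine ⟨v, v.2, ?_⟩
  have e1 : (v : G) * (h * (v : G)⁻¹ * h⁻¹) = u := congrArg Subtype.val hv
  rw [← e1]
  group

lemma sq_ua {u : G} : (u * X.a) * (u * X.a) = u * (X.a * u * X.a⁻¹) := by
  rw [a_inv]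
  group

lemma three_dvd_iff {u h : G} (hu : u ∈ X.U) (hh : h ∈ X.H) :
    3 ∣ orderOf (u * h) ↔ (h = 1 ∧ u ≠ 1) ∨ (h = X.a ∧ (u * X.a) * (u * X.a) ≠ 1) := by
  by_cases h1 : h = 1
  · subst h1
    rw [mul_one]
    constructor
    · intro h3
      left
      refine ⟨rfl, ?_⟩
      rintro rfl
      rw [orderOf_one] at h3
      omega
    · rintro (⟨-, h2⟩ | ⟨h2, -⟩)
      · exact three_dvd_orderOf_U X hu h2
      · exact absurd h2.symm X.a_ne
  · by_cases ha : h = X.a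
    · subst ha
      constructor
      · intro h3
        right
        refine ⟨rfl, ?_⟩
        intro e
        have h4 : orderOf (u * X.a) ∣ 2 := orderOf_dvd_of_pow_eq_one (by rw [pow_two, e])
        have h5 := h3.trans h4
        omega
      · rintro (⟨h2, -⟩ | ⟨-, h2⟩)
        · exact absurd h2 h1
        · have h3 : (u * X.a) * (u * X.a) ∈ X.U := by
            rw [sq_ua]
            exact X.U.mul_mem hu (X.H_norm _ X.a_mem _ hu)
          have h4 := three_dvd_orderOf_U X h3 h2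
          rw [← pow_two] at h4
          exact h4.trans (orderOf_pow_dvd 2)
    · constructor
      · intro h3
        exfalso
        obtain ⟨v, -, hv⟩ := exists_conj_of_coset X hh h1 ha hu
        rw [← hv] at h3
        have e : orderOf (v * h * v⁻¹) = orderOf h := by
          have := orderOf_injective (MulAut.conj v).toMonoidHom (MulAut.conj v).injective h
          simpa using this
        rw [e] at h3
        exact not_three_dvd_orderOf_H X hh h3
      · rintro (⟨h2, -⟩ | ⟨h2, -⟩)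
        · exact absurd h2 h1
        · exact absurd h2 ha

/-- the elements of `U` inverted by `a` -/
def ReeAx.Inv : Type u := {u : X.U // ((u : G) * X.a) * ((u : G) * X.a) = 1}

lemma inv_of_mem {i : G} (e : (i * X.a) * (i * X.a) = 1) : X.a * i * X.a⁻¹ = i⁻¹ := by
  rw [sq_ua] at e
  exact eq_inv_of_mul_eq_one_right e

/-- the square root -/
noncomputable def sqrtU (i : G) : G := i ^ ((orderOf i + 1) / 2)

lemma sqrtU_sq {i : G} (hi : i ∈ X.U) : sqrtU i * sqrtU i = i := by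
  obtain ⟨k, hk⟩ := odd_orderOf_U X hi
  unfold sqrtU
  have : (orderOf i + 1) / 2 = k + 1 := by omega
  rw [this, ← pow_add]
  have : k + 1 + (k + 1) = orderOf i + 1 := by omega
  rw [this, pow_succ, pow_orderOf_eq_one, one_mul]

lemma sqrtU_mem {i : G} (hi : i ∈ X.U) : sqrtU i ∈ X.U := X.U.pow_mem hi _

lemma sqrtU_inv {i : G} (e : (i * X.a) * (i * X.a) = 1) :
    X.a * sqrtU i * X.a⁻¹ = (sqrtU i)⁻¹ := by
  unfold sqrtU
  rw [← conj_pow, inv_of_mem X e, inv_pow]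

/-- `f v = v a v⁻¹ a⁻¹` -/
def fa (v : G) : G := v * X.a * v⁻¹ * X.a⁻¹

lemma fa_mem {v : G} (hv : v ∈ X.U) : fa X v ∈ X.U := by
  have : fa X v = v * (X.a * v⁻¹ * X.a⁻¹) := by unfold fa; group
  rw [this]
  exact X.U.mul_mem hv (X.H_norm _ X.a_mem _ (X.U.inv_mem hv))

lemma fa_sq (v : G) : (fa X v * X.a) * (fa X v * X.a) = 1 := by
  unfold fa
  calc v * X.a * v⁻¹ * X.a⁻¹ * X.a * (v * X.a * v⁻¹ * X.a⁻¹ * X.a)
      = v * (X.a * X.a) * v⁻¹ := by group
    _ = 1 := by rw [X.a_sq]; group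

lemma fa_sqrt {i : G} (hi : i ∈ X.U) (e : (i * X.a) * (i * X.a) = 1) : fa X (sqrtU i) = i := by
  have h1 : fa X (sqrtU i) = sqrtU i * (X.a * sqrtU i * X.a⁻¹)⁻¹ := by unfold fa; group
  rw [h1, sqrtU_inv X e, inv_inv, sqrtU_sq X hi]

lemma fa_mul {v c : G} (hc : c * X.a = X.a * c) : fa X (v * c) = fa X v := by
  unfold fa
  calc v * c * X.a * (v * c)⁻¹ * X.a⁻¹ = v * (c * X.a) * c⁻¹ * v⁻¹ * X.a⁻¹ := by group
    _ = v * X.a * v⁻¹ * X.a⁻¹ := by rw [hc]; group

lemma comm_of_fa_eq {v v' : G} (e : fa X v = fa X v') : (v⁻¹ * v') * X.a = X.a * (v⁻¹ * v') := by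
  unfold fa at e
  have e1 : v * X.a * v⁻¹ = v' * X.a * v'⁻¹ := mul_right_cancel e
  calc (v⁻¹ * v') * X.a = v⁻¹ * (v' * X.a * v'⁻¹) * v' := by group
    _ = v⁻¹ * (v * X.a * v⁻¹) * v' := by rw [e1]
    _ = X.a * (v⁻¹ * v') := by group

noncomputable def equivInv : X.Inv × ↥(X.U ⊓ centralizer {X.a}) ≃ X.U :=
  Equiv.ofBijective (fun p => ⟨sqrtU (p.1.1 : G) * (p.2 : G),
      X.U.mul_mem (sqrtU_mem X p.1.1.2) p.2.2.1⟩) (by
    constructor
    · rintro ⟨i, c⟩ ⟨j, c'⟩ e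
      have e1 : sqrtU (i.1 : G) * (c : G) = sqrtU (j.1 : G) * (c' : G) := congrArg Subtype.val e
      have hc : (c : G) * X.a = X.a * c := mem_centralizer_singleton_iff.1 c.2.2
      have hc' : (c' : G) * X.a = X.a * c' := mem_centralizer_singleton_iff.1 c'.2.2
      have e2 := congrArg (fa X) e1
      rw [fa_mul X hc, fa_mul X hc', fa_sqrt X i.1.2 i.2, fa_sqrt X j.1.2 j.2] at e2
      have e3 : i = j := Subtype.ext (Subtype.ext e2)
      subst e3
      exact Prod.ext rfl (Subtype.ext (mul_left_cancel e1))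
    · intro v
      let i : X.Inv := ⟨⟨fa X v, fa_mem X v.2⟩, fa_sq X v⟩
      have e : fa X (sqrtU (fa X (v : G))) = fa X v := fa_sqrt X (fa_mem X v.2) (fa_sq X v)
      refine ⟨(i, ⟨(sqrtU (fa X (v : G)))⁻¹ * v, X.U.mul_mem (X.U.inv_mem
        (sqrtU_mem X (fa_mem X v.2))) v.2, mem_centralizer_singleton_iff.2 (comm_of_fa_eq X e)⟩), ?_⟩
      apply Subtype.ext
      show sqrtU (fa X (v : G)) * ((sqrtU (fa X (v : G)))⁻¹ * v) = v
      group)

lemma card_Inv : Nat.card X.Inv = (3 ^ (2 * m + 1)) ^ 2 := by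
  have h := Nat.card_congr (equivInv X)
  rw [Nat.card_prod, X.card_CU, X.card_U] at h
  have : (3 ^ (2 * m + 1)) ^ 3 = (3 ^ (2 * m + 1)) ^ 2 * 3 ^ (2 * m + 1) := by ring
  rw [this] at h
  exact Nat.eq_of_mul_eq_mul_right (q_pos m) h

lemma card_compl {α : Type*} [Finite α] (P : α → Prop) :
    Nat.card {x // P x} + Nat.card {x // ¬ P x} = Nat.card α := by
  classical
  rw [← Nat.card_sum]
  exact Nat.card_congr (Equiv.sumCompl P)

/-- the 3'-elements of `B`: `1`, the `q^2` involutions and the `(q-3) q^3` conjugates of elements of `H \ {1,a}` -/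
theorem card_B_three : Nat.card {g : X.B // 3 ∣ orderOf g} =
    2 * (3 ^ (2 * m + 1)) ^ 3 - (3 ^ (2 * m + 1)) ^ 2 - 1 := by
  have e1 : {g : X.B // 3 ∣ orderOf g} ≃
      {u : X.U // u ≠ 1} ⊕ {u : X.U // ¬ ((u : G) * X.a) * ((u : G) * X.a) = 1} := by
    symm
    refine Equiv.ofBijective (Sum.elim
      (fun u => ⟨equivB X (u.1, 1), ?_⟩) (fun u => ⟨equivB X (u.1, ⟨X.a, X.a_mem⟩), ?_⟩)) ?_
    · rw [← Subgroup.orderOf_coe, equivB_coe]
      exact (three_dvd_iff X u.1.2 X.H.one_mem).2 (Or.inl ⟨rfl, fun h => u.2 (Subtype.ext h)⟩)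
    · rw [← Subgroup.orderOf_coe, equivB_coe]
      exact (three_dvd_iff X u.1.2 X.a_mem).2 (Or.inr ⟨rfl, u.2⟩)
    · constructor
      · rintro (u | u) (u' | u') e
        · have := (equivB X).injective (congrArg Subtype.val e)
          exact congrArg Sum.inl (Subtype.ext (congrArg Prod.fst this))
        · have := (equivB X).injective (congrArg Subtype.val e)
          have h2 := congrArg (fun p : X.U × X.H => (p.2 : G)) this
          exact absurd h2.symm X.a_ne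
        · have := (equivB X).injective (congrArg Subtype.val e)
          have h2 := congrArg (fun p : X.U × X.H => (p.2 : G)) this
          exact absurd h2 X.a_ne
        · have := (equivB X).injective (congrArg Subtype.val e)
          exact congrArg Sum.inr (Subtype.ext (congrArg Prod.fst this))
      · rintro ⟨g, hg⟩
        obtain ⟨⟨u, h⟩, rfl⟩ := (equivB X).surjective g
        rw [← Subgroup.orderOf_coe, equivB_coe] at hg
        rcases (three_dvd_iff X u.2 h.2).1 hg with ⟨h1, h2⟩ | ⟨h1, h2⟩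
        · refine ⟨Sum.inl ⟨u, fun e => h2 (congrArg Subtype.val e)⟩, ?_⟩
          apply Subtype.ext
          show equivB X (u, 1) = equivB X (u, h)
          congr 2
          exact (Subtype.ext h1).symm
        · refine ⟨Sum.inr ⟨u, h2⟩, ?_⟩
          apply Subtype.ext
          show equivB X (u, ⟨X.a, X.a_mem⟩) = equivB X (u, h)
          congr 2
          exact (Subtype.ext h1).symm
  rw [Nat.card_congr e1, Nat.card_sum]
  have h1 := card_compl (fun u : X.U => u = 1)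
  have h2 := card_compl (fun u : X.U => ((u : G) * X.a) * ((u : G) * X.a) = 1)
  have h3 : Nat.card {u : X.U // u = 1} = 1 := by
    rw [Nat.card_eq_one_iff_unique]
    exact ⟨⟨fun a b => Subtype.ext (a.2.trans b.2.symm)⟩, ⟨⟨1, rfl⟩⟩⟩
  have h4 : Nat.card {u : X.U // ((u : G) * X.a) * ((u : G) * X.a) = 1} = (3 ^ (2 * m + 1)) ^ 2 :=
    card_Inv X
  rw [h3, X.card_U] at h1
  rw [h4, X.card_U] at h2
  have h5 : Nat.card {u : X.U // u ≠ 1} = Nat.card {u : X.U // ¬ u = 1} := rfl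
  omega

/-- the normalizer of the torus: `H ∪ wH` -/
def ReeAx.NH : Subgroup G := normalizer (X.H : Set G)

lemma w_conj_mem {h : G} (hh : h ∈ X.H) : X.w * h * X.w⁻¹ ∈ X.H := by
  rw [X.w_inv h hh]; exact X.H.inv_mem hh

lemma w_inv' {h : G} (hh : h ∈ X.H) : X.w⁻¹ * h * X.w = h⁻¹ := by
  have h1 : X.w * h⁻¹ * X.w⁻¹ = h := by rw [X.w_inv _ (X.H.inv_mem hh), inv_inv]
  conv_lhs => rw [← h1]
  group

lemma w_conj_mem' {h : G} (hh : h ∈ X.H) : X.w⁻¹ * h * X.w ∈ X.H := by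
  rw [w_inv' X hh]; exact X.H.inv_mem hh

omit [Finite G] in
lemma exists_ne_one_of_ne_bot {A : Subgroup G} (h1 : A ≠ ⊥) : ∃ h ∈ A, h ≠ 1 := by
  by_contra hc
  push Not at hc
  exact h1 ((Subgroup.eq_bot_iff_forall A).2 hc)

/-- description of the normalizer of a nontrivial subgroup of `H` avoiding `a` -/
lemma mem_normalizer_sub {A : Subgroup G} (hA : A ≤ X.H) (h1 : A ≠ ⊥) (ha : X.a ∉ A) {g : G} :
    g ∈ normalizer (A : Set G) ↔ (g ∈ X.H ∨ ∃ h' ∈ X.H, g = X.w * h') := by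
  constructor
  · intro hg
    obtain ⟨h, hh, hne⟩ := exists_ne_one_of_ne_bot h1
    have h2 : g * h * g⁻¹ ∈ A := (mem_normalizer_iff.1 hg h).1 hh
    exact conj_H X (hA hh) hne (fun e => ha (e ▸ hh)) (hA h2)
  · rintro (hg | ⟨h', hh', rfl⟩)
    · rw [mem_normalizer_iff]
      intro x
      constructor
      · intro hx
        have : g * x * g⁻¹ = x := by rw [H_comm X hg (hA hx)]; group
        rw [this]; exact hx
      · intro hx
        have h3 : g⁻¹ * (g * x * g⁻¹) * g = g * x * g⁻¹ := by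
          rw [H_comm X (X.H.inv_mem hg) (hA hx)]; group
        have h4 : g⁻¹ * (g * x * g⁻¹) * g = x := by group
        rw [← h4, h3]; exact hx
    · rw [mem_normalizer_iff]
      intro x
      constructor
      · intro hx
        have e1 : X.w * h' * x * (X.w * h')⁻¹ = X.w * (h' * x * h'⁻¹) * X.w⁻¹ := by group
        have e2 : h' * x * h'⁻¹ = x := by rw [H_comm X hh' (hA hx)]; group
        rw [e1, e2, X.w_inv x (hA hx)]
        exact A.inv_mem hx
      · intro hx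
        set y := X.w * h' * x * (X.w * h')⁻¹ with hy
        have e1 : x = h'⁻¹ * (X.w⁻¹ * y * X.w) * h' := by rw [hy]; group
        have e2 : X.w⁻¹ * y * X.w = y⁻¹ := w_inv' X (hA hx)
        have e3 : h'⁻¹ * y⁻¹ * h' = y⁻¹ := by
          rw [H_comm X (X.H.inv_mem hh') (X.H.inv_mem (hA hx))]; group
        rw [e1, e2, e3]
        exact A.inv_mem hx

lemma centralizer_sub {A : Subgroup G} (hA : A ≤ X.H) (h1 : A ≠ ⊥) (ha : X.a ∉ A) :
    centralizer (A : Set G) = X.H := by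
  apply le_antisymm
  · intro g hg
    obtain ⟨h, hh, hne⟩ := exists_ne_one_of_ne_bot h1
    rw [← cent_h X (hA hh) hne (fun e => ha (e ▸ hh))]
    rw [mem_centralizer_iff] at hg ⊢
    intro y hy
    rw [Set.mem_singleton_iff] at hy
    subst hy
    exact hg _ hh
  · intro g hg
    rw [mem_centralizer_iff]
    intro y hy
    exact H_comm X (hA hy) hg

lemma card_normalizer_sub {A : Subgroup G} (hA : A ≤ X.H) (h1 : A ≠ ⊥) (ha : X.a ∉ A) :
    Nat.card ↥(normalizer (A : Set G)) = 2 * (3 ^ (2 * m + 1) - 1) := by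
  have e : X.H ⊕ X.H ≃ ↥(normalizer (A : Set G)) := by
    refine Equiv.ofBijective (Sum.elim
      (fun h => ⟨(h : G), (mem_normalizer_sub X hA h1 ha).2 (Or.inl h.2)⟩)
      (fun h => ⟨X.w * (h : G), (mem_normalizer_sub X hA h1 ha).2 (Or.inr ⟨h, h.2, rfl⟩)⟩)) ?_
    constructor
    · rintro (h | h) (h' | h') e
      · have e1 : (h : G) = (h' : G) :=
          congrArg (fun z : ↥(normalizer (A : Set G)) => (z : G)) e
        exact congrArg Sum.inl (Subtype.ext e1)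
      · exfalso
        have e1 : (h : G) = X.w * (h' : G) := congrArg Subtype.val e
        apply w_not_mem_B X
        have : X.w = (h : G) * (h' : G)⁻¹ := by rw [e1]; group
        rw [this]
        exact (mem_B X).2 ⟨1, X.U.one_mem, _, X.H.mul_mem h.2 (X.H.inv_mem h'.2), by group⟩
      · exfalso
        have e1 : X.w * (h : G) = (h' : G) := congrArg Subtype.val e
        apply w_not_mem_B X
        have : X.w = (h' : G) * (h : G)⁻¹ := by rw [← e1]; group
        rw [this]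
        exact (mem_B X).2 ⟨1, X.U.one_mem, _, X.H.mul_mem h'.2 (X.H.inv_mem h.2), by group⟩
      · have e1 : X.w * (h : G) = X.w * (h' : G) := congrArg Subtype.val e
        exact congrArg Sum.inr (Subtype.ext (mul_left_cancel e1))
    · rintro ⟨g, hg⟩
      rcases (mem_normalizer_sub X hA h1 ha).1 hg with h | ⟨h', hh', rfl⟩
      · exact ⟨Sum.inl ⟨g, h⟩, rfl⟩
      · exact ⟨Sum.inr ⟨h', hh'⟩, rfl⟩
  rw [← Nat.card_congr e, Nat.card_sum, X.card_H]
  ring

lemma q_mod_four (m : ℕ) : 3 ^ (2 * m + 1) % 4 = 3 := by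
  induction m with
  | zero => norm_num
  | succ k ih =>
    have : 3 ^ (2 * (k + 1) + 1) = 9 * 3 ^ (2 * k + 1) := by ring
    omega

include X in
theorem tor0 : Tor0 G m := by
  obtain ⟨g, hg⟩ := X.cyc_H.exists_generator
  have hq := q_ge X.hm
  have hq4 := q_mod_four m
  have hog : orderOf g = 3 ^ (2 * m + 1) - 1 := by
    rw [orderOf_eq_card_of_forall_mem_zpowers hg, X.card_H]
  have hog' : orderOf (g : G) = 3 ^ (2 * m + 1) - 1 := by rw [Subgroup.orderOf_coe, hog]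
  set A : Subgroup G := zpowers ((g : G) ^ 2) with hAdef
  have hAH : A ≤ X.H := by
    rw [hAdef, zpowers_le]
    exact X.H.pow_mem g.2 2
  have hcard : Nat.card A = (3 ^ (2 * m + 1) - 1) / 2 := by
    rw [hAdef, Nat.card_zpowers, orderOf_pow, hog']
    congr 1
    apply Nat.gcd_eq_right
    omega
  have hodd : Odd (Nat.card A) := by
    rw [hcard, Nat.odd_iff]; omega
  have haA : X.a ∉ A := by
    intro h
    have h1 : orderOf X.a = 2 := orderOf_eq_prime (by rw [pow_two]; exact X.a_sq) X.a_ne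
    have h2 : orderOf X.a ∣ Nat.card A := by
      have := orderOf_dvd_natCard (⟨X.a, h⟩ : A)
      rwa [← Subgroup.orderOf_coe] at this
    rw [h1] at h2
    exact (Nat.not_even_iff_odd.2 hodd) (even_iff_two_dvd.2 h2)
  have hA1 : A ≠ ⊥ := by
    intro h
    rw [h, Subgroup.card_bot] at hcard
    omega
  have hcA := centralizer_sub X hAH hA1 haA
  refine ⟨A, ⟨?_, hcard, ?_, ?_, card_normalizer_sub X hAH hA1 haA, ?_, ?_⟩, ?_⟩
  · rw [hAdef]; infer_instance
  · rw [hcA, X.card_H]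
  · rw [hcA]; intro x hx y hy; exact H_comm X hx hy
  · intro A' h1 h2
    rw [hcA]
    exact centralizer_sub X (h1.trans hAH) h2 (fun h => haA (h1 h))
  · intro A' h1 h2
    ext x
    rw [mem_normalizer_sub X (h1.trans hAH) h2 (fun h => haA (h1 h)),
      mem_normalizer_sub X hAH hA1 haA]
  · rw [hcA]; exact X.cyc_H

end Cfsg.Agent.Lib.Lead.ReeAbs
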