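import Cfsg.Agent.Lib.Lead.ReeAbs.P1a
import Cfsg.Agent.S0807
import Cfsg.Agent.Lib.Helper41.Dickson.Orders

/-! # [P1b] C(S) = S, |N(S)| = 168, all involutions conjugate (gives S1157) -/

set_option autoImplicit false

namespace Cfsg.Agent.Lib.Lead.ReeAbs

open Subgroup

universe u v

/-! ### generic lemmas -/

/-- seven points, "orbits" of odd size `≠ 1`: a single orbit -/
theorem seven_single {α : Type*} (T : Set α) (hT : T.ncard = 7) (O : α → Set α)
    (hsub : ∀ x ∈ T, O x ⊆ T)
    (hdisj : ∀ x ∈ T, ∀ y ∈ T, y ∈ O x ∨ Disjoint (O x) (O y))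
    (hodd : ∀ x ∈ T, Odd (O x).ncard) (hne1 : ∀ x ∈ T, (O x).ncard ≠ 1) :
    ∀ x ∈ T, ∀ y ∈ T, y ∈ O x := by
  have hfin : T.Finite := Set.finite_of_ncard_ne_zero (by omega)
  have hf : ∀ x ∈ T, (O x).Finite := fun x hx => hfin.subset (hsub x hx)
  have h3 : ∀ x ∈ T, 3 ≤ (O x).ncard := by
    intro x hx
    obtain ⟨k, hk⟩ := hodd x hx
    have := hne1 x hx
    omega
  intro x hx y hy
  by_contra hxy
  have hd : Disjoint (O x) (O y) := (hdisj x hx y hy).resolve_left hxy
  have hu : (O x ∪ O y).ncard = (O x).ncard + (O y).ncard :=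
    Set.ncard_union_eq hd (hf x hx) (hf y hy)
  have hsu : O x ∪ O y ⊆ T := Set.union_subset (hsub x hx) (hsub y hy)
  have hne : O x ∪ O y ≠ T := by
    intro h
    rw [h, hT] at hu
    obtain ⟨k, hk⟩ := hodd x hx
    obtain ⟨l, hl⟩ := hodd y hy
    omega
  obtain ⟨z, hzT, hz⟩ : ∃ z ∈ T, z ∉ O x ∪ O y := by
    by_contra hcon
    push Not at hcon
    exact hne (Set.Subset.antisymm hsu hcon)
  have hzx : Disjoint (O x) (O z) :=
    (hdisj x hx z hzT).resolve_left (fun h => hz (Or.inl h))
  have hzy : Disjoint (O y) (O z) :=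
    (hdisj y hy z hzT).resolve_left (fun h => hz (Or.inr h))
  have hu2 : ((O x ∪ O y) ∪ O z).ncard = (O x ∪ O y).ncard + (O z).ncard :=
    Set.ncard_union_eq (Set.disjoint_union_left.2 ⟨hzx, hzy⟩) ((hf x hx).union (hf y hy)) (hf z hzT)
  have hle : ((O x ∪ O y) ∪ O z).ncard ≤ T.ncard :=
    Set.ncard_le_ncard (Set.union_subset hsu (hsub z hzT)) hfin
  have := h3 x hx
  have := h3 y hy
  have := h3 z hzT
  omega

/-- orbit-stabiliser for the conjugation action of a subgroup -/
theorem conj_orbit_card {G : Type*} [Group G] [Finite G] (N : Subgroup G) (x : G) :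
    Set.ncard {y : G | ∃ n ∈ N, y = n * x * n⁻¹} * Nat.card ↥(N ⊓ centralizer ({x} : Set G)) =
      Nat.card N := by
  let act : MulAction N G := MulAction.compHom G ((MulAut.conj (G := G)).comp N.subtype)
  have hsmul : ∀ (n : N) (y : G), act.smul n y = (n : G) * y * (n : G)⁻¹ := fun n y => rfl
  have h1 := @MulAction.index_stabilizer N G _ act x
  have h2 : @MulAction.orbit N G act.toSMul x = {y : G | ∃ n ∈ N, y = n * x * n⁻¹} := by
    ext y
    constructor
    · rintro ⟨n, rfl⟩
      exact ⟨n, n.2, rfl⟩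
    · rintro ⟨n, hn, rfl⟩
      exact ⟨⟨n, hn⟩, rfl⟩
  have h3 : Nat.card (@MulAction.stabilizer N G _ act x) =
      Nat.card ↥(N ⊓ centralizer ({x} : Set G)) := by
    have h4 : @MulAction.stabilizer N G _ act x = (centralizer ({x} : Set G)).subgroupOf N := by
      ext n
      rw [Subgroup.mem_subgroupOf, mem_centralizer_singleton_iff]
      show (n : G) * x * (n : G)⁻¹ = x ↔ _
      rw [mul_inv_eq_iff_eq_mul]
    rw [h4, ← Subgroup.inf_subgroupOf_left]
    exact Nat.card_congr (Subgroup.subgroupOfEquivOfLe inf_le_left).toEquiv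
  rw [← h2, ← h1, ← h3, mul_comm]
  exact Subgroup.card_mul_index _

open scoped IsMulCommutative in
/-- in a perfect group with abelian Sylow `p`-subgroup `S`, `N(S)` has no fixed point on `S \ 1` -/
theorem no_fixed_of_perfect {G : Type*} [Group G] [Finite G] {p : ℕ} [Fact p.Prime]
    (hperf : commutator G = ⊤) (S : Sylow p G) [IsMulCommutative S] (s : G) (hs : s ∈ S)
    (hfix : ∀ n ∈ normalizer ((S : Subgroup G) : Set G), n * s * n⁻¹ = s) : s = 1 := by
  have key : ∀ (k : ℕ) (g₀ : G), g₀⁻¹ * s ^ k * g₀ ∈ (S : Subgroup G) →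
      g₀⁻¹ * s ^ k * g₀ = s ^ k := by
    intro k g₀ h
    obtain ⟨n, hn, h'⟩ := S.conj_eq_normalizer_conj_of_mem (s ^ k) g₀ (S.pow_mem hs k) h
    rw [h']
    have h1 : n⁻¹ * s * n = s := by
      have := hfix n⁻¹ (inv_mem hn)
      simpa using this
    have h2 : n⁻¹ * s ^ k * n = (n⁻¹ * s * n) ^ k := by
      have := conj_pow (a := n⁻¹) (b := s) (i := k)
      simpa using this.symm
    rw [h2, h1]
  have h1 := MonoidHom.transfer_eq_pow (MonoidHom.id (S : Subgroup G)) s key
  have h2 : MonoidHom.transfer (MonoidHom.id (S : Subgroup G)) s = 1 := by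
    have h3 : commutator G ≤ (MonoidHom.transfer (MonoidHom.id (S : Subgroup G))).ker :=
      Abelianization.commutator_subset_ker _
    rw [hperf] at h3
    exact h3 (Subgroup.mem_top s)
  rw [h2] at h1
  have h3 : s ^ (S : Subgroup G).index = 1 := by
    have := congrArg Subtype.val h1
    simpa using this.symm
  obtain ⟨j, hj⟩ := S.2 ⟨s, hs⟩
  have h4 : s ^ (p ^ j) = 1 := by
    have := congrArg Subtype.val hj
    simpa using this
  have h5 : orderOf s ∣ Nat.gcd (p ^ j) (S : Subgroup G).index :=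
    Nat.dvd_gcd (orderOf_dvd_of_pow_eq_one h4) (orderOf_dvd_of_pow_eq_one h3)
  have h6 : Nat.gcd (p ^ j) (S : Subgroup G).index = 1 :=
    Nat.Coprime.pow_left j ((Nat.Prime.coprime_iff_not_dvd Fact.out).2 S.not_dvd_index)
  rw [h6, Nat.dvd_one, orderOf_eq_one_iff] at h5
  exact h5

/-- cardinality of a preimage -/
theorem card_comap_surj {C L : Type*} [Group C] [Finite C] [Group L] (π : C →* L)
    (hπ : Function.Surjective π) (X : Subgroup L) :
    Nat.card (X.comap π) = Nat.card π.ker * Nat.card X := by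
  have : Finite L := Finite.of_surjective π hπ
  have h1 : Nat.card (X.comap π) * (X.comap π).index = Nat.card C := Subgroup.card_mul_index _
  have h2 : (X.comap π).index = X.index := Subgroup.index_comap_of_surjective X hπ
  have h3 : Nat.card X * X.index = Nat.card L := Subgroup.card_mul_index _
  have h4 : Nat.card π.ker * π.ker.index = Nat.card C := Subgroup.card_mul_index _
  have h5 : π.ker.index = Nat.card L := by
    rw [Subgroup.index_ker, MonoidHom.range_eq_top.2 hπ, Subgroup.card_top]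
  have h6 : X.index ≠ 0 := Subgroup.index_ne_zero_of_finite
  rw [h2] at h1
  rw [h5, ← h3] at h4
  apply Nat.eq_of_mul_eq_mul_right (Nat.pos_of_ne_zero h6)
  rw [h1, ← h4]
  ring

/-! ### facts on `PSL₂(q)`, `q = 3^(2m+1)` -/

section PSL

variable {K : Type v} [Field K] [Fintype K] {m : ℕ}

local notation "L" => Matrix.ProjectiveSpecialLinearGroup (Fin 2) K

theorem psl_sylow_klein (hK : Fintype.card K = 3 ^ (2 * m + 1)) (P : Sylow 2 L) :
    IsKleinFour (P : Subgroup L) :=
  Cfsg.Agent.S0276.result hK (Or.inl (q_mod_eight m)) P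

theorem psl_card_normalizer (hK : Fintype.card K = 3 ^ (2 * m + 1)) (P : Sylow 2 L) :
    Nat.card (normalizer ((P : Subgroup L) : Set L)) = 12 := by
  classical
  have : Fact (Nat.Prime 2) := ⟨Nat.prime_two⟩
  have hodd : Odd (3 ^ (2 * m + 1)) := Odd.pow (by decide)
  have h807 := Cfsg.Agent.S0807.result hK hodd
  have heq : Nat.card (Sylow 2 L) = Nat.card {V : Subgroup L // IsKleinFour V} := by
    refine Nat.card_congr (Equiv.ofBijective
      (fun Q : Sylow 2 L => (⟨(Q : Subgroup L), psl_sylow_klein hK Q⟩ :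
        {V : Subgroup L // IsKleinFour V})) ⟨?_, ?_⟩)
    · intro Q Q' h
      exact Sylow.ext (congrArg Subtype.val h)
    · rintro ⟨W, hW⟩
      have hWp : IsPGroup 2 W := IsPGroup.of_card (n := 2) (by rw [hW.card_four]; norm_num)
      obtain ⟨Q, hQ⟩ := hWp.exists_le_sylow
      refine ⟨Q, Subtype.ext ?_⟩
      have h4 : Nat.card (Q : Subgroup L) = 4 := (psl_sylow_klein hK Q).card_four
      exact (Subgroup.eq_of_le_of_card_ge hQ (by rw [h4, hW.card_four])).symm
  have hidx : Nat.card (Sylow 2 L) = (normalizer ((P : Subgroup L) : Set L)).index :=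
    P.card_eq_index_normalizer
  have h1 : Nat.card (normalizer ((P : Subgroup L) : Set L)) *
      (normalizer ((P : Subgroup L) : Set L)).index = Nat.card L := Subgroup.card_mul_index _
  have h0 : (normalizer ((P : Subgroup L) : Set L)).index ≠ 0 := Subgroup.index_ne_zero_of_finite
  rw [← heq, hidx] at h807
  exact Nat.eq_of_mul_eq_mul_right (Nat.pos_of_ne_zero h0) (h1.trans h807.symm)

theorem psl_centralizer (hK : Fintype.card K = 3 ^ (2 * m + 1)) (P : Sylow 2 L) :
    centralizer ((P : Subgroup L) : Set L) = P := by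
  classical
  have : Fact (Nat.Prime 2) := ⟨Nat.prime_two⟩
  have : Fact (Nat.Prime 3) := ⟨Nat.prime_three⟩
  have hKl := psl_sylow_klein hK P
  have hcomm : IsMulCommutative (P : Subgroup L) := hKl.isMulCommutative
  have hle : (P : Subgroup L) ≤ centralizer ((P : Subgroup L) : Set L) := P.le_centralizer
  have hleN : centralizer ((P : Subgroup L) : Set L) ≤ normalizer ((P : Subgroup L) : Set L) :=
    Subgroup.centralizer_le_normalizer _
  have hdvd : Nat.card (centralizer ((P : Subgroup L) : Set L)) ∣ 12 := by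
    rw [← psl_card_normalizer hK P]
    exact Subgroup.card_dvd_of_le hleN
  -- no element of order 3
  have h3 : ¬ 3 ∣ Nat.card (centralizer ((P : Subgroup L) : Set L)) := by
    intro h
    obtain ⟨⟨x, hx⟩, hxo⟩ := exists_prime_orderOf_dvd_card' 3 h
    have hxo' : orderOf x = 3 := (Subgroup.orderOf_mk x hx).symm.trans hxo
    have h2 : 2 ∣ Nat.card (P : Subgroup L) := by rw [hKl.card_four]; norm_num
    obtain ⟨⟨v, hv⟩, hvo⟩ := exists_prime_orderOf_dvd_card' 2 h2
    have hvo' : orderOf v = 2 := (Subgroup.orderOf_mk v hv).symm.trans hvo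
    have hc : Commute x v := (hx v hv).symm
    have h6 : orderOf (x * v) = 6 := by
      rw [hc.orderOf_mul_eq_mul_orderOf_of_coprime (by rw [hxo', hvo']; norm_num), hxo', hvo']
    have hchar : CharP K 3 := by
      obtain ⟨p, hp⟩ := CharP.exists K
      have hpp : Fact p.Prime := ⟨CharP.char_is_prime K p⟩
      obtain ⟨n, hn1, hn⟩ := FiniteField.card K p
      have : p ∣ 3 ^ (2 * m + 1) := by
        rw [← hK, hn]
        exact dvd_pow_self p n.ne_zero
      have h3' : p = 3 := (Nat.prime_dvd_prime_iff_eq hpp.out Nat.prime_three).1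
        (hpp.out.dvd_of_dvd_pow this)
      rw [← h3']; exact hp
    have hq8 := q_mod_eight m
    have hq3 : 3 ∣ 3 ^ (2 * m + 1) := dvd_pow_self 3 (by omega)
    have hgcd : Nat.gcd 2 (Fintype.card K - 1) = 2 := by
      rw [hK]
      apply Nat.gcd_eq_left
      omega
    rcases Cfsg.Agent.Lib.Helper41.Dickson.psl2_orderOf_dvd 3 (x * v) with h | h | h
    · rw [h6] at h; omega
    · rw [h6, hgcd, hK] at h
      obtain ⟨c, hc⟩ := h
      omega
    · rw [h6, hgcd, hK] at h
      obtain ⟨c, hc⟩ := h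
      omega
  have hdvd4 : Nat.card (centralizer ((P : Subgroup L) : Set L)) ∣ 4 := by
    have hcop : Nat.Coprime (Nat.card (centralizer ((P : Subgroup L) : Set L))) 3 :=
      ((Nat.Prime.coprime_iff_not_dvd Nat.prime_three).2 h3).symm
    exact hcop.dvd_of_dvd_mul_right (by simpa using hdvd)
  exact (Subgroup.eq_of_le_of_card_ge hle (by
    rw [hKl.card_four]; exact Nat.le_of_dvd (by norm_num) hdvd4)).symm

end PSL

/-! ### the abstract argument -/

theorem syl2_aux {G : Type u} [Group G] [Finite G] {L : Type v} [Group L] (a : G) (ha1 : a ≠ 1)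
    (ha2 : a * a = 1) (C : Subgroup G) (hC : C = centralizer ({a} : Set G))
    (π : ↥C →* L) (hπ : Function.Surjective π) (hker : Nat.card π.ker = 2)
    (hL4 : ∀ P : Sylow 2 L, Nat.card P = 4)
    (hLN : ∀ P : Sylow 2 L, Nat.card (normalizer ((P : Subgroup L) : Set L)) = 12)
    (hLC : ∀ P : Sylow 2 L, centralizer ((P : Subgroup L) : Set L) = P)
    (hS : ∀ S : Sylow 2 G, Nat.card S = 8 ∧ ∀ x ∈ S, x * x = 1)
    (hperf : commutator G = ⊤) : Syl2 G a := by
  classical
  have : Fact (Nat.Prime 2) := ⟨Nat.prime_two⟩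
  have : Finite L := Finite.of_surjective π hπ
  -- commutativity
  have hcomm : ∀ S : Sylow 2 G, ∀ x ∈ S, ∀ y ∈ S, x * y = y * x := by
    intro S x hx y hy
    have h1 := (hS S).2 x hx
    have h2 := (hS S).2 y hy
    have h3 := (hS S).2 (x * y) (S.mul_mem hx hy)
    calc x * y = x * ((x * y) * (x * y)) * y := by rw [h3, mul_one]
      _ = (x * x) * (y * x) * (y * y) := by group
      _ = y * x := by rw [h1, h2]; simp
  -- a Sylow subgroup containing `a`
  have hao : orderOf a = 2 := orderOf_eq_prime (by rw [pow_two]; exact ha2) ha1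
  have hza : IsPGroup 2 (zpowers a) :=
    IsPGroup.of_card (n := 1) (by rw [Nat.card_zpowers, hao]; norm_num)
  obtain ⟨S₀, hS₀⟩ := hza.exists_le_sylow
  have haS : a ∈ S₀ := hS₀ (mem_zpowers a)
  have hSC : (S₀ : Subgroup G) ≤ C := by
    intro s hs
    rw [hC, mem_centralizer_singleton_iff]
    exact hcomm S₀ s hs a haS
  set S' : Subgroup C := (S₀ : Subgroup G).subgroupOf C with hS'
  have hS'p : IsPGroup 2 S' := S₀.2.comap_subtype
  have hkerp : IsPGroup 2 π.ker := IsPGroup.of_card (n := 1) (by rw [hker]; norm_num)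
  have hkerle : π.ker ≤ S' := by
    have h1 : IsPGroup 2 (S' ⊔ π.ker : Subgroup C) := hS'p.to_sup_of_normal_right hkerp
    have h2 : IsPGroup 2 ((S' ⊔ π.ker : Subgroup C).map C.subtype) := h1.map _
    have h3 : (S₀ : Subgroup G) ≤ (S' ⊔ π.ker : Subgroup C).map C.subtype := by
      intro s hs
      exact ⟨⟨s, hSC hs⟩, (le_sup_left : S' ≤ S' ⊔ π.ker) (show (⟨s, hSC hs⟩ : C) ∈ S' from hs), rfl⟩
    have h4 := S₀.is_maximal' h2 h3
    intro z hz
    show (z : G) ∈ (S₀ : Subgroup G)
    rw [← h4]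
    exact ⟨z, (le_sup_right : π.ker ≤ S' ⊔ π.ker) hz, rfl⟩
  set V : Subgroup L := S'.map π with hV
  have hcomap : V.comap π = S' := Subgroup.comap_map_eq_self hkerle
  have hS'card : Nat.card S' = 8 := by
    rw [← (hS S₀).1]
    exact Nat.card_congr (Subgroup.subgroupOfEquivOfLe hSC).toEquiv
  have hVcard : Nat.card V = 4 := by
    have := card_comap_surj π hπ V
    rw [hcomap, hS'card, hker] at this
    omega
  have hVp : IsPGroup 2 V := hS'p.map π
  obtain ⟨P, hP⟩ := hVp.exists_le_sylow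
  have hVP : V = P := Subgroup.eq_of_le_of_card_ge hP (by rw [hVcard]; exact (hL4 P).le)
  -- centralizer
  have hcent : centralizer ((S₀ : Subgroup G) : Set G) = S₀ := by
    apply le_antisymm
    · intro x hx
      have hxC : x ∈ C := by
        rw [hC, mem_centralizer_singleton_iff]
        exact (hx a haS).symm
      have h1 : π ⟨x, hxC⟩ ∈ centralizer ((P : Subgroup L) : Set L) := by
        rw [← hVP]
        rintro _ ⟨s, hs, rfl⟩
        rw [← map_mul, ← map_mul]
        congr 1
        exact Subtype.ext (hx s hs)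
      rw [hLC P, ← hVP] at h1
      have h2 : (⟨x, hxC⟩ : C) ∈ V.comap π := h1
      rw [hcomap] at h2
      exact h2
    · intro x hx y hy
      exact hcomm S₀ y hy x hx
  -- normalizer ∩ C
  set N : Subgroup G := normalizer ((S₀ : Subgroup G) : Set G) with hN
  have hNC : Nat.card ↥(N ⊓ C) = 24 := by
    have h1 : (normalizer (V : Set L)).comap π = normalizer ((V.comap π : Subgroup C) : Set C) :=
      Subgroup.comap_normalizer_eq_of_surjective V hπ
    have h2 : N.subgroupOf C = normalizer (S' : Set C) := Subgroup.subgroupOf_normalizer_eq hSC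
    have h3 : Nat.card (N.subgroupOf C) = 24 := by
      rw [h2, ← hcomap, ← h1, card_comap_surj π hπ, hker, hVP, hLN P]
    rw [← h3, ← Subgroup.inf_subgroupOf_right]
    exact (Nat.card_congr (Subgroup.subgroupOfEquivOfLe inf_le_right).toEquiv).symm
  -- orbits
  let T : Set G := ((S₀ : Subgroup G) : Set G) \ {1}
  have hT : T.ncard = 7 := by
    have h8 : ((S₀ : Subgroup G) : Set G).ncard = 8 := by
      rw [← (hS S₀).1]; exact (Nat.card_coe_set_eq _).symm
    show (((S₀ : Subgroup G) : Set G) \ {1}).ncard = 7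
    rw [Set.ncard_sdiff_singleton_of_mem (S₀ : Subgroup G).one_mem, h8]
  let O : G → Set G := fun x => {y : G | ∃ n ∈ N, y = n * x * n⁻¹}
  have hIC : IsMulCommutative S₀ := ⟨⟨fun x y => Subtype.ext (hcomm S₀ x x.2 y y.2)⟩⟩
  have hsub : ∀ x ∈ T, O x ⊆ T := by
    rintro x ⟨hx, hx1⟩ _ ⟨n, hn, rfl⟩
    refine ⟨(Subgroup.mem_normalizer_iff.1 hn x).1 hx, ?_⟩
    intro h
    apply hx1
    have h' : n * x * n⁻¹ = 1 := h
    exact conj_eq_one_iff.1 h'
  have hdisj : ∀ x ∈ T, ∀ y ∈ T, y ∈ O x ∨ Disjoint (O x) (O y) := by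
    intro x _ y _
    by_cases h : Disjoint (O x) (O y)
    · exact Or.inr h
    · left
      rw [Set.not_disjoint_iff] at h
      obtain ⟨z, ⟨n, hn, hz⟩, ⟨n', hn', hz'⟩⟩ := h
      refine ⟨n'⁻¹ * n, N.mul_mem (N.inv_mem hn') hn, ?_⟩
      have h1 : y = n'⁻¹ * z * n' := by rw [hz']; group
      rw [h1, hz]; group
  have hodd : ∀ x ∈ T, Odd (O x).ncard := by
    rintro x ⟨hx, -⟩
    have h1 : (O x).ncard * Nat.card ↥(N ⊓ centralizer ({x} : Set G)) = Nat.card N :=
      conj_orbit_card N x
    have h2 : (S₀ : Subgroup G) ≤ N ⊓ centralizer ({x} : Set G) := by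
      refine le_inf le_normalizer ?_
      intro s hs
      rw [mem_centralizer_singleton_iff]
      exact hcomm S₀ s hs x hx
    obtain ⟨c, hc⟩ := Subgroup.card_dvd_of_le h2
    have h3 : Nat.card N * N.index = Nat.card G := Subgroup.card_mul_index N
    have h4 : Nat.card (S₀ : Subgroup G) * (S₀ : Subgroup G).index = Nat.card G :=
      Subgroup.card_mul_index _
    have h5 : ¬ 2 ∣ (S₀ : Subgroup G).index := S₀.not_dvd_index
    have h8 : Nat.card (S₀ : Subgroup G) = 8 := (hS S₀).1
    have h6 : (O x).ncard * c * N.index = (S₀ : Subgroup G).index := by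
      rw [hc, h8] at h1
      rw [← h1, ← h4, h8] at h3
      apply Nat.eq_of_mul_eq_mul_left (show 0 < 8 by norm_num)
      rw [← h3]; ring
    rw [← Nat.not_even_iff_odd]
    intro he
    apply h5
    rw [← h6]
    exact Dvd.dvd.mul_right (Dvd.dvd.mul_right he.two_dvd _) _
  have hne1 : ∀ x ∈ T, (O x).ncard ≠ 1 := by
    rintro x ⟨hx, hx1⟩ h
    rw [Set.ncard_eq_one] at h
    obtain ⟨z, hz⟩ := h
    apply hx1
    apply no_fixed_of_perfect hperf S₀ x hx
    intro n hn
    have h1 : n * x * n⁻¹ ∈ O x := ⟨n, hn, rfl⟩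
    have h2 : x ∈ O x := ⟨1, N.one_mem, by simp⟩
    rw [hz, Set.mem_singleton_iff] at h1 h2
    rw [h1, h2]
  have htrans := seven_single T hT O hsub hdisj hodd hne1
  have haT : a ∈ T := ⟨haS, ha1⟩
  have hOa : O a = T := Set.Subset.antisymm (hsub a haT) (fun y hy => htrans a haT y hy)
  have hNcard : Nat.card N = 168 := by
    have h1 : (O a).ncard * Nat.card ↥(N ⊓ C) = Nat.card N := by
      rw [hC]; exact conj_orbit_card N a
    rw [hOa, hT, hNC] at h1
    omega
  refine ⟨fun S => (hS S).1, fun S => (hS S).2, ?_, ?_, ?_⟩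
  · intro S
    obtain ⟨g, rfl⟩ := MulAction.exists_smul_eq G S₀ S
    apply le_antisymm
    · intro x hx
      have h1 : g⁻¹ * x * g ∈ centralizer ((S₀ : Subgroup G) : Set G) := by
        intro s hs
        have h2 : g * s * g⁻¹ ∈ g • S₀ := by
          rw [Sylow.smul_def]
          exact (Subgroup.mem_smul_pointwise_iff_exists _ _ _).2 ⟨s, hs, rfl⟩
        have h3 : g * s * g⁻¹ * x = x * (g * s * g⁻¹) := hx _ h2
        calc s * (g⁻¹ * x * g) = g⁻¹ * ((g * s * g⁻¹) * x) * g := by group
          _ = g⁻¹ * (x * (g * s * g⁻¹)) * g := by rw [h3]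
          _ = g⁻¹ * x * g * s := by group
      rw [hcent] at h1
      show x ∈ g • S₀
      rw [Sylow.smul_def]
      refine (Subgroup.mem_smul_pointwise_iff_exists _ _ _).2 ⟨g⁻¹ * x * g, h1, ?_⟩
      simp only [MulAut.smul_def, MulAut.conj_apply]
      group
    · intro x hx y hy
      exact hcomm _ y hy x hx
  · intro S
    have h1 : Nat.card (Sylow 2 G) = (normalizer ((S : Subgroup G) : Set G)).index :=
      S.card_eq_index_normalizer
    have h2 : Nat.card (Sylow 2 G) = N.index := S₀.card_eq_index_normalizer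
    have h3 := Subgroup.card_mul_index (normalizer ((S : Subgroup G) : Set G))
    have h4 := Subgroup.card_mul_index N
    have h0 : N.index ≠ 0 := Subgroup.index_ne_zero_of_finite
    rw [← h1, h2] at h3
    rw [← h4, hNcard] at h3
    exact Nat.eq_of_mul_eq_mul_right (Nat.pos_of_ne_zero h0) h3
  · intro t ht1 ht2
    have hto : orderOf t = 2 := orderOf_eq_prime (by rw [pow_two]; exact ht2) ht1
    have hzt : IsPGroup 2 (zpowers t) :=
      IsPGroup.of_card (n := 1) (by rw [Nat.card_zpowers, hto]; norm_num)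
    obtain ⟨Q, hQ⟩ := hzt.exists_le_sylow
    have htQ : t ∈ Q := hQ (mem_zpowers t)
    obtain ⟨g, rfl⟩ := MulAction.exists_smul_eq G S₀ Q
    rw [Sylow.smul_def] at htQ
    obtain ⟨y, hy, rfl⟩ := (Subgroup.mem_smul_pointwise_iff_exists _ _ _).1 htQ
    have hy1 : y ≠ 1 := by
      rintro rfl
      exact ht1 (by simp)
    obtain ⟨n, -, rfl⟩ := htrans a haT y ⟨hy, hy1⟩
    refine ⟨g * n, ?_⟩
    simp only [MulAut.smul_def, MulAut.conj_apply]
    group

variable {G : Type u} [Group G] [Finite G] {K : Type v} [Field K] [Fintype K] {m : ℕ} (X : ReeAx G K m)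

theorem syl2 : Syl2 G X.a := by
  classical
  let π : ↥(centralizer ({X.a} : Set G)) →* Matrix.ProjectiveSpecialLinearGroup (Fin 2) K :=
    (MonoidHom.snd _ _).comp X.centA.toMonoidHom
  have hπ : Function.Surjective π := by
    intro l
    exact ⟨X.centA.symm (1, l), by simp [π]⟩
  have hker : Nat.card π.ker = 2 := by
    have h1 : Nat.card π.ker * π.ker.index = Nat.card ↥(centralizer ({X.a} : Set G)) :=
      Subgroup.card_mul_index _
    have h2 : π.ker.index = Nat.card (Matrix.ProjectiveSpecialLinearGroup (Fin 2) K) := by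
      rw [Subgroup.index_ker, MonoidHom.range_eq_top.2 hπ, Subgroup.card_top]
    have h3 : Nat.card ↥(centralizer ({X.a} : Set G)) =
        2 * Nat.card (Matrix.ProjectiveSpecialLinearGroup (Fin 2) K) := by
      rw [Nat.card_congr X.centA.toEquiv, Nat.card_prod]
      simp
    have h0 : 0 < Nat.card (Matrix.ProjectiveSpecialLinearGroup (Fin 2) K) := Nat.card_pos
    rw [h2, h3] at h1
    exact Nat.eq_of_mul_eq_mul_right h0 h1
  exact syl2_aux X.a X.a_ne X.a_sq _ rfl π hπ hker (fun P => (psl_sylow_klein X.hK P).card_four)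
    (psl_card_normalizer X.hK) (psl_centralizer X.hK)
    (sylow2_of_cent X.hK X.card_G X.a X.centA) X.perfect

end Cfsg.Agent.Lib.Lead.ReeAbs
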