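import Cfsg.Agent.Lib.Lead.ReeAbs.Ax
import Cfsg.Agent.Lib.Lead.ReeAbs.P0
import Cfsg.Agent.Lib.Lead.ReeAbs.Arith
import Cfsg.Agent.Lib.Helper41.Dickson.Packages
import Cfsg.Agent.Lib.Helper86.ReeP2Mod

/-! # [P2] the torus of order (q+1)/4 -/

set_option autoImplicit false

namespace Cfsg.Agent.Lib.Lead.ReeAbs

open Subgroup

universe u v

namespace P2

open Cfsg.Agent.Lib.Helper86.ReeP2

theorem dihedral_dichotomy {k : ℕ} (hk : 2 < k) (t l : DihedralGroup k) (ht : orderOf t = k) :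
    l ∈ zpowers t ∨ l * t * l⁻¹ = t⁻¹ := by
  have : NeZero k := ⟨by omega⟩
  cases t with
  | sr i =>
    rw [DihedralGroup.orderOf_sr] at ht
    omega
  | r i =>
    cases l with
    | sr j =>
      right
      simp
    | r j =>
      left
      rw [DihedralGroup.orderOf_r] at ht
      have hg : Nat.gcd k i.val = 1 := (Nat.div_eq_self.mp ht).resolve_left (by omega)
      have hu : IsUnit (i : ZMod k) := by
        have := (ZMod.isUnit_iff_coprime i.val k).mpr (Nat.coprime_comm.mp hg)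
        rwa [ZMod.natCast_zmod_val] at this
      obtain ⟨u, hu⟩ := hu
      rw [mem_zpowers_iff]
      refine ⟨(((u⁻¹ : (ZMod k)ˣ) : ZMod k) * j).val, ?_⟩
      rw [zpow_natCast, DihedralGroup.r_pow, ZMod.natCast_zmod_val, ← hu, ← mul_assoc,
        Units.mul_inv, one_mul]

theorem charP {K : Type v} [Field K] [Fintype K] {m : ℕ}
    (hK : Fintype.card K = 3 ^ (2 * m + 1)) : CharP K 3 := by
  obtain ⟨p, hp⟩ := CharP.exists K
  obtain ⟨n, hpp, hn⟩ := FiniteField.card K p
  have h1 : p ∣ 3 ^ (2 * m + 1) := by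
    rw [← hK, hn]
    exact dvd_pow_self p n.ne_zero
  have h3 : p = 3 := (Nat.prime_dvd_prime_iff_eq hpp Nat.prime_three).mp (hpp.dvd_of_dvd_pow h1)
  exact h3 ▸ hp

/-- every nontrivial element of `PSL₂(q)` of order dividing `(q+1)/4` lies in a torus. -/
theorem exists_LTor {K : Type v} [Field K] [Fintype K] {m : ℕ} (hm : 1 ≤ m)
    (hK : Fintype.card K = 3 ^ (2 * m + 1))
    (l : Matrix.ProjectiveSpecialLinearGroup (Fin 2) K) (hl1 : l ≠ 1)
    (hlk : l ^ ((3 ^ (2 * m + 1) + 1) / 4) = 1) :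
    ∃ (t : Matrix.ProjectiveSpecialLinearGroup (Fin 2) K)
      (N : Subgroup (Matrix.ProjectiveSpecialLinearGroup (Fin 2) K)),
      LTor t N ((3 ^ (2 * m + 1) + 1) / 4) ∧ l ∈ zpowers t := by
  have : CharP K 3 := charP hK
  have : Fact (Nat.Prime 3) := ⟨Nat.prime_three⟩
  have h4k := Arith.four_mul_k1 m
  have h2k := Arith.two_mul_k0 m
  have hq27 := q_ge hm
  set q := 3 ^ (2 * m + 1) with hq
  set k1 := (q + 1) / 4 with hk1
  have hord : orderOf l ∣ k1 := orderOf_dvd_of_pow_eq_one hlk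
  have hord1 : orderOf l ≠ 1 := fun h => hl1 (orderOf_eq_one_iff.mp h)
  have hl3 : l ^ 3 ≠ 1 := by
    intro h
    have h1 : orderOf l ∣ 3 := orderOf_dvd_of_pow_eq_one h
    have h3 : Nat.Coprime 3 k1 := Nat.Coprime.coprime_dvd_left (by norm_num) (Arith.cop_6_k1 m)
    exact hord1 (Nat.eq_one_of_dvd_coprimes h3 h1 hord)
  obtain ⟨N, k, t, hk, ⟨eN⟩, htN, hordt, hlt, hctl⟩ :=
    Cfsg.Agent.Lib.Helper41.Dickson.torus_package 3 l hl3
  have hg : Nat.gcd 2 (Fintype.card K - 1) = 2 := by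
    rw [hK, ← h2k]
    exact Nat.gcd_eq_left (Dvd.intro _ rfl)
  rw [hg, hK] at hk
  have hlk' : orderOf l ∣ k := by rw [← hordt]; exact orderOf_dvd_of_mem_zpowers hlt
  have hk2 : k = 2 * k1 := by
    rcases hk with hk | hk
    · exfalso
      have h1 : k = (q - 1) / 2 := by omega
      rw [h1] at hlk'
      exact hord1 (Nat.eq_one_of_dvd_coprimes (Arith.cop_k0_k1 m) hlk' hord)
    · omega
  have hk_gt : 2 < k := by omega
  refine ⟨t, N, ⟨by rw [hordt, hk2], ?_, htN, ?_, hctl⟩, hlt⟩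
  · rw [Nat.card_congr eN.toEquiv, DihedralGroup.nat_card, hk2]; ring
  · intro x hx
    have hot : orderOf (eN ⟨t, htN⟩) = k := by
      rw [MulEquiv.orderOf_eq, Subgroup.orderOf_mk, hordt]
    rcases dihedral_dichotomy hk_gt (eN ⟨t, htN⟩) (eN ⟨x, hx⟩) hot with h | h
    · left
      obtain ⟨n, hn⟩ := mem_zpowers_iff.mp h
      rw [← map_zpow] at hn
      have := congrArg Subtype.val (eN.injective hn)
      rw [mem_zpowers_iff]
      exact ⟨n, by simpa using this⟩
    · right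
      rw [← map_inv, ← map_inv, ← map_mul, ← map_mul] at h
      have := congrArg Subtype.val (eN.injective h)
      simpa using this

end P2

variable {G : Type u} [Group G] [Finite G] {K : Type v} [Field K] [Fintype K] {m : ℕ} (X : ReeAx G K m)

theorem tor1 (h2 : Syl2 G X.a) : Tor1 G m := by
  unfold Tor1
  have h4k := Arith.four_mul_k1 m
  have h2k := Arith.two_mul_k0 m
  have hq27 := q_ge X.hm
  have hcop6 := Arith.cop_6_k1 m
  have hcop01 := Arith.cop_k0_k1 m
  have hcardB := card_B X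
  have hL1 := P2.exists_LTor X.hm X.hK
  obtain ⟨c, hc⟩ := Cfsg.Agent.Lib.Helper41.Dickson.exists_orderOf_plus (F := K)
  have hg : Nat.gcd 2 (Fintype.card K - 1) = 2 := by
    rw [X.hK, ← h2k]
    exact Nat.gcd_eq_left (Dvd.intro _ rfl)
  rw [hg, X.hK] at hc
  generalize hq : 3 ^ (2 * m + 1) = q at *
  generalize hk1 : (q + 1) / 4 = k1 at *
  have hk_odd : Odd k1 := by
    have : Nat.Coprime 2 k1 := Nat.Coprime.coprime_dvd_left (by norm_num) hcop6
    exact Nat.coprime_two_left.mp this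
  have hk_gt : 1 < k1 := by omega
  have hoc : orderOf c = 2 * k1 := by omega
  -- a torus
  have hc2 : (c ^ 2) ^ k1 = 1 := by rw [← pow_mul, ← hoc, pow_orderOf_eq_one]
  have hc21 : c ^ 2 ≠ 1 := pow_ne_one_of_lt_orderOf (by norm_num) (by omega)
  obtain ⟨t0, N, hT, -⟩ := hL1 (c ^ 2) hc21 hc2
  have hno3 : ∀ u y : G, orderOf u = 3 → y ≠ 1 → y ^ k1 = 1 → u * y ≠ y * u := by
    intro u y hu hy1 hyk huy
    have hu3 : u ^ 3 ^ 1 = 1 := by rw [pow_one, ← hu, pow_orderOf_eq_one]
    obtain ⟨x, hx⟩ := exists_conj_mem_U X hu3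
    have hx1 : x * u * x⁻¹ ≠ 1 := by
      intro e
      have : u = 1 := by
        calc u = x⁻¹ * (x * u * x⁻¹) * x := by group
          _ = 1 := by rw [e]; group
      rw [this, orderOf_one] at hu
      omega
    have hyB : x * y * x⁻¹ ∈ X.B := by
      apply cent_three X hx hx1
      rw [mem_centralizer_singleton_iff]
      calc x * y * x⁻¹ * (x * u * x⁻¹) = x * (y * u) * x⁻¹ := by group
        _ = x * (u * y) * x⁻¹ := by rw [huy]
        _ = _ := by group
    have h1 : orderOf (x * y * x⁻¹) ∣ q ^ 3 * (q - 1) := hcardB ▸ Subgroup.orderOf_dvd_natCard _ hyB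
    have h3 : orderOf (x * y * x⁻¹) ∣ k1 := by
      apply orderOf_dvd_of_pow_eq_one
      rw [conj_pow, hyk]; group
    have hcop : Nat.Coprime k1 (q ^ 3 * (q - 1)) := by
      apply Nat.Coprime.mul_right
      · apply Nat.Coprime.pow_right
        rw [← hq]
        apply Nat.Coprime.pow_right
        exact (Nat.Coprime.coprime_dvd_left (by norm_num) hcop6).symm
      · rw [← h2k]
        apply Nat.Coprime.mul_right
        · exact (Nat.Coprime.coprime_dvd_left (by norm_num) hcop6).symm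
        · exact hcop01.symm
    have h4 : orderOf (x * y * x⁻¹) = 1 := Nat.eq_one_of_dvd_coprimes hcop h3 h1
    rw [orderOf_eq_one_iff] at h4
    apply hy1
    calc y = x⁻¹ * (x * y * x⁻¹) * x := by group
      _ = 1 := by rw [h4]; group
  have hcfg := Cfsg.Agent.Lib.Helper86.ReeP2.cfg_of_model X.centA (fun _ => centA_a X) hk_odd hk_gt
    X.a_ne X.a_sq hT hL1 h2.conj hno3
  refine ⟨zpowers (Cfsg.Agent.Lib.Helper86.ReeP2.iota X.centA (1, t0 ^ 2)), ?_, ?_⟩
  · have := hcfg.isTorus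
    have e1 : 4 * k1 = q + 1 := h4k
    have e2 : 24 * k1 = 6 * (q + 1) := by omega
    rwa [e1, e2] at this
  · intro x _ hx4
    have : Fact (Nat.Prime 2) := ⟨Nat.prime_two⟩
    have hp : IsPGroup 2 (zpowers x) := IsPGroup.of_card (n := 2) (by rw [Nat.card_zpowers, hx4]; norm_num)
    obtain ⟨S, hS⟩ := hp.exists_le_sylow
    have := h2.exp S x (hS (mem_zpowers x))
    have h5 : orderOf x ∣ 2 := orderOf_dvd_of_pow_eq_one (by rw [pow_two]; exact this)
    rw [hx4] at h5
    omega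

end Cfsg.Agent.Lib.Lead.ReeAbs
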