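import Mathlib

/-! # [LA] pure linear algebra: elements of prime order p ∣ q^2-q+1 in a subgroup of GL_7(q) -/

set_option autoImplicit false

namespace Cfsg.Agent.Lib.Lead.ReeAbs

open Subgroup

namespace LAaux

/-- counting: an endomorphism of prime order acting freely on an invariant subspace -/
theorem card_modEq_one {K : Type*} [Field K] [Fintype K] {E : Type*} [AddCommGroup E] [Module K E]
    (W : Submodule K E) [Finite W] {p : ℕ} [Fact p.Prime]
    (c : E →ₗ[K] E) (hc : ∀ w ∈ W, c w ∈ W) (hcs : ∀ w ∈ W, (c ^ p) w = w)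
    (hfree : ∀ w ∈ W, c w = w → w = 0) :
    (Fintype.card K) ^ (Module.finrank K W) ≡ 1 [MOD p] := by
  classical
  let f : Function.End W := fun w => ⟨c w, hc w w.2⟩
  have hpow : ∀ (k : ℕ) (w : W), (((f ^ k) w : W) : E) = (c ^ k) w := by
    intro k
    induction k with
    | zero => intro w; rfl
    | succ k ih =>
      intro w
      rw [pow_succ', pow_succ']
      show c ((f ^ k) w : W) = c ((c ^ k) w)
      rw [ih]
  have hf : f ^ p ^ 1 = 1 := by
    rw [pow_one]
    funext w
    apply Subtype.ext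
    rw [hpow, hcs w w.2]
    rfl
  let _ : Fintype W := Fintype.ofFinite _
  have h := Equiv.Perm.card_fixedPoints_modEq hf
  have e : Fintype.card (Function.fixedPoints f) = 1 := by
    rw [Fintype.card_eq_one_iff]
    refine ⟨⟨0, ?_⟩, ?_⟩
    · show f 0 = 0
      apply Subtype.ext
      show c ((0 : W) : E) = _
      simp
    · rintro ⟨w, hw⟩
      apply Subtype.ext
      apply Subtype.ext
      have h1 : f w = w := hw
      have h2 : c (w : E) = w := congrArg Subtype.val h1
      simpa using hfree w w.2 h2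
  rw [e, Module.card_eq_pow_finrank (K := K) (V := W)] at h
  exact h

/-- the order of `q` modulo `p` divides the dimension -/
theorem order_dvd_finrank {K : Type*} [Field K] [Fintype K] {E : Type*} [AddCommGroup E] [Module K E]
    (W : Submodule K E) [Finite W] {p : ℕ} [Fact p.Prime]
    (u : (ZMod p)ˣ) (hu : (u : ZMod p) = (Fintype.card K : ℕ))
    (c : E →ₗ[K] E) (hc : ∀ w ∈ W, c w ∈ W) (hcs : ∀ w ∈ W, (c ^ p) w = w)
    (hfree : ∀ w ∈ W, c w = w → w = 0) :
    orderOf u ∣ Module.finrank K W := by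
  have h := card_modEq_one W c hc hcs hfree
  apply orderOf_dvd_of_pow_eq_one
  apply Units.ext
  rw [Units.val_pow_eq_pow_val, hu, Units.val_one]
  have h2 := (ZMod.natCast_eq_natCast_iff _ _ _).2 h
  push_cast at h2
  exact h2

/-- arithmetic: `q` has order 6 modulo `p`. -/
theorem exists_unit {p q : ℕ} (hp : p.Prime) (hp3 : 3 < p) (hq : p ∣ q ^ 2 - q + 1) :
    ∃ u : (ZMod p)ˣ, (u : ZMod p) = (q : ℕ) ∧ orderOf u = 6 := by
  haveI : Fact p.Prime := ⟨hp⟩
  have hle : q ≤ q ^ 2 := by nlinarith [Nat.zero_le q]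
  have h0 : ((q : ZMod p)) ^ 2 - q + 1 = 0 := by
    have := (ZMod.natCast_eq_zero_iff _ _).2 hq
    push_cast [Nat.cast_sub hle] at this
    exact this
  have h3 : (q : ZMod p) ^ 3 = -1 := by linear_combination ((q : ZMod p) + 1) * h0
  have h6 : (q : ZMod p) ^ 6 = 1 := by
    have : (q : ZMod p) ^ 6 = ((q : ZMod p) ^ 3) ^ 2 := by ring
    rw [this, h3]; ring
  have hne : ∀ n : ℕ, 0 < n → n ≤ 3 → ((n : ℕ) : ZMod p) ≠ 0 := by
    intro n hn hn3 h
    have := (ZMod.natCast_eq_zero_iff _ _).1 h
    have := Nat.le_of_dvd hn this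
    omega
  have hunit : IsUnit (q : ZMod p) := IsUnit.of_pow_eq_one h6 (by norm_num)
  obtain ⟨u, hu⟩ := hunit
  refine ⟨u, hu, ?_⟩
  have hu6 : u ^ 6 = 1 := by
    apply Units.ext; rw [Units.val_pow_eq_pow_val, hu, h6, Units.val_one]
  have hd : orderOf u ∣ 6 := orderOf_dvd_of_pow_eq_one hu6
  have hpow : ∀ k, u ^ k = 1 → (q : ZMod p) ^ k = 1 := by
    intro k hk
    have := congrArg Units.val hk
    rwa [Units.val_pow_eq_pow_val, hu, Units.val_one] at this
  have h2' : (2 : ZMod p) ≠ 0 := by simpa using hne 2 (by norm_num) (by norm_num)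
  have h3' : (3 : ZMod p) ≠ 0 := by simpa using hne 3 (by norm_num) (by norm_num)
  have hn3 : u ^ 3 ≠ 1 := by
    intro h
    have := hpow 3 h
    rw [h3] at this
    apply h2'
    linear_combination -this
  have hn2 : u ^ 2 ≠ 1 := by
    intro h
    have h2 := hpow 2 h
    -- q = 2, so 4 = 1
    have hq2 : (q : ZMod p) = 2 := by linear_combination h2 - h0
    rw [hq2] at h2
    apply h3'
    linear_combination h2
  have hmem : orderOf u ∈ Nat.divisors 6 := Nat.mem_divisors.2 ⟨hd, by norm_num⟩
  have hdiv : Nat.divisors 6 = {1, 2, 3, 6} := by decide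
  rw [hdiv] at hmem
  simp only [Finset.mem_insert, Finset.mem_singleton] at hmem
  rcases hmem with h | h | h | h
  · exfalso; apply hn2; rw [orderOf_eq_one_iff.1 h]; simp
  · exfalso; apply hn2; rw [← h]; exact pow_orderOf_eq_one u
  · exfalso; apply hn3; rw [← h]; exact pow_orderOf_eq_one u
  · exact h



/-- group theory: if every element of `N(<x>)` maps `x` to a `q^j`-th power, `|N : C|` divides the order
of `q` modulo `p`. -/
theorem card_normalizer_dvd {G : Type*} [Group G] [Finite G] (x : G) {p q n : ℕ}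
    (hx : orderOf x = p) (u : (ZMod p)ˣ) (hu : (u : ZMod p) = (q : ℕ)) (hn : orderOf u = n) (hn0 : n ≠ 0)
    (h : ∀ g ∈ normalizer (zpowers x : Set G), ∃ j : ℕ, g * x * g⁻¹ = x ^ (q ^ j)) :
    Nat.card (normalizer (zpowers x : Set G)) ∣ n * Nat.card (centralizer ({x} : Set G)) := by
  classical
  haveI : NeZero n := ⟨hn0⟩
  set N := normalizer (zpowers x : Set G) with hN
  -- comparison of exponents
  have hcmp : ∀ i j : ℕ, x ^ (q ^ i) = x ^ (q ^ j) ↔ ((i : ℕ) : ZMod n) = (j : ℕ) := by
    intro i j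
    rw [pow_eq_pow_iff_modEq, hx, ← ZMod.natCast_eq_natCast_iff, ZMod.natCast_eq_natCast_iff i j n, ← hn,
      ← pow_eq_pow_iff_modEq]
    push_cast
    rw [← hu, ← Units.val_pow_eq_pow_val, ← Units.val_pow_eq_pow_val]
    exact Units.val_inj
  let J : N → ℕ := fun g => Classical.choose (h g.1 g.2)
  have hJ : ∀ g : N, (g : G) * x * (g : G)⁻¹ = x ^ (q ^ J g) := fun g => Classical.choose_spec (h g.1 g.2)
  let ψ : N →* Multiplicative (ZMod n) := MonoidHom.mk' (fun g => Multiplicative.ofAdd ((J g : ℕ) : ZMod n)) (by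
    intro a b
    rw [← ofAdd_add]
    congr 1
    rw [← Nat.cast_add, ← hcmp, ← hJ]
    have h1 : ((a * b : N) : G) * x * ((a * b : N) : G)⁻¹ = (a : G) * ((b : G) * x * (b : G)⁻¹) * (a : G)⁻¹ := by
      push_cast
      group
    rw [h1, hJ b, ← conj_pow, hJ a, ← pow_mul, ← pow_add])
  have hker : ψ.ker = (centralizer ({x} : Set G)).subgroupOf N := by
    ext g
    rw [MonoidHom.mem_ker, Subgroup.mem_subgroupOf, Subgroup.mem_centralizer_singleton_iff]
    show Multiplicative.ofAdd ((J g : ℕ) : ZMod n) = 1 ↔ _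
    rw [ofAdd_eq_one]
    have h0 : ((J g : ℕ) : ZMod n) = 0 ↔ ((J g : ℕ) : ZMod n) = ((0 : ℕ) : ZMod n) := by simp
    rw [h0, ← hcmp, ← hJ, pow_zero, pow_one]
    constructor
    · intro h1
      have := mul_inv_eq_iff_eq_mul.1 h1
      first | exact this | exact this.symm
    · intro h1
      apply mul_inv_eq_iff_eq_mul.2
      first | exact h1 | exact h1.symm
  have hCN : centralizer ({x} : Set G) ≤ N := by
    intro g hg
    rw [Subgroup.mem_centralizer_singleton_iff] at hg
    rw [hN, Subgroup.mem_normalizer_iff]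
    have hgx : g * x * g⁻¹ = x := by
      apply mul_inv_eq_iff_eq_mul.2
      first | exact hg | exact hg.symm
    have hc : ∀ y ∈ zpowers x, g * y * g⁻¹ = y := by
      rintro y ⟨k, rfl⟩
      show g * x ^ k * g⁻¹ = x ^ k
      rw [← conj_zpow, hgx]
    have hc' : ∀ y ∈ zpowers x, g⁻¹ * y * g = y := by
      intro y hy
      have := hc y hy
      calc g⁻¹ * y * g = g⁻¹ * (g * y * g⁻¹) * g := by rw [this]
        _ = y := by group
    intro y
    constructor
    · intro hy; rw [hc y hy]; exact hy
    · intro hy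
      have := hc' _ hy
      have h2 : g⁻¹ * (g * y * g⁻¹) * g = y := by group
      rw [h2] at this
      rw [this]; exact hy
  have h1 : Nat.card ψ.ker * ψ.ker.index = Nat.card N := Subgroup.card_mul_index _
  rw [Subgroup.index_ker, hker, Nat.card_congr (Subgroup.subgroupOfEquivOfLe hCN).toEquiv] at h1
  have h2 : Nat.card ψ.range ∣ n := by
    have := Subgroup.card_subgroup_dvd_card ψ.range
    rwa [Nat.card_eq_fintype_card, Nat.card_eq_fintype_card, Fintype.card_multiplicative, ZMod.card,
      ← Nat.card_eq_fintype_card] at this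
  rw [← h1, mul_comm]
  exact Nat.mul_dvd_mul_right h2 _

open Polynomial in
/-- roots of a polynomial over `F_q` of degree at most the order of `q` modulo `p`. -/
theorem exists_pow_of_root {K : Type*} [Field K] [Fintype K] {R : Type*} [CommRing R] [IsDomain R]
    [Algebra K R] {p n : ℕ} (u : (ZMod p)ˣ) (hu : (u : ZMod p) = (Fintype.card K : ℕ))
    (hn : orderOf u = n) (f : K[X]) (hf : f ≠ 0) (hdeg : f.natDegree ≤ n) (ξ : R) (hp : p ≠ 0)
    (hξ : orderOf ξ = p) (h0 : aeval ξ f = 0) (k : ℕ) (hk : aeval (ξ ^ k) f = 0) :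
    ∃ j : ℕ, k ≡ (Fintype.card K) ^ j [MOD p] := by
  classical
  set q := Fintype.card K with hq
  have hfin : IsOfFinOrder ξ := by
    rw [← orderOf_pos_iff, hξ]; omega
  have hfrob : ∀ y : R, aeval y f = 0 → aeval (y ^ q) f = 0 := by
    intro y hy
    rw [← expand_aeval, FiniteField.expand_card, map_pow, hy]
    apply zero_pow
    exact Fintype.card_ne_zero
  have hall : ∀ j : ℕ, aeval (ξ ^ (q ^ j)) f = 0 := by
    intro j
    induction j with
    | zero => simpa using h0
    | succ j ih =>
      rw [pow_succ, pow_mul]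
      exact hfrob _ ih
  by_contra hcon
  push Not at hcon
  let F : R[X] := f.map (algebraMap K R)
  have hF : F ≠ 0 := by
    intro h
    apply hf
    exact (Polynomial.map_eq_zero_iff (algebraMap K R).injective).1 h
  have hroot : ∀ y : R, aeval y f = 0 → y ∈ F.roots.toFinset := by
    intro y hy
    rw [Multiset.mem_toFinset, mem_roots hF, IsRoot.def, eval_map_algebraMap, hy]
  let A : Finset R := (Finset.range n).image (fun j => ξ ^ (q ^ j))
  have hA : A.card = n := by
    rw [Finset.card_image_of_injOn, Finset.card_range]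
    intro i hi j hj hij
    simp only [Finset.coe_range, Set.mem_Iio] at hi hj
    have h1 : ξ ^ (q ^ i) = ξ ^ (q ^ j) := hij
    rw [hfin.pow_eq_pow_iff_modEq, hξ, ← ZMod.natCast_eq_natCast_iff] at h1
    push_cast at h1
    rw [← hu, ← Units.val_pow_eq_pow_val, ← Units.val_pow_eq_pow_val, Units.val_inj,
      pow_eq_pow_iff_modEq, hn] at h1
    exact Nat.ModEq.eq_of_lt_of_lt h1 hi hj
  have hnot : ξ ^ k ∉ A := by
    intro h
    obtain ⟨j, _, hj⟩ := Finset.mem_image.1 h
    have h1 : ξ ^ (q ^ j) = ξ ^ k := hj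
    rw [hfin.pow_eq_pow_iff_modEq, hξ] at h1
    exact hcon j h1.symm
  have hsub : insert (ξ ^ k) A ⊆ F.roots.toFinset := by
    intro y hy
    rcases Finset.mem_insert.1 hy with rfl | hy
    · exact hroot _ hk
    · obtain ⟨j, _, rfl⟩ := Finset.mem_image.1 hy
      exact hroot _ (hall j)
  have h1 := Finset.card_le_card hsub
  rw [Finset.card_insert_of_notMem hnot, hA] at h1
  have h2 : F.roots.toFinset.card ≤ n :=
    (Multiset.toFinset_card_le _).trans ((card_roots' F).trans ((natDegree_map_le).trans hdeg))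
  omega



theorem isDomain_centralizer {K : Type*} [Field K] {W : Type*} [AddCommGroup W] [Module K W]
    [Nontrivial W] (ξ : Module.End K W)
    (hirr : ∀ U : Submodule K W, (∀ u ∈ U, ξ u ∈ U) → U = ⊥ ∨ U = ⊤) :
    IsDomain (Subalgebra.centralizer K ({ξ} : Set (Module.End K W))) := by
  haveI : NoZeroDivisors (Subalgebra.centralizer K ({ξ} : Set (Module.End K W))) := ⟨by
    intro a b hab
    have ha : ξ * a.1 = a.1 * ξ := (Subalgebra.mem_centralizer_iff K).1 a.2 ξ rfl
    have hab' : a.1 * b.1 = 0 := congrArg Subtype.val hab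
    rcases hirr (LinearMap.ker a.1) (by
      intro u hu
      rw [LinearMap.mem_ker] at hu ⊢
      have : a.1 (ξ u) = ξ (a.1 u) := by
        have := LinearMap.congr_fun ha u
        exact this.symm
      rw [this, hu, map_zero]) with h | h
    · right
      apply Subtype.ext
      apply LinearMap.ext
      intro w
      have h1 : a.1 (b.1 w) = 0 := LinearMap.congr_fun hab' w
      have h2 : b.1 w ∈ LinearMap.ker a.1 := h1
      rw [h, Submodule.mem_bot] at h2
      exact h2
    · left
      apply Subtype.ext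
      exact LinearMap.ker_eq_top.1 h⟩
  exact NoZeroDivisors.to_isDomain _

theorem isCyclic_of_ring {T : Type*} [Group T] [Finite T] {R : Type*} [Ring R] [IsDomain R] [Finite R]
    (φ : T →* R) (hφ : Function.Injective φ) : IsCyclic T := by
  letI : CommRing R := { ‹Ring R› with mul_comm := (Finite.isDomain_to_isField R).mul_comm }
  exact isCyclic_of_injective_ringHom φ hφ

open Polynomial in
theorem aeval_semiconj {K : Type*} [Field K] {A : Type*} [Ring A] [Algebra K A] (g a b : A)
    (h : g * a = b * g) (f : K[X]) : g * aeval a f = aeval b f * g := by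
  induction f using Polynomial.induction_on' with
  | add f₁ f₂ h₁ h₂ => rw [map_add, map_add, mul_add, add_mul, h₁, h₂]
  | monomial n c =>
    rw [aeval_monomial, aeval_monomial]
    have h1 : g * a ^ n = b ^ n * g := (SemiconjBy.pow_right (show SemiconjBy g a b from h) n)
    rw [← mul_assoc, ← Algebra.commutes c g, mul_assoc, h1, mul_assoc]


open Polynomial in
theorem exists_pow_of_root' {K : Type*} [Field K] [Fintype K] {R : Type*} [Ring R] [IsDomain R]
    [Finite R] [Algebra K R] {p n : ℕ} (u : (ZMod p)ˣ) (hu : (u : ZMod p) = (Fintype.card K : ℕ))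
    (hn : orderOf u = n) (f : K[X]) (hf : f ≠ 0) (hdeg : f.natDegree ≤ n) (ξ : R) (hp : p ≠ 0)
    (hξ : orderOf ξ = p) (h0 : aeval ξ f = 0) (k : ℕ) (hk : aeval (ξ ^ k) f = 0) :
    ∃ j : ℕ, k ≡ (Fintype.card K) ^ j [MOD p] := by
  letI : CommRing R := { ‹Ring R› with mul_comm := (Finite.isDomain_to_isField R).mul_comm }
  exact exists_pow_of_root (R := R) u hu hn f hf hdeg ξ hp hξ h0 k hk


theorem LA_end {K : Type*} [Field K] [Fintype K] {V : Type*} [AddCommGroup V] [Module K V]
    [Module.Finite K V] (hV : Module.finrank K V = 7) {G : Type*} [Group G] [Finite G]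
    (ρ : G →* Module.End K V) (hρ : Function.Injective ρ) {p : ℕ} (hp : p.Prime) (hp3 : 3 < p)
    (hq : p ∣ (Fintype.card K) ^ 2 - Fintype.card K + 1)
    (x : G) (hx : orderOf x = p) :
    (∀ g ∈ centralizer {x}, ∀ h ∈ centralizer {x}, g * h = h * g) ∧
    (∀ T : Subgroup G, T ≤ centralizer {x} → (Nat.card T).Coprime (Fintype.card K - 1) → IsCyclic T) ∧
    Nat.card (normalizer (zpowers x : Set G)) ∣ 6 * Nat.card (centralizer ({x} : Set G)) := by
  classical
  haveI : Fact p.Prime := ⟨hp⟩
  haveI : Finite V := Module.finite_of_finite K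
  obtain ⟨u, hu, hu6⟩ := exists_unit hp hp3 hq
  set q := Fintype.card K with hqdef
  set X : Module.End K V := ρ x with hX
  have hXp : X ^ p = 1 := by rw [hX, ← map_pow, ← hx, pow_orderOf_eq_one, map_one]
  have hx1 : x ≠ 1 := by
    intro h; rw [h, orderOf_one] at hx; exact hp.one_lt.ne hx
  have hX1 : X ≠ 1 := by
    intro h; apply hx1; apply hρ; rw [map_one]; exact h
  have hpK : (p : K) ≠ 0 := by
    intro h
    have h1 : ringChar K ∣ p := ringChar.dvd h
    have h2 : ringChar K ∣ q := ringChar.dvd (FiniteField.cast_card_eq_zero K)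
    have h3 : IsUnit ((q : ℕ) : ZMod p) := hu ▸ u.isUnit
    have h4 : Nat.Coprime q p := (ZMod.isUnit_iff_coprime q p).1 h3
    have h5 : ringChar K ∣ 1 := h4 ▸ Nat.dvd_gcd h2 h1
    exact CharP.ringChar_ne_one (Nat.dvd_one.1 h5)
  set W1 : Submodule K V := LinearMap.range (X - 1) with hW1
  set W0 : Submodule K V := LinearMap.ker (X - 1) with hW0
  have hW0mem : ∀ v, v ∈ W0 ↔ X v = v := by
    intro v
    rw [hW0, LinearMap.mem_ker, LinearMap.sub_apply, Module.End.one_apply, sub_eq_zero]
  have hfree : ∀ w ∈ W1, X w = w → w = 0 := by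
    rintro w ⟨y, rfl⟩ hw
    set w := (X - 1) y with hwdef
    have h1 : (∑ i ∈ Finset.range p, X ^ i) * (X - 1) = 0 := by rw [geom_sum_mul, hXp, sub_self]
    have h2 : (∑ i ∈ Finset.range p, X ^ i) w = 0 := by
      have := LinearMap.congr_fun h1 y
      exact this
    have h3 : ∀ i : ℕ, (X ^ i) w = w := by
      intro i
      induction i with
      | zero => rfl
      | succ i ih => rw [pow_succ]; show (X ^ i) (X w) = w; rw [hw, ih]
    rw [LinearMap.sum_apply, Finset.sum_congr rfl (fun i _ => h3 i), Finset.sum_const, Finset.card_range,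
      ← Nat.cast_smul_eq_nsmul K] at h2
    exact (smul_eq_zero.1 h2).resolve_left hpK
  set N := normalizer (zpowers x : Set G) with hN
  have hNk : ∀ g ∈ N, ∃ k : ℕ, g * x * g⁻¹ = x ^ k := by
    intro g hg
    have h1 : g * x * g⁻¹ ∈ zpowers x := (Subgroup.mem_normalizer_iff.1 hg x).1 (mem_zpowers x)
    rw [← mem_powers_iff_mem_zpowers] at h1
    obtain ⟨k, hk⟩ := h1
    exact ⟨k, hk.symm⟩
  have hres : ∀ g : N, ∀ w ∈ W1, ρ g w ∈ W1 := by
    rintro ⟨g, hg⟩ w ⟨y, rfl⟩
    obtain ⟨k, hk⟩ := hNk g hg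
    have h1 : ρ g * X = X ^ k * ρ g := by
      rw [hX, ← map_pow, ← map_mul, ← map_mul, ← hk]
      congr 1
      group
    have h2 : ρ g * (X - 1) = (X - 1) * ((∑ i ∈ Finset.range k, X ^ i) * ρ g) := by
      rw [← mul_assoc, mul_geom_sum, mul_sub, sub_mul, h1, mul_one, one_mul]
    refine ⟨((∑ i ∈ Finset.range k, X ^ i) * ρ g) y, ?_⟩
    exact (LinearMap.congr_fun h2 y).symm
  let res : N →* Module.End K W1 :=
    { toFun := fun g => (ρ g).restrict (hres g)
      map_one' := by
        apply LinearMap.ext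
        intro w
        apply Subtype.ext
        show ρ ((1 : N) : G) w = w
        simp
      map_mul' := by
        intro a b
        apply LinearMap.ext
        intro w
        apply Subtype.ext
        show ρ ((a * b : N) : G) w = ρ a (ρ b w)
        simp }
  have hres_apply : ∀ (g : N) (w : W1), ((res g w : W1) : V) = ρ g w := fun g w => rfl
  have hxN : x ∈ N := by
    rw [hN]
    exact Subgroup.le_normalizer (mem_zpowers x)
  set ξ : Module.End K W1 := res ⟨x, hxN⟩ with hξ
  have hξp : ξ ^ p = 1 := by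
    rw [hξ, ← map_pow]
    have : (⟨x, hxN⟩ : N) ^ p = 1 := by
      apply Subtype.ext
      show x ^ p = 1
      rw [← hx, pow_orderOf_eq_one]
    rw [this, map_one]
  have hξfree : ∀ w : W1, ξ w = w → w = 0 := by
    intro w hw
    apply Subtype.ext
    exact hfree w w.2 (congrArg Subtype.val hw)
  have h6 : ∀ U : Submodule K W1, (∀ u ∈ U, ξ u ∈ U) → 6 ∣ Module.finrank K U := by
    intro U hU
    rw [← hu6]
    exact order_dvd_finrank U u hu ξ hU (fun w _ => by rw [hξp]; rfl) (fun w _ => hξfree w)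
  have hdim1 : Module.finrank K W1 = 6 := by
    have h1 : 6 ∣ Module.finrank K W1 := by
      have := h6 ⊤ (fun _ _ => Submodule.mem_top)
      rwa [finrank_top] at this
    have h2 : Module.finrank K W1 ≤ 7 := hV ▸ Submodule.finrank_le W1
    have h3 : Module.finrank K W1 ≠ 0 := by
      intro h
      have h4 : W1 = ⊥ := Submodule.finrank_eq_zero.1 h
      rw [hW1, LinearMap.range_eq_bot, sub_eq_zero] at h4
      exact hX1 h4
    omega
  have hdim0 : Module.finrank K W0 = 1 := by
    have := LinearMap.finrank_range_add_finrank_ker (X - 1)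
    rw [← hW1, ← hW0, hdim1, hV] at this
    omega
  have hirr : ∀ U : Submodule K W1, (∀ u ∈ U, ξ u ∈ U) → U = ⊥ ∨ U = ⊤ := by
    intro U hU
    have h1 := h6 U hU
    have h2 : Module.finrank K U ≤ 6 := hdim1 ▸ Submodule.finrank_le U
    have h3 : Module.finrank K U = 0 ∨ Module.finrank K U = 6 := by omega
    rcases h3 with h3 | h3
    · left; exact Submodule.finrank_eq_zero.1 h3
    · right; exact Submodule.eq_top_of_finrank_eq (h3.trans hdim1.symm)
  haveI : Nontrivial W1 := Module.nontrivial_of_finrank_pos (R := K) (by omega)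
  let R := Subalgebra.centralizer K ({ξ} : Set (Module.End K W1))
  haveI : IsDomain R := isDomain_centralizer ξ hirr
  haveI : Finite (Module.End K W1) := Module.finite_of_finite K
  haveI : Finite R := Finite.of_injective (fun r : R => (r : Module.End K W1)) Subtype.val_injective
  have hRcomm : ∀ a b : R, a * b = b * a := (Finite.isDomain_to_isField R).mul_comm
  have hCN : centralizer ({x} : Set G) ≤ N := by
    intro g hg
    rw [Subgroup.mem_centralizer_singleton_iff] at hg
    rw [hN, Subgroup.mem_normalizer_iff]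
    have hgx : g * x * g⁻¹ = x := mul_inv_eq_iff_eq_mul.2 hg
    have hc : ∀ y ∈ zpowers x, g * y * g⁻¹ = y := by
      rintro y ⟨k, rfl⟩
      show g * x ^ k * g⁻¹ = x ^ k
      rw [← conj_zpow, hgx]
    have hc' : ∀ y ∈ zpowers x, g⁻¹ * y * g = y := by
      intro y hy
      have := hc y hy
      calc g⁻¹ * y * g = g⁻¹ * (g * y * g⁻¹) * g := by rw [this]
        _ = y := by group
    intro y
    constructor
    · intro hy; rw [hc y hy]; exact hy
    · intro hy
      have := hc' _ hy
      have h2 : g⁻¹ * (g * y * g⁻¹) * g = y := by group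
      rw [h2] at this
      rw [this]; exact hy
  have hresR : ∀ (g : G) (hg : g ∈ centralizer ({x} : Set G)), res ⟨g, hCN hg⟩ ∈ R := by
    intro g hg
    rw [Subalgebra.mem_centralizer_iff]
    rintro _ rfl
    rw [hξ, ← map_mul, ← map_mul]
    congr 1
    apply Subtype.ext
    exact ((Subgroup.mem_centralizer_singleton_iff).1 hg).symm
  -- decomposition
  have hinf : W0 ⊓ W1 = ⊥ := by
    rw [eq_bot_iff]
    intro v hv
    rw [Submodule.mem_inf] at hv
    rw [Submodule.mem_bot]
    exact hfree v hv.2 ((hW0mem v).1 hv.1)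
  have hsup : W0 ⊔ W1 = ⊤ := by
    apply Submodule.eq_top_of_finrank_eq
    have := Submodule.finrank_sup_add_finrank_inf_eq W0 W1
    rw [hinf, finrank_bot, hdim0, hdim1] at this
    omega
  have hext : ∀ A B : Module.End K V, (∀ v ∈ W0, A v = B v) → (∀ v ∈ W1, A v = B v) → A = B := by
    intro A B h0 h1
    apply LinearMap.ext
    intro v
    have hv : v ∈ W0 ⊔ W1 := hsup ▸ Submodule.mem_top
    obtain ⟨a, ha, b, hb, rfl⟩ := Submodule.mem_sup.1 hv
    rw [map_add, map_add, h0 a ha, h1 b hb]
  obtain ⟨w0, hw0, hspan⟩ := finrank_eq_one_iff'.1 hdim0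
  have hw0' : (w0 : V) ≠ 0 := fun h => hw0 (Subtype.ext h)
  have hscal : ∀ g ∈ centralizer ({x} : Set G), ∃ c : K, ∀ v ∈ W0, ρ g v = c • v := by
    intro g hg
    have hg' : ρ g * X = X * ρ g := by
      rw [hX, ← map_mul, ← map_mul, (Subgroup.mem_centralizer_singleton_iff).1 hg]
    have h1 : ρ g w0 ∈ W0 := by
      rw [hW0mem]
      have := LinearMap.congr_fun hg' w0
      have h2 : ρ g (X w0) = X (ρ g w0) := this
      rw [← h2, (hW0mem _).1 w0.2]
    obtain ⟨c, hc⟩ := hspan ⟨_, h1⟩
    have hc' : c • (w0 : V) = ρ g w0 := congrArg Subtype.val hc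
    refine ⟨c, ?_⟩
    intro v hv
    obtain ⟨d, hd⟩ := hspan ⟨v, hv⟩
    have hd' : d • (w0 : V) = v := congrArg Subtype.val hd
    rw [← hd', map_smul, ← hc', smul_comm]
  refine ⟨?_, ?_, ?_⟩
  · intro g hg h hh
    apply hρ
    rw [map_mul, map_mul]
    apply hext
    · intro v hv
      obtain ⟨c, hc⟩ := hscal g hg
      obtain ⟨d, hd⟩ := hscal h hh
      show ρ g (ρ h v) = ρ h (ρ g v)
      rw [hd v hv, hc v hv, map_smul, map_smul, hd v hv, hc v hv, smul_comm]
    · intro v hv
      have h1 := hRcomm ⟨_, hresR g hg⟩ ⟨_, hresR h hh⟩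
      have h2 : res ⟨g, hCN hg⟩ * res ⟨h, hCN hh⟩ = res ⟨h, hCN hh⟩ * res ⟨g, hCN hg⟩ :=
        congrArg Subtype.val h1
      have h3 := LinearMap.congr_fun h2 ⟨v, hv⟩
      exact congrArg Subtype.val h3
  · intro T hT hcop
    let φ : T →* R :=
      { toFun := fun t => ⟨res ⟨t, hCN (hT t.2)⟩, hresR t (hT t.2)⟩
        map_one' := by
          apply Subtype.ext
          show res ⟨((1 : T) : G), _⟩ = 1
          exact map_one res
        map_mul' := by
          intro a b
          apply Subtype.ext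
          show res ⟨((a * b : T) : G), _⟩ = res ⟨a, _⟩ * res ⟨b, _⟩
          rw [← map_mul]
          rfl }
    apply isCyclic_of_ring (R := R) φ
    rw [injective_iff_map_eq_one]
    intro t ht
    have ht1 : res ⟨t, hCN (hT t.2)⟩ = 1 := congrArg Subtype.val ht
    apply Subtype.ext
    apply hρ
    show ρ (t : G) = ρ 1
    rw [map_one]
    apply hext
    · obtain ⟨c, hc⟩ := hscal t (hT t.2)
      have hpow : ∀ n : ℕ, ρ ((t : G) ^ n) w0 = c ^ n • (w0 : V) := by
        intro n
        induction n with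
        | zero => simp
        | succ n ih =>
          rw [pow_succ, map_mul]
          show ρ ((t : G) ^ n) (ρ t w0) = _
          rw [hc _ w0.2, map_smul, ih, smul_smul, pow_succ, mul_comm]
      have h1 : (t : G) ^ Nat.card T = 1 := by
        have : t ^ Nat.card T = 1 := pow_card_eq_one'
        exact_mod_cast congrArg Subtype.val this
      have h2 : c ^ Nat.card T = 1 := by
        have := hpow (Nat.card T)
        rw [h1, map_one, Module.End.one_apply] at this
        have h3 : (c ^ Nat.card T - 1) • (w0 : V) = 0 := by rw [sub_smul, one_smul, ← this, sub_self]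
        exact sub_eq_zero.1 ((smul_eq_zero.1 h3).resolve_right hw0')
      have hc0 : c ≠ 0 := by
        intro h
        rw [h, zero_pow Nat.card_pos.ne'] at h2
        exact zero_ne_one h2
      have h3 : c ^ (q - 1) = 1 := FiniteField.pow_card_sub_one_eq_one c hc0
      have h4 : c ^ Nat.gcd (Nat.card T) (q - 1) = 1 := pow_gcd_eq_one.2 ⟨h2, h3⟩
      rw [hcop, pow_one] at h4
      intro v hv
      rw [hc v hv, h4, one_smul]
      rfl
    · intro v hv
      have := LinearMap.congr_fun ht1 ⟨v, hv⟩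
      exact congrArg Subtype.val this
  · apply card_normalizer_dvd x hx u hu hu6 (by norm_num)
    intro g hg
    obtain ⟨k, hk⟩ := hNk g hg
    let f := ξ.charpoly
    have hf0 : f ≠ 0 := ξ.charpoly_monic.ne_zero
    have hfdeg : f.natDegree ≤ 6 := by
      rw [LinearMap.charpoly_natDegree, hdim1]
    have hfξ : Polynomial.aeval ξ f = 0 := ξ.aeval_self_charpoly
    have hsc : res ⟨g, hg⟩ * ξ = ξ ^ k * res ⟨g, hg⟩ := by
      rw [hξ, ← map_pow, ← map_mul, ← map_mul]
      congr 1
      apply Subtype.ext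
      show g * x = x ^ k * g
      rw [← hk]; group
    have h1 := aeval_semiconj _ _ _ hsc f
    rw [hfξ, mul_zero] at h1
    have h2 : Polynomial.aeval (ξ ^ k) f = 0 := by
      have h3 : res ⟨g, hg⟩ * res (⟨g, hg⟩⁻¹) = 1 := by rw [← map_mul, mul_inv_cancel, map_one]
      calc Polynomial.aeval (ξ ^ k) f = Polynomial.aeval (ξ ^ k) f * (res ⟨g, hg⟩ * res (⟨g, hg⟩⁻¹)) := by
            rw [h3, mul_one]
        _ = 0 := by rw [← mul_assoc, ← h1, zero_mul]
    let ξR : R := ⟨ξ, by
      rw [Subalgebra.mem_centralizer_iff]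
      rintro _ rfl
      rfl⟩
    have hmain : ∃ j : ℕ, k ≡ (Fintype.card K) ^ j [MOD p] := by
      refine exists_pow_of_root' (R := R) u hu hu6 f hf0 hfdeg ξR hp.ne_zero ?_ ?_ k ?_
      · apply orderOf_eq_prime
        · apply Subtype.ext
          show ξ ^ p = 1
          exact hξp
        · intro h
          have h3 : ξ = 1 := congrArg Subtype.val h
          obtain ⟨w, hw⟩ := exists_ne (0 : W1)
          apply hw
          apply hξfree
          rw [h3]; rfl
      · apply Subtype.ext
        rw [Polynomial.aeval_subalgebra_coe]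
        exact hfξ
      · apply Subtype.ext
        rw [Polynomial.aeval_subalgebra_coe]
        exact h2
    obtain ⟨j, hj⟩ := hmain
    refine ⟨j, ?_⟩
    rw [hk, pow_eq_pow_iff_modEq, hx]
    exact hj

end LAaux

theorem LA {K : Type*} [Field K] [Fintype K] {G : Type*} [Group G] [Finite G]
    (ρ : G →* GL (Fin 7) K) (hρ : Function.Injective ρ) {p : ℕ} (hp : p.Prime) (hp3 : 3 < p)
    (hq : p ∣ (Fintype.card K) ^ 2 - Fintype.card K + 1)
    (x : G) (hx : orderOf x = p) :
    (∀ g ∈ centralizer {x}, ∀ h ∈ centralizer {x}, g * h = h * g) ∧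
    (∀ T : Subgroup G, T ≤ centralizer {x} → (Nat.card T).Coprime (Fintype.card K - 1) → IsCyclic T) ∧
    Nat.card (normalizer (zpowers x : Set G)) ∣ 6 * Nat.card (centralizer ({x} : Set G)) := by
  let e : Matrix (Fin 7) (Fin 7) K →* Module.End K (Fin 7 → K) :=
    ((Matrix.toLinAlgEquiv' : Matrix (Fin 7) (Fin 7) K ≃ₐ[K] _) : _ →* _)
  have he : Function.Injective e := (Matrix.toLinAlgEquiv' : Matrix (Fin 7) (Fin 7) K ≃ₐ[K] _).injective
  let ρ' : G →* Module.End K (Fin 7 → K) := e.comp ((Units.coeHom _).comp ρ)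
  have hρ' : Function.Injective ρ' := by
    intro a b hab
    apply hρ
    apply Units.ext
    exact he hab
  exact LAaux.LA_end (by simp) ρ' hρ' hp hp3 hq x hx

end Cfsg.Agent.Lib.Lead.ReeAbs
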