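import Cfsg.Agent.Lib.Lead.ReeAbs.Ax

/-! # [TL] generic lemmas on `IsTorus` (no Ree hypothesis) -/

set_option autoImplicit false

namespace Cfsg.Agent.Lib.Lead.ReeAbs

open Subgroup

universe u

namespace TL

variable {G : Type u} [Group G]

/-- In a finite cyclic group two subgroups of the same order coincide. -/
theorem cyc_eq_of_card {E : Type*} [Group E] [Finite E] [IsCyclic E]
    {A B : Subgroup E} (h : Nat.card A = Nat.card B) : A = B := by
  classical
  have : Fintype E := Fintype.ofFinite E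
  set n := Nat.card A with hn
  have hn0 : 0 < n := Nat.card_pos
  have key : ∀ C : Subgroup E, Nat.card C = n →
      (C : Set E) = ((Finset.univ.filter fun a : E => a ^ n = 1 : Finset E) : Set E) := by
    intro C hC
    apply Set.eq_of_subset_of_ncard_le
    · intro x hx
      simp only [Finset.coe_filter, Finset.mem_univ, true_and, Set.mem_ofPred_eq]
      have := pow_card_eq_one' (x := (⟨x, hx⟩ : C))
      rw [hC] at this
      exact congrArg Subtype.val this
    · rw [Set.ncard_coe_finset]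
      have h1 := IsCyclic.card_pow_eq_one_le (α := E) hn0
      have h2 : (C : Set E).ncard = n := by rw [← hC]; rfl
      rw [h2]
      exact h1
    · exact Set.toFinite _
  apply SetLike.coe_injective
  rw [key A rfl, key B h.symm]

/-- two subgroups of the same order of a cyclic subgroup coincide -/
theorem eq_of_le_cyclic [Finite G] {A B C : Subgroup G} (hA : IsCyclic A) (hB : B ≤ A) (hC : C ≤ A)
    (h : Nat.card B = Nat.card C) : B = C := by
  have h1 : B.subgroupOf A = C.subgroupOf A := cyc_eq_of_card (by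
    rw [Nat.card_congr (subgroupOfEquivOfLe hB).toEquiv,
      Nat.card_congr (subgroupOfEquivOfLe hC).toEquiv, h])
  have := congrArg (Subgroup.map A.subtype) h1
  rwa [subgroupOf_map_subtype, subgroupOf_map_subtype, inf_eq_left.2 hB, inf_eq_left.2 hC] at this

theorem isCyclic_of_le {A B : Subgroup G} (hA : IsCyclic A) (hB : B ≤ A) : IsCyclic B := by
  have : IsCyclic (B.subgroupOf A) := inferInstance
  exact (subgroupOfEquivOfLe hB).isCyclic.1 this

/-- conjugation by `g` as a monoid hom -/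
abbrev cj (g : G) : G →* G := (MulAut.conj g).toMonoidHom

theorem cj_apply (g x : G) : cj g x = g * x * g⁻¹ := rfl

theorem cj_injective (g : G) : Function.Injective (cj g) := (MulAut.conj g).injective

theorem mem_map_cj {A : Subgroup G} {g x : G} : x ∈ A.map (cj g) ↔ g⁻¹ * x * g ∈ A := by
  constructor
  · rintro ⟨w, hw, rfl⟩
    have : g⁻¹ * cj g w * g = w := by rw [cj_apply]; group
    rw [this]; exact hw
  · intro hx
    exact ⟨_, hx, by rw [cj_apply]; group⟩

theorem map_cj_map_cj_inv (A : Subgroup G) (g : G) : (A.map (cj g⁻¹)).map (cj g) = A := by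
  ext x
  rw [mem_map_cj, mem_map_cj]
  have : g⁻¹⁻¹ * (g⁻¹ * x * g) * g⁻¹ = x := by group
  rw [this]

theorem centralizer_map_cj (A : Subgroup G) (g : G) :
    centralizer ((A.map (cj g) : Subgroup G) : Set G) = (centralizer (A : Set G)).map (cj g) := by
  ext x
  rw [mem_map_cj, mem_centralizer_iff, mem_centralizer_iff]
  constructor
  · intro h y hy
    have h1 := h (g * y * g⁻¹) ⟨y, hy, rfl⟩
    calc y * (g⁻¹ * x * g) = g⁻¹ * ((g * y * g⁻¹) * x) * g := by group
      _ = g⁻¹ * (x * (g * y * g⁻¹)) * g := by rw [h1]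
      _ = _ := by group
  · rintro h _ ⟨y, hy, rfl⟩
    have h1 := h y hy
    rw [cj_apply]
    calc g * y * g⁻¹ * x = g * (y * (g⁻¹ * x * g)) * g⁻¹ := by group
      _ = g * ((g⁻¹ * x * g) * y) * g⁻¹ := by rw [h1]
      _ = _ := by group

theorem normalizer_map_cj (A : Subgroup G) (g : G) :
    normalizer ((A.map (cj g) : Subgroup G) : Set G) = (normalizer (A : Set G)).map (cj g) :=
  (map_equiv_normalizer_eq A (MulAut.conj g)).symm

theorem orderOf_conj (g x : G) : orderOf (g * x * g⁻¹) = orderOf x :=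
  (MulAut.conj g).orderOf_eq x

theorem conj_pow' (g x : G) (j : ℕ) : (g * x * g⁻¹) ^ j = g * x ^ j * g⁻¹ := by
  rw [conj_pow]

/-- the normalizer of `A` normalizes the centralizer of `A` -/
theorem conj_mem_centralizer {A : Subgroup G} {ν x : G} (hν : ν ∈ normalizer (A : Set G))
    (hx : x ∈ centralizer (A : Set G)) : ν * x * ν⁻¹ ∈ centralizer (A : Set G) := by
  rw [mem_centralizer_iff] at hx ⊢
  intro y hy
  have h1 : ν⁻¹ * y * ν⁻¹⁻¹ ∈ A := (mem_normalizer_iff.1 (inv_mem hν) y).1 hy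
  have h2 := hx _ h1
  calc y * (ν * x * ν⁻¹) = ν * ((ν⁻¹ * y * ν⁻¹⁻¹) * x) * ν⁻¹ := by group
    _ = ν * (x * (ν⁻¹ * y * ν⁻¹⁻¹)) * ν⁻¹ := by rw [h2]
    _ = _ := by group

theorem mem_normalizer_of_conj_le [Finite G] {A : Subgroup G} {g : G}
    (h : ∀ x ∈ A, g * x * g⁻¹ ∈ A) : g ∈ normalizer (A : Set G) := by
  have h1 : A.map (cj g) ≤ A := by
    rintro _ ⟨x, hx, rfl⟩
    exact h x hx
  have h2 : A.map (cj g) = A := by
    apply eq_of_le_of_card_ge h1
    rw [card_map_of_injective (cj_injective g)]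
  rw [mem_normalizer_iff]
  intro x
  constructor
  · exact h x
  · intro hx
    rw [← h2] at hx
    obtain ⟨y, hy, hyx⟩ := hx
    have : y = x := cj_injective g hyx
    rwa [← this]

theorem mem_of_pow_mem {N : Subgroup G} {x : G} {a b : ℕ} (ha : x ^ a ∈ N) (hb : x ^ b ∈ N)
    (hab : a.Coprime b) : x ∈ N := by
  have h1 : x ^ (a : ℤ) ∈ N := by simpa using ha
  have h2 : x ^ (b : ℤ) ∈ N := by simpa using hb
  have h3 : (1 : ℤ) = a * Nat.gcdA a b + b * Nat.gcdB a b := by
    have := Nat.gcd_eq_gcd_ab a b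
    rw [hab.gcd_eq_one] at this
    exact_mod_cast this
  have : x = (x ^ (a : ℤ)) ^ Nat.gcdA a b * (x ^ (b : ℤ)) ^ Nat.gcdB a b := by
    rw [← zpow_mul, ← zpow_mul, ← zpow_add, ← h3, zpow_one]
  rw [this]
  exact mul_mem (zpow_mem h1 _) (zpow_mem h2 _)

theorem mem_centralizer_zpowers {x z : G} :
    x ∈ centralizer ((zpowers z : Subgroup G) : Set G) ↔ x * z = z * x := by
  rw [mem_centralizer_iff]
  constructor
  · intro h
    exact (h z (mem_zpowers z)).symm
  · rintro h _ ⟨j, rfl⟩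
    have : Commute z x := h.symm
    exact (this.zpow_left j).eq

end TL

open TL

variable {G : Type u} [Group G] [Finite G] {A : Subgroup G} {k c n : ℕ}

omit [Finite G] in
theorem IsTorus.k_dvd (hA : IsTorus A k c n) : k ∣ Nat.card G := by
  rw [← hA.card]; exact card_subgroup_dvd_card A

omit [Finite G] in
theorem IsTorus.le_cent (hA : IsTorus A k c n) : A ≤ centralizer (A : Set G) := by
  have := hA.cyc
  rw [le_centralizer_iff_isMulCommutative]
  exact IsCyclic.isMulCommutative

theorem IsTorus.factorization_eq (hA : IsTorus A k c n) (hk : k.Coprime (Nat.card G / k)) {p : ℕ}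
    (hp : p.Prime) (hpk : p ∣ k) : (Nat.card G).factorization p = k.factorization p := by
  have h1 : Nat.card G = k * (Nat.card G / k) := (Nat.mul_div_cancel' hA.k_dvd).symm
  have hk0 : k ≠ 0 := by
    rw [← hA.card]; exact Nat.card_pos.ne'
  have h0 : Nat.card G / k ≠ 0 := by
    intro h
    rw [h, mul_zero] at h1
    exact Nat.card_pos.ne' h1
  have h2 : ¬ p ∣ Nat.card G / k := fun h =>
    hp.one_lt.ne' (Nat.dvd_one.1 (hk ▸ Nat.dvd_gcd hpk h))
  rw [h1, Nat.factorization_mul hk0 h0]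
  simp [Nat.factorization_eq_zero_of_not_dvd h2]

/-- `A` contains a Sylow `p`-subgroup of `G` for `p ∣ k` -/
theorem IsTorus.exists_sylow_le (hA : IsTorus A k c n) (hk : k.Coprime (Nat.card G / k)) {p : ℕ}
    [Fact p.Prime] (hpk : p ∣ k) : ∃ P : Sylow p G, (P : Subgroup G) ≤ A := by
  have hp : p.Prime := Fact.out
  obtain ⟨Q⟩ : Nonempty (Sylow p A) := inferInstance
  have hcard : Nat.card ((Q : Subgroup A).map A.subtype) = p ^ (Nat.card G).factorization p := by
    rw [card_map_of_injective A.subtype_injective, Q.card_eq_multiplicity, hA.card,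
      hA.factorization_eq hk hp hpk]
  exact ⟨Sylow.ofCard _ hcard, map_subtype_le _⟩

/-- elements of prime order `p ∣ k` are conjugate into `A` (Sylow; `k` is a Hall divisor) -/
theorem IsTorus.exists_conj (hA : IsTorus A k c n) (hk : k.Coprime (Nat.card G / k)) {p : ℕ} (hp : p.Prime)
    (hpk : p ∣ k) {y : G} (hy : orderOf y = p) : ∃ g : G, g * y * g⁻¹ ∈ A := by
  have := Fact.mk hp
  obtain ⟨P, hP⟩ := hA.exists_sylow_le hk hpk
  have hz : IsPGroup p (zpowers y) := by
    apply IsPGroup.of_card (n := 1)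
    rw [Nat.card_zpowers, hy, pow_one]
  obtain ⟨Q, hQ⟩ := hz.exists_le_sylow
  obtain ⟨g, hg⟩ := MulAction.exists_smul_eq G Q P
  refine ⟨g, hP ?_⟩
  have h1 : g * y * g⁻¹ ∈ (g • Q : Sylow p G) := by
    rw [← SetLike.mem_coe, Sylow.coe_smul]
    exact ⟨y, hQ (mem_zpowers _), rfl⟩
  rwa [hg] at h1

/-- an element whose order is not prime to `k` is conjugate into `C(A)` -/
theorem IsTorus.exists_conj_cent (hA : IsTorus A k c n) (hk : k.Coprime (Nat.card G / k)) {y : G}
    (hy : ¬ (orderOf y).Coprime k) : ∃ g : G, g * y * g⁻¹ ∈ centralizer (A : Set G) := by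
  obtain ⟨p, hp, hpy, hpk⟩ := Nat.Prime.not_coprime_iff_dvd.1 hy
  have ho : orderOf (y ^ (orderOf y / p)) = p :=
    orderOf_pow_orderOf_div (orderOf_pos y).ne' hpy
  obtain ⟨g, hg⟩ := hA.exists_conj hk hp hpk ho
  refine ⟨g, ?_⟩
  set z := g * y ^ (orderOf y / p) * g⁻¹ with hz
  have hz1 : z ≠ 1 := by
    intro h
    have : orderOf z = p := by rw [hz, orderOf_conj, ho]
    rw [h, orderOf_one] at this
    exact hp.one_lt.ne this
  have h1 : zpowers z ≤ A := by rwa [zpowers_le]
  have h2 : zpowers z ≠ ⊥ := by rwa [Ne, zpowers_eq_bot]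
  rw [← hA.cent_eq _ h1 h2, mem_centralizer_zpowers, hz, ← conj_pow']
  exact ((Commute.refl (g * y * g⁻¹)).pow_right _).eq

omit [Finite G] in
theorem IsTorus.k_dvd_c (hA : IsTorus A k c n) : k ∣ c := by
  rw [← hA.card, ← hA.card_cent]; exact card_dvd_of_le hA.le_cent

theorem IsTorus.coprime_c_div (hA : IsTorus A k c n) (hk : k.Coprime (Nat.card G / k)) :
    k.Coprime (c / k) := by
  have hk0 : 0 < k := by rw [← hA.card]; exact Nat.card_pos
  have h1 : c ∣ Nat.card G := by rw [← hA.card_cent]; exact card_subgroup_dvd_card _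
  have h2 : c / k ∣ Nat.card G / k := Nat.div_dvd_div hA.k_dvd_c h1
  exact Nat.Coprime.coprime_dvd_right h2 hk

/-- the elements of `C(A)` of order dividing `k` are those of `A` -/
theorem IsTorus.mem_of_orderOf_dvd (hA : IsTorus A k c n) (hk : k.Coprime (Nat.card G / k)) {y : G}
    (hy : y ∈ centralizer (A : Set G)) (hd : orderOf y ∣ k) : y ∈ A := by
  set C := centralizer (A : Set G) with hC
  have hn : (A.subgroupOf C).Normal := by
    refine ⟨fun x hx g => ?_⟩
    have : g * x * g⁻¹ = x := by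
      have h1 : (g : G) * x = x * g := hA.comm_cent _ g.2 _ x.2
      have h2 : g * x = x * g := Subtype.ext h1
      rw [h2]; group
    rwa [this]
  have hidx : (A.subgroupOf C).index = c / k := by
    have h1 : A.relIndex C * Nat.card A = Nat.card C := by
      have := relIndex_mul_relIndex ⊥ A C bot_le hA.le_cent
      rw [relIndex_bot_left, relIndex_bot_left] at this
      rw [mul_comm]; exact this
    rw [hA.card, hA.card_cent] at h1
    have hk0 : 0 < k := by rw [← hA.card]; exact Nat.card_pos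
    exact (Nat.div_eq_of_eq_mul_left hk0 h1.symm).symm
  have h1 : (⟨y, hy⟩ : C) ^ (c / k) ∈ A.subgroupOf C := by
    rw [← hidx]; exact pow_index_mem _ _
  have h2 : y ^ (c / k) ∈ A := by
    rw [mem_subgroupOf] at h1
    simpa using h1
  have h3 : y ^ k ∈ A := by
    rw [orderOf_dvd_iff_pow_eq_one.1 hd]; exact one_mem A
  exact mem_of_pow_mem h3 h2 (hA.coprime_c_div hk)

/-- `N(C(A)) = N(A)` -/
theorem IsTorus.normalizer_cent (hA : IsTorus A k c n) (hk : k.Coprime (Nat.card G / k)) (h1 : 1 < k) :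
    normalizer ((centralizer (A : Set G) : Subgroup G) : Set G) = normalizer (A : Set G) := by
  apply le_antisymm
  · intro g hg
    apply mem_normalizer_of_conj_le
    intro x hx
    apply hA.mem_of_orderOf_dvd hk
    · exact (mem_normalizer_iff.1 hg x).1 (hA.le_cent hx)
    · rw [orderOf_conj, ← hA.card]
      have := orderOf_dvd_natCard (⟨x, hx⟩ : A)
      rwa [Subgroup.orderOf_mk] at this
  · intro g hg
    apply mem_normalizer_of_conj_le
    intro x hx
    exact conj_mem_centralizer hg hx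

/-- if `y ∈ C(A)` has order not prime to `k` and `g y g⁻¹ ∈ C(A)` then `g ∈ N(A)` -/
theorem IsTorus.mem_normalizer (hA : IsTorus A k c n) (hk : k.Coprime (Nat.card G / k)) {y g : G}
    (hy : y ∈ centralizer (A : Set G)) (hyk : ¬ (orderOf y).Coprime k)
    (hg : g * y * g⁻¹ ∈ centralizer (A : Set G)) : g ∈ normalizer (A : Set G) := by
  obtain ⟨p, hp, hpy, hpk⟩ := Nat.Prime.not_coprime_iff_dvd.1 hyk
  set z := y ^ (orderOf y / p) with hz
  have ho : orderOf z = p := orderOf_pow_orderOf_div (orderOf_pos y).ne' hpy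
  have hzA : z ∈ A := hA.mem_of_orderOf_dvd hk (pow_mem hy _) (ho ▸ hpk)
  have hzA' : g * z * g⁻¹ ∈ A := by
    apply hA.mem_of_orderOf_dvd hk
    · rw [hz, ← conj_pow']; exact pow_mem hg _
    · rw [orderOf_conj, ho]; exact hpk
  have hz1 : z ≠ 1 := by
    intro h
    rw [h, orderOf_one] at ho
    exact hp.one_lt.ne ho
  have h1 : zpowers z ≤ A := by rwa [zpowers_le]
  have h2 : zpowers z ≠ ⊥ := by rwa [Ne, zpowers_eq_bot]
  have h3 : zpowers (g * z * g⁻¹) ≤ A := by rwa [zpowers_le]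
  have h4 : zpowers (g * z * g⁻¹) = zpowers z := by
    apply eq_of_le_cyclic hA.cyc h3 h1
    rw [Nat.card_zpowers, Nat.card_zpowers, orderOf_conj]
  rw [← hA.norm_eq _ h1 h2]
  apply mem_normalizer_of_conj_le
  rintro _ ⟨j, rfl⟩
  rw [← h4]
  refine ⟨j, ?_⟩
  simp only
  rw [conj_zpow]

/-- COUNTING: for a conjugation invariant predicate `P` that forces the order not to be prime to `k` -/
theorem IsTorus.count (hA : IsTorus A k c n) (hk : k.Coprime (Nat.card G / k)) (P : G → Prop)
    (hP : ∀ g x : G, P x → P (g * x * g⁻¹)) (hPk : ∀ x, P x → ¬ (orderOf x).Coprime k) :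
    n * Nat.card {g : G // P g} = Nat.card G * Nat.card {x : ↥(centralizer (A : Set G)) // P x} := by
  classical
  let Φ : G × {x : ↥(centralizer (A : Set G)) // P x} → {g : G // P g} :=
    fun z => ⟨z.1 * z.2.1 * z.1⁻¹, hP _ _ z.2.2⟩
  have : Fintype {g : G // P g} := Fintype.ofFinite _
  have hfib : ∀ g₀ : {g : G // P g}, Nat.card {z // Φ z = g₀} = n := by
    rintro ⟨g₀, hg₀⟩
    obtain ⟨s, hs⟩ := hA.exists_conj_cent hk (hPk g₀ hg₀)
    -- `g₀ = t₀ x₀ t₀⁻¹`
    set t₀ := s⁻¹ with ht₀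
    set x₀ := s * g₀ * s⁻¹ with hx₀
    have hPx₀ : P x₀ := hP _ _ hg₀
    have hg₀' : t₀ * x₀ * t₀⁻¹ = g₀ := by rw [ht₀, hx₀]; group
    rw [← hA.card_norm]
    symm
    refine Nat.card_congr (Equiv.ofBijective
      (fun ν => ⟨(t₀ * ν, ⟨⟨(ν : G)⁻¹ * x₀ * ν, ?_⟩, ?_⟩), ?_⟩) ⟨?_, ?_⟩)
    · have := conj_mem_centralizer (inv_mem ν.2) hs
      rwa [inv_inv] at this
    · have := hP (ν : G)⁻¹ x₀ hPx₀
      rwa [inv_inv] at this
    · apply Subtype.ext
      show t₀ * ν * ((ν : G)⁻¹ * x₀ * ν) * (t₀ * ν)⁻¹ = g₀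
      rw [← hg₀']; group
    · intro ν ν' h
      have h1 := congrArg (fun z => z.1.1) h
      simp only at h1
      exact Subtype.ext (mul_left_cancel h1)
    · rintro ⟨⟨t, ⟨⟨x, hxC⟩, hPx⟩⟩, hz⟩
      have hz' : t * x * t⁻¹ = g₀ := congrArg Subtype.val hz
      have e1 : (t₀⁻¹ * t) * x * (t₀⁻¹ * t)⁻¹ = x₀ := by
        have : x₀ = t₀⁻¹ * g₀ * t₀ := by rw [← hg₀']; group
        rw [this, ← hz']; group
      have hν : t₀⁻¹ * t ∈ normalizer (A : Set G) :=
        hA.mem_normalizer hk hxC (hPk x hPx) (by rw [e1]; exact hs)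
      refine ⟨⟨t₀⁻¹ * t, hν⟩, ?_⟩
      apply Subtype.ext
      apply Prod.ext
      · show t₀ * (t₀⁻¹ * t) = t
        group
      · apply Subtype.ext
        apply Subtype.ext
        show (t₀⁻¹ * t)⁻¹ * x₀ * (t₀⁻¹ * t) = x
        rw [← e1]; group
  have h1 := Nat.card_congr (Equiv.sigmaFiberEquiv Φ)
  rw [Nat.card_sigma, Nat.card_prod] at h1
  rw [← h1, Finset.sum_congr rfl (fun g _ => hfib g), Finset.sum_const, Finset.card_univ,
    smul_eq_mul, Nat.card_eq_fintype_card, mul_comm]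

/-- the elements of `C(A)` whose order is prime to `k` -/
theorem IsTorus.card_cent_coprime (hA : IsTorus A k c n) (hk : k.Coprime (Nat.card G / k)) :
    Nat.card {x : ↥(centralizer (A : Set G)) // (orderOf (x : G)).Coprime k} = c / k := by
  set C := centralizer (A : Set G) with hC
  have hk0 : 0 < k := by rw [← hA.card]; exact Nat.card_pos
  have hcop := hA.coprime_c_div hk
  have hc : k * (c / k) = c := Nat.mul_div_cancel' hA.k_dvd_c
  have hcomm : ∀ x y : C, Commute x y := fun x y => Subtype.ext (hA.comm_cent _ x.2 _ y.2)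
  let φ : C →* C := MonoidHom.mk' (fun x => x ^ (c / k)) (fun x y => (hcomm x y).mul_pow _)
  have hφ : ∀ x, φ x = x ^ (c / k) := fun x => rfl
  have hpowc : ∀ x : C, x ^ c = 1 := fun x => by rw [← hA.card_cent]; exact pow_card_eq_one'
  have hrange : φ.range = A.subgroupOf C := by
    ext x
    constructor
    · rintro ⟨w, rfl⟩
      rw [mem_subgroupOf, hφ]
      apply hA.mem_of_orderOf_dvd hk (w ^ (c / k)).2
      rw [Subgroup.orderOf_coe]
      apply orderOf_dvd_of_pow_eq_one
      rw [← pow_mul, mul_comm, hc, hpowc]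
    · intro hx
      rw [mem_subgroupOf] at hx
      have hxk : x ^ k = 1 := by
        have := pow_card_eq_one' (x := (⟨x, hx⟩ : A))
        rw [hA.card] at this
        have h2 := congrArg Subtype.val this
        apply Subtype.ext
        simpa using h2
      -- `s * (c / k) ≡ 1 [MOD k]`
      obtain ⟨a, ha1, ha2⟩ := Nat.chineseRemainder hcop 1 0
      obtain ⟨s, rfl⟩ : c / k ∣ a := (Nat.modEq_zero_iff_dvd).1 ha2
      refine ⟨x ^ s, ?_⟩
      rw [hφ, ← pow_mul, mul_comm]
      conv_rhs => rw [← pow_one x]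
      rw [pow_eq_pow_iff_modEq]
      exact ha1.of_dvd (orderOf_dvd_of_pow_eq_one hxk)
  have hcard : Nat.card φ.ker = c / k := by
    have h1 := φ.ker.card_mul_index
    rw [index_ker, hrange, Nat.card_congr (subgroupOfEquivOfLe hA.le_cent).toEquiv, hA.card,
      hA.card_cent] at h1
    exact Nat.eq_of_mul_eq_mul_right hk0 (by rw [h1, mul_comm, hc])
  rw [← hcard]
  refine Nat.card_congr (Equiv.subtypeEquivRight (fun x => ?_))
  rw [MonoidHom.mem_ker, hφ, ← orderOf_dvd_iff_pow_eq_one, Subgroup.orderOf_coe]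
  constructor
  · intro h
    have h1 : orderOf x ∣ k * (c / k) := by rw [hc]; exact orderOf_dvd_of_pow_eq_one (hpowc x)
    exact h.dvd_of_dvd_mul_left h1
  · intro h
    exact Nat.Coprime.coprime_dvd_left h hcop.symm

/-- the number of elements whose order is not prime to `k` -/
theorem IsTorus.count_not_coprime (hA : IsTorus A k c n) (hk : k.Coprime (Nat.card G / k)) :
    n * Nat.card {g : G // ¬ (orderOf g).Coprime k} = Nat.card G * (c - c / k) := by
  classical
  rw [hA.count hk (fun g => ¬ (orderOf g).Coprime k)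
    (fun g x hx => by rw [orderOf_conj]; exact hx) (fun x hx => hx)]
  congr 1
  have : Fintype ↥(centralizer (A : Set G)) := Fintype.ofFinite _
  have h1 := hA.card_cent_coprime hk
  rw [Nat.card_eq_fintype_card] at h1 ⊢
  rw [Fintype.card_subtype_compl, h1, ← Nat.card_eq_fintype_card, hA.card_cent]

/-- an element of order dividing `k` is conjugate into `A` -/
theorem IsTorus.exists_conj_of_dvd (hA : IsTorus A k c n) (hk : k.Coprime (Nat.card G / k)) {y : G}
    (hy : orderOf y ∣ k) : ∃ g : G, g * y * g⁻¹ ∈ A := by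
  by_cases h1 : y = 1
  · exact ⟨1, by rw [h1]; simp⟩
  have h2 : ¬ (orderOf y).Coprime k := by
    intro h
    have : orderOf y = 1 := Nat.dvd_one.1 (h ▸ Nat.dvd_gcd dvd_rfl hy)
    exact h1 (orderOf_eq_one_iff.1 this)
  obtain ⟨g, hg⟩ := hA.exists_conj_cent hk h2
  exact ⟨g, hA.mem_of_orderOf_dvd hk hg (by rw [orderOf_conj]; exact hy)⟩

/-- cyclic subgroups of the same order `d ∣ k` are conjugate -/
theorem IsTorus.conj_of_card (hA : IsTorus A k c n) (hk : k.Coprime (Nat.card G / k)) {d : ℕ} (hd : d ∣ k)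
    (C D : Subgroup G) (hC : IsCyclic C) (hD : IsCyclic D) (hCd : Nat.card C = d) (hDd : Nat.card D = d) :
    ∃ g : G, D = C.map (MulAut.conj g).toMonoidHom := by
  have key : ∀ E : Subgroup G, IsCyclic E → Nat.card E = d → ∃ g : G, E.map (cj g) ≤ A := by
    intro E hE hEd
    obtain ⟨x, hx⟩ := hE.exists_generator
    have ho : orderOf (x : G) = d := by
      rw [Subgroup.orderOf_coe, ← hEd]
      exact orderOf_eq_card_of_forall_mem_zpowers hx
    obtain ⟨g, hg⟩ := hA.exists_conj_of_dvd hk (ho ▸ hd)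
    refine ⟨g, ?_⟩
    rintro _ ⟨y, hy, rfl⟩
    obtain ⟨j, hj⟩ := hx ⟨y, hy⟩
    have : y = (x : G) ^ j := by
      have := congrArg Subtype.val hj
      simpa using this.symm
    rw [this, cj_apply, ← conj_zpow]
    exact zpow_mem hg j
  obtain ⟨g₁, h₁⟩ := key C hC hCd
  obtain ⟨g₂, h₂⟩ := key D hD hDd
  have h3 : C.map (cj g₁) = D.map (cj g₂) := by
    apply eq_of_le_cyclic hA.cyc h₁ h₂
    rw [card_map_of_injective (cj_injective _), card_map_of_injective (cj_injective _), hCd, hDd]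
  refine ⟨g₂⁻¹ * g₁, ?_⟩
  ext x
  have e1 : x ∈ D ↔ g₂ * x * g₂⁻¹ ∈ D.map (cj g₂) := by
    rw [mem_map_cj]
    have : g₂⁻¹ * (g₂ * x * g₂⁻¹) * g₂ = x := by group
    rw [this]
  rw [e1, ← h3, mem_map_cj]
  show _ ↔ x ∈ C.map (cj (g₂⁻¹ * g₁))
  rw [mem_map_cj]
  have : g₁⁻¹ * (g₂ * x * g₂⁻¹) * g₁ = (g₂⁻¹ * g₁)⁻¹ * x * (g₂⁻¹ * g₁) := by group
  rw [this]

/-- a conjugate of a torus is a torus -/
theorem IsTorus.map_conj (hA : IsTorus A k c n) (g : G) : IsTorus (A.map (MulAut.conj g).toMonoidHom) k c n := by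
  show IsTorus (A.map (cj g)) k c n
  have hsub : ∀ A' : Subgroup G, A' ≤ A.map (cj g) → A' ≠ ⊥ →
      A'.map (cj g⁻¹) ≤ A ∧ A'.map (cj g⁻¹) ≠ ⊥ := by
    intro A' h1 h2
    constructor
    · rintro _ ⟨x, hx, rfl⟩
      have := mem_map_cj.1 (h1 hx)
      rw [cj_apply, inv_inv]; exact this
    · intro h
      apply h2
      rw [← map_cj_map_cj_inv A' g, h, Subgroup.map_bot]
  refine ⟨?_, ?_, ?_, ?_, ?_, ?_, ?_⟩
  · exact (A.equivMapOfInjective _ (cj_injective g)).isCyclic.1 hA.cyc
  · rw [card_map_of_injective (cj_injective g), hA.card]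
  · rw [centralizer_map_cj, card_map_of_injective (cj_injective g), hA.card_cent]
  · intro x hx y hy
    rw [centralizer_map_cj, mem_map_cj] at hx hy
    have := hA.comm_cent _ hx _ hy
    calc x * y = g * ((g⁻¹ * x * g) * (g⁻¹ * y * g)) * g⁻¹ := by group
      _ = g * ((g⁻¹ * y * g) * (g⁻¹ * x * g)) * g⁻¹ := by rw [this]
      _ = y * x := by group
  · rw [normalizer_map_cj, card_map_of_injective (cj_injective g), hA.card_norm]
  · intro A' h1 h2
    obtain ⟨h3, h4⟩ := hsub A' h1 h2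
    rw [centralizer_map_cj, ← hA.cent_eq _ h3 h4, ← centralizer_map_cj, map_cj_map_cj_inv]
  · intro A' h1 h2
    obtain ⟨h3, h4⟩ := hsub A' h1 h2
    rw [normalizer_map_cj, ← hA.norm_eq _ h3 h4, ← normalizer_map_cj, map_cj_map_cj_inv]

/-- Sylow `p`-subgroups are cyclic for `p ∣ k` -/
theorem IsTorus.sylow_cyclic (hA : IsTorus A k c n) (hk : k.Coprime (Nat.card G / k)) {p : ℕ} [Fact p.Prime]
    (hpk : p ∣ k) (P : Sylow p G) : IsCyclic (P : Subgroup G) := by
  obtain ⟨Q, hQ⟩ := hA.exists_sylow_le hk hpk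
  have h1 : IsCyclic (Q : Subgroup G) := isCyclic_of_le hA.cyc hQ
  exact (Sylow.equiv Q P).isCyclic.1 h1

/-- recognition of a torus: `T = C(x)` cyclic, `C(y) = T` for all `1 ≠ y ∈ T` -/
theorem isTorus_of_cent {T : Subgroup G} (hc : IsCyclic T)
    (hT : ∀ y ∈ T, y ≠ 1 → centralizer ({y} : Set G) = T) (h1 : T ≠ ⊥) :
    IsTorus T (Nat.card T) (Nat.card T) (Nat.card ↥(normalizer (T : Set G))) := by
  have hTc : T ≤ centralizer (T : Set G) := by
    rw [le_centralizer_iff_isMulCommutative]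
    exact IsCyclic.isMulCommutative
  have hcent : ∀ A' : Subgroup G, A' ≤ T → A' ≠ ⊥ → centralizer (A' : Set G) = T := by
    intro A' h2 h3
    obtain ⟨⟨y, hy⟩, hy1'⟩ := (A'.ne_bot_iff_exists_ne_one).1 h3
    have hy1 : y ≠ 1 := fun h => hy1' (Subtype.ext h)
    apply le_antisymm
    · rw [← hT y (h2 hy) hy1]
      exact centralizer_le (by simpa using hy)
    · exact hTc.trans (centralizer_le h2)
  have hcT := hcent T le_rfl h1
  refine ⟨hc, rfl, by rw [hcT], ?_, rfl, ?_, ?_⟩
  · intro x hx y hy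
    rw [hcT] at hx hy
    exact ((mem_centralizer_iff.1 (hTc hy)) x hx)
  · intro A' h2 h3
    rw [hcent A' h2 h3, hcT]
  · intro A' h2 h3
    apply le_antisymm
    · intro g hg
      apply mem_normalizer_of_conj_le
      intro x hx
      have := conj_mem_centralizer hg (by rw [hcent A' h2 h3]; exact hx : x ∈ centralizer (A' : Set G))
      rwa [hcent A' h2 h3] at this
    · intro g hg
      apply mem_normalizer_of_conj_le
      intro x hx
      have h4 : A'.map (cj g) ≤ T := by
        rintro _ ⟨y, hy, rfl⟩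
        exact (mem_normalizer_iff.1 hg y).1 (h2 hy)
      have h5 : A'.map (cj g) = A' := by
        apply eq_of_le_cyclic hc h4 h2
        rw [card_map_of_injective (cj_injective g)]
      rw [← h5]
      exact ⟨x, hx, rfl⟩

end Cfsg.Agent.Lib.Lead.ReeAbs
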