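import Cfsg.Agent.Lib.Lead.ReeAbs.Ax
import Cfsg.Agent.Lib.Lead.ReeAbs.Arith
import Cfsg.Agent.Lib.Lead.ReeAbs.LA
import Cfsg.Agent.Lib.Lead.ReeAbs.P0
import Cfsg.Agent.Lib.Lead.ReeAbs.TorLib

/-! # [P3] centralizers of elements of prime order dividing q^2-q+1 -/

set_option autoImplicit false

namespace Cfsg.Agent.Lib.Lead.ReeAbs

open Subgroup

universe u v

namespace P3

/-- a prime divisor of `q^2-q+1` is prime to `6`, `k0`, `k1` -/
theorem prime_facts (m : ℕ) {p : ℕ} (hp : p.Prime)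
    (h : p ∣ (3 ^ (2 * m + 1)) ^ 2 - 3 ^ (2 * m + 1) + 1) :
    ¬ p ∣ 6 ∧ ¬ p ∣ (3 ^ (2 * m + 1) - 1) / 2 ∧ ¬ p ∣ (3 ^ (2 * m + 1) + 1) / 4 := by
  rw [← Arith.k2_mul_k3] at h
  rcases (Nat.Prime.dvd_mul hp).1 h with h | h
  · exact ⟨fun h6 => hp.one_lt.ne' (Nat.eq_one_of_dvd_coprimes (Arith.cop_6_k2 m) h6 h),
      fun h6 => hp.one_lt.ne' (Nat.eq_one_of_dvd_coprimes (Arith.cop_k0_k2 m) h6 h),
      fun h6 => hp.one_lt.ne' (Nat.eq_one_of_dvd_coprimes (Arith.cop_k1_k2 m) h6 h)⟩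
  · exact ⟨fun h6 => hp.one_lt.ne' (Nat.eq_one_of_dvd_coprimes (Arith.cop_6_k3 m) h6 h),
      fun h6 => hp.one_lt.ne' (Nat.eq_one_of_dvd_coprimes (Arith.cop_k0_k3 m) h6 h),
      fun h6 => hp.one_lt.ne' (Nat.eq_one_of_dvd_coprimes (Arith.cop_k1_k3 m) h6 h)⟩

theorem three_lt (m : ℕ) {p : ℕ} (hp : p.Prime)
    (h : p ∣ (3 ^ (2 * m + 1)) ^ 2 - 3 ^ (2 * m + 1) + 1) : 3 < p := by
  have h6 := (prime_facts m hp h).1
  have h2 := hp.two_le
  by_contra hlt
  have : p = 2 ∨ p = 3 := by omega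
  rcases this with rfl | rfl
  · exact h6 (by norm_num)
  · exact h6 (by norm_num)

theorem not_dvd_q (m : ℕ) {p : ℕ} (hp : p.Prime)
    (h : p ∣ (3 ^ (2 * m + 1)) ^ 2 - 3 ^ (2 * m + 1) + 1) : ¬ p ∣ 3 ^ (2 * m + 1) := by
  intro hq
  have h3 : p ∣ 3 := hp.dvd_of_dvd_pow hq
  exact (prime_facts m hp h).1 (h3.trans (by norm_num))

theorem not_dvd_q_sub (m : ℕ) {p : ℕ} (hp : p.Prime)
    (h : p ∣ (3 ^ (2 * m + 1)) ^ 2 - 3 ^ (2 * m + 1) + 1) : ¬ p ∣ 3 ^ (2 * m + 1) - 1 := by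
  intro hq
  rw [← Arith.two_mul_k0] at hq
  rcases (Nat.Prime.dvd_mul hp).1 hq with h2 | h2
  · exact (prime_facts m hp h).1 (h2.trans (by norm_num))
  · exact (prime_facts m hp h).2.1 h2

theorem not_dvd_q_add (m : ℕ) {p : ℕ} (hp : p.Prime)
    (h : p ∣ (3 ^ (2 * m + 1)) ^ 2 - 3 ^ (2 * m + 1) + 1) : ¬ p ∣ 3 ^ (2 * m + 1) + 1 := by
  intro hq
  rw [← Arith.four_mul_k1] at hq
  rcases (Nat.Prime.dvd_mul hp).1 hq with h2 | h2
  · have h4 : p ∣ 2 ^ 2 := by simpa using h2
    have h5 : p ∣ 2 := hp.dvd_of_dvd_pow h4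
    exact (prime_facts m hp h).1 (h5.trans (by norm_num))
  · exact (prime_facts m hp h).2.2 h2

variable {G : Type u} [Group G]

theorem orderOf_conj' (g x : G) : orderOf (g * x * g⁻¹) = orderOf x := by
  have : g * x * g⁻¹ = MulAut.conj g x := by simp
  rw [this]
  exact MulEquiv.orderOf_eq _ _

theorem conj_ne_one {g x : G} (h : x ≠ 1) : g * x * g⁻¹ ≠ 1 := by
  intro h1
  apply h
  have : x = g⁻¹ * (g * x * g⁻¹) * g := by group
  rw [this, h1]; group

theorem conj_comm {g x y : G} (h : x * y = y * x) :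
    (g * x * g⁻¹) * (g * y * g⁻¹) = (g * y * g⁻¹) * (g * x * g⁻¹) := by
  have h1 : (g * x * g⁻¹) * (g * y * g⁻¹) = g * (x * y) * g⁻¹ := by group
  have h2 : (g * y * g⁻¹) * (g * x * g⁻¹) = g * (y * x) * g⁻¹ := by group
  rw [h1, h2, h]

/-- In a cyclic group every subgroup is characteristic, ambient form. -/
theorem normalizer_le_of_isCyclic {P Q : Subgroup G} (hcyc : IsCyclic P) (hQP : Q ≤ P) :
    Subgroup.normalizer (P : Set G) ≤ Subgroup.normalizer (Q : Set G) := by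
  obtain ⟨c, hc⟩ := hcyc.exists_generator
  have hstep : ∀ g ∈ Subgroup.normalizer (P : Set G), ∀ h ∈ Q, g * h * g⁻¹ ∈ Q := by
    intro g hg h hh
    have h1 : g * (c : G) * g⁻¹ ∈ P := (Subgroup.mem_normalizer_iff.1 hg _).1 c.2
    obtain ⟨k, hk⟩ := Subgroup.mem_zpowers_iff.1 (hc ⟨_, h1⟩)
    obtain ⟨j, hj⟩ := Subgroup.mem_zpowers_iff.1 (hc ⟨h, hQP hh⟩)
    have hk' : (c : G) ^ k = g * (c : G) * g⁻¹ := by
      have := congrArg Subtype.val hk
      simpa using this
    have hj' : (c : G) ^ j = h := by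
      have := congrArg Subtype.val hj
      simpa using this
    have h2 : g * h * g⁻¹ = h ^ k := by
      rw [← hj', ← conj_zpow, ← hk', ← zpow_mul, ← zpow_mul, mul_comm]
    rw [h2]
    exact Q.zpow_mem hh k
  intro g hg
  rw [Subgroup.mem_normalizer_iff]
  intro h
  refine ⟨hstep g hg h, fun hh => ?_⟩
  have := hstep g⁻¹ (Subgroup.inv_mem _ hg) _ hh
  have h2 : g⁻¹ * (g * h * g⁻¹) * g⁻¹⁻¹ = h := by group
  rwa [h2] at this

end P3

variable {G : Type u} [Group G] [Finite G] {K : Type v} [Field K] [Fintype K] {m : ℕ} (X : ReeAx G K m)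

open P3

/-- an element of prime order commuting with an element of prime order `p ∣ q^2-q+1` has order dividing
`q^2-q+1` -/
theorem P3.dvd_of_comm (h2 : Syl2 G X.a) (h0 : Tor0 G m) (h1 : Tor1 G m) {p : ℕ} (hp : p.Prime)
    (hpq : p ∣ (3 ^ (2 * m + 1)) ^ 2 - 3 ^ (2 * m + 1) + 1) {x : G} (hx : orderOf x = p)
    {l : ℕ} (hl : l.Prime) {y : G} (hy : orderOf y = l) (hxy : x * y = y * x) :
    l ∣ (3 ^ (2 * m + 1)) ^ 2 - 3 ^ (2 * m + 1) + 1 := by
  have hy1 : y ≠ 1 := by
    intro h; rw [h, orderOf_one] at hy; exact hl.one_lt.ne hy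
  have hlG : l ∣ (3 ^ (2 * m + 1)) ^ 3 * (3 ^ (2 * m + 1) - 1) * ((3 ^ (2 * m + 1)) ^ 3 + 1) := by
    rw [← X.card_G, ← hy]; exact orderOf_dvd_natCard y
  -- general principle: if a conjugate of `x` lies in a subgroup `D`, then `p ∣ |D|`
  have key : ∀ (D : Subgroup G) (g : G), g * x * g⁻¹ ∈ D → p ∣ Nat.card D := by
    intro D g hg
    have h3 : orderOf (⟨g * x * g⁻¹, hg⟩ : D) = p := by
      rw [← hx, ← orderOf_conj' g x, ← Subgroup.orderOf_coe]
    rw [← h3]; exact orderOf_dvd_natCard _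
  rcases Arith.prime_cases m hl hlG with rfl | rfl | hk | hk | hk | hk
  · -- involution
    exfalso
    have hyy : y * y = 1 := by rw [← pow_two, ← hy]; exact pow_orderOf_eq_one y
    obtain ⟨g, hg⟩ := h2.conj y hy1 hyy
    have h3 : g⁻¹ * x * g⁻¹⁻¹ ∈ centralizer ({X.a} : Set G) := by
      rw [mem_centralizer_singleton_iff]
      have ha : X.a = g⁻¹ * y * g⁻¹⁻¹ := by rw [← hg]; group
      rw [ha]
      exact conj_comm hxy
    have h4 := key _ _ h3
    rw [card_centA X] at h4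
    rcases (Nat.Prime.dvd_mul hp).1 h4 with h5 | h5
    · exact not_dvd_q m hp hpq h5
    · have h6 : (3 ^ (2 * m + 1)) ^ 2 - 1 = (3 ^ (2 * m + 1) + 1) * (3 ^ (2 * m + 1) - 1) := by
        have := Nat.sq_sub_sq (3 ^ (2 * m + 1)) 1
        simpa using this
      rw [h6] at h5
      rcases (Nat.Prime.dvd_mul hp).1 h5 with h7 | h7
      · exact not_dvd_q_add m hp hpq h7
      · exact not_dvd_q_sub m hp hpq h7
  · -- order 3
    exfalso
    have hy3 : y ^ 3 ^ 1 = 1 := by rw [pow_one, ← hy]; exact pow_orderOf_eq_one y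
    obtain ⟨g, hg⟩ := exists_conj_mem_U X hy3
    have h3 : g * x * g⁻¹ ∈ centralizer ({g * y * g⁻¹} : Set G) := by
      rw [mem_centralizer_singleton_iff]
      exact conj_comm hxy
    have h4 := key _ _ (cent_three X hg (conj_ne_one hy1) h3)
    rw [card_B X] at h4
    rcases (Nat.Prime.dvd_mul hp).1 h4 with h5 | h5
    · exact not_dvd_q m hp hpq (hp.dvd_of_dvd_pow h5)
    · exact not_dvd_q_sub m hp hpq h5
  · exfalso
    obtain ⟨A, hA, -⟩ := h0
    have hk0 : ((3 ^ (2 * m + 1) - 1) / 2).Coprime (Nat.card G / ((3 ^ (2 * m + 1) - 1) / 2)) := by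
      rw [X.card_G]; exact Arith.hall_k0 m
    obtain ⟨g, hg⟩ := hA.exists_conj hk0 hl hk hy
    have h3 : g * x * g⁻¹ ∈ centralizer ((zpowers (g * y * g⁻¹) : Subgroup G) : Set G) := by
      rw [mem_centralizer_iff]
      intro h hh
      obtain ⟨n, rfl⟩ := mem_zpowers_iff.1 hh
      have hc : Commute (g * y * g⁻¹) (g * x * g⁻¹) := (conj_comm hxy).symm
      exact (hc.zpow_left n).eq
    rw [hA.cent_eq _ (zpowers_le.2 hg) (by
      rw [Ne, zpowers_eq_bot]; exact conj_ne_one hy1)] at h3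
    have h4 := key _ _ h3
    rw [hA.card_cent] at h4
    exact not_dvd_q_sub m hp hpq h4
  · exfalso
    obtain ⟨A, hA, -⟩ := h1
    have hk0 : ((3 ^ (2 * m + 1) + 1) / 4).Coprime (Nat.card G / ((3 ^ (2 * m + 1) + 1) / 4)) := by
      rw [X.card_G]; exact Arith.hall_k1 m
    obtain ⟨g, hg⟩ := hA.exists_conj hk0 hl hk hy
    have h3 : g * x * g⁻¹ ∈ centralizer ((zpowers (g * y * g⁻¹) : Subgroup G) : Set G) := by
      rw [mem_centralizer_iff]
      intro h hh
      obtain ⟨n, rfl⟩ := mem_zpowers_iff.1 hh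
      have hc : Commute (g * y * g⁻¹) (g * x * g⁻¹) := (conj_comm hxy).symm
      exact (hc.zpow_left n).eq
    rw [hA.cent_eq _ (zpowers_le.2 hg) (by
      rw [Ne, zpowers_eq_bot]; exact conj_ne_one hy1)] at h3
    have h4 := key _ _ h3
    rw [hA.card_cent] at h4
    exact not_dvd_q_add m hp hpq h4
  · rw [← Arith.k2_mul_k3]; exact Dvd.dvd.mul_right hk _
  · rw [← Arith.k2_mul_k3]; exact Dvd.dvd.mul_left hk _

theorem tstr (ρ : G →* GL (Fin 7) K) (hρ : Function.Injective ρ) (h2 : Syl2 G X.a) (h0 : Tor0 G m)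
    (h1 : Tor1 G m) : TStr G m := by
  intro p x hp hpq hx
  have hKq : ∀ l : ℕ, l ∣ (3 ^ (2 * m + 1)) ^ 2 - 3 ^ (2 * m + 1) + 1 →
      l ∣ (Fintype.card K) ^ 2 - Fintype.card K + 1 := by
    intro l hl; rw [X.hK]; exact hl
  obtain ⟨hab, hcyc, hnorm⟩ := LA ρ hρ hp (three_lt m hp hpq) (hKq p hpq) x hx
  have hxT : x ∈ centralizer ({x} : Set G) := by rw [mem_centralizer_singleton_iff]
  -- primes dividing `|T|`
  have hprime : ∀ l : ℕ, l.Prime → l ∣ Nat.card ↥(centralizer ({x} : Set G)) →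
      l ∣ (3 ^ (2 * m + 1)) ^ 2 - 3 ^ (2 * m + 1) + 1 := by
    intro l hl hd
    haveI := Fact.mk hl
    obtain ⟨y, hy⟩ := exists_prime_orderOf_dvd_card' l hd
    have hy' : orderOf (y : G) = l := by rw [Subgroup.orderOf_coe]; exact hy
    have hc := mem_centralizer_singleton_iff.1 y.2
    exact P3.dvd_of_comm X h2 h0 h1 hp hpq hx hl hy' hc.symm
  -- (4)
  have h4 : ∀ y ∈ centralizer ({x} : Set G), y ≠ 1 →
      centralizer ({y} : Set G) = centralizer ({x} : Set G) := by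
    intro y hy hy1
    apply le_antisymm
    · intro z hz
      have ho : orderOf y ≠ 1 := by rwa [Ne, orderOf_eq_one_iff]
      set l := (orderOf y).minFac with hl
      have hlp : l.Prime := Nat.minFac_prime ho
      have hld : l ∣ orderOf y := Nat.minFac_dvd _
      set y' := y ^ (orderOf y / l) with hy'
      have hoy' : orderOf y' = l := orderOf_pow_orderOf_div (orderOf_pos y).ne' hld
      have hxy : x * y = y * x := (mem_centralizer_singleton_iff.1 hy).symm
      have hxy' : x * y' = y' * x := ((show Commute x y from hxy).pow_right _).eq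
      have hlq := P3.dvd_of_comm X h2 h0 h1 hp hpq hx hlp hoy' hxy'
      obtain ⟨hab', -, -⟩ := LA ρ hρ hlp (three_lt m hlp hlq) (hKq l hlq) y' hoy'
      have hzy : z * y = y * z := mem_centralizer_singleton_iff.1 hz
      have hz' : z ∈ centralizer ({y'} : Set G) := by
        rw [mem_centralizer_singleton_iff]
        exact ((show Commute z y from hzy).pow_right _).eq
      have hx' : x ∈ centralizer ({y'} : Set G) := by
        rw [mem_centralizer_singleton_iff]; exact hxy'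
      rw [mem_centralizer_singleton_iff]
      exact hab' z hz' x hx'
    · intro z hz
      rw [mem_centralizer_singleton_iff]
      exact hab z hz y hy
  have hcop : ∀ M : ℕ, (∀ l : ℕ, l.Prime → l ∣ (3 ^ (2 * m + 1)) ^ 2 - 3 ^ (2 * m + 1) + 1 → ¬ l ∣ M) →
      (Nat.card ↥(centralizer ({x} : Set G))).Coprime M := by
    intro M hM
    apply Nat.coprime_of_dvd
    intro l hl hd
    exact hM l hl (hprime l hl hd)
  have hc1 : IsCyclic ↥(centralizer ({x} : Set G)) := by
    apply hcyc _ le_rfl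
    rw [X.hK]
    exact hcop _ (fun l hl hd => not_dvd_q_sub m hl hd)
  refine ⟨hc1, ?_, ?_, h4, ?_⟩
  · -- (2)
    have hd : Nat.card ↥(centralizer ({x} : Set G)) ∣
        ((3 ^ (2 * m + 1)) ^ 3 * 8 * ((3 ^ (2 * m + 1) - 1) / 2) * ((3 ^ (2 * m + 1) + 1) / 4)) *
          ((3 ^ (2 * m + 1) - 3 ^ (m + 1) + 1) * (3 ^ (2 * m + 1) + 3 ^ (m + 1) + 1)) := by
      have := Subgroup.card_subgroup_dvd_card (centralizer ({x} : Set G))
      rw [X.card_G, Arith.card_factor] at this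
      rwa [← mul_assoc]
    rw [← Arith.k2_mul_k3]
    refine Nat.Coprime.dvd_of_dvd_mul_left (hcop _ ?_) hd
    intro l hl hlq hdv
    rcases (Nat.Prime.dvd_mul hl).1 hdv with h | h
    · rcases (Nat.Prime.dvd_mul hl).1 h with h | h
      · rcases (Nat.Prime.dvd_mul hl).1 h with h | h
        · exact not_dvd_q m hl hlq (hl.dvd_of_dvd_pow h)
        · have h8 : l ∣ 2 ^ 3 := by simpa using h
          exact (prime_facts m hl hlq).1 ((hl.dvd_of_dvd_pow h8).trans (by norm_num))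
      · exact (prime_facts m hl hlq).2.1 h
    · exact (prime_facts m hl hlq).2.2 h
  · -- (3)
    apply Nat.coprime_of_dvd
    intro l hl hd hd2
    haveI := Fact.mk hl
    obtain ⟨y, hy⟩ := exists_prime_orderOf_dvd_card' l hd
    have hy1 : (y : G) ≠ 1 := by
      intro h
      have : y = 1 := Subtype.ext h
      rw [this, orderOf_one] at hy; exact hl.one_lt.ne hy
    have hpg : IsPGroup l (zpowers (y : G)) := by
      apply IsPGroup.of_card (n := 1)
      rw [Nat.card_zpowers, Subgroup.orderOf_coe, hy, pow_one]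
    obtain ⟨P, hP⟩ := hpg.exists_le_sylow
    have hyP : (y : G) ∈ (P : Subgroup G) := hP (mem_zpowers _)
    haveI : Nontrivial (P : Subgroup G) := ⟨⟨⟨y, hyP⟩, 1, fun h => hy1 (congrArg Subtype.val h)⟩⟩
    haveI := P.isPGroup'.center_nontrivial
    obtain ⟨z, hz⟩ := exists_ne (1 : center (P : Subgroup G))
    have hz1 : ((z : (P : Subgroup G)) : G) ≠ 1 := by
      intro h
      apply hz
      apply Subtype.ext; apply Subtype.ext; exact h
    have hzc : ∀ t ∈ (P : Subgroup G), t * ((z : (P : Subgroup G)) : G) = ((z : (P : Subgroup G)) : G) * t := by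
      intro t ht
      have := mem_center_iff.1 z.2 ⟨t, ht⟩
      exact congrArg Subtype.val this
    have hzT : ((z : (P : Subgroup G)) : G) ∈ centralizer ({x} : Set G) := by
      rw [← h4 y y.2 hy1, mem_centralizer_singleton_iff]
      exact (hzc y hyP).symm
    have hPT : (P : Subgroup G) ≤ centralizer ({x} : Set G) := by
      rw [← h4 _ hzT hz1]
      intro t ht
      rw [mem_centralizer_singleton_iff]
      exact hzc t ht
    have hcard := Subgroup.card_dvd_of_le hPT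
    rw [P.card_eq_multiplicity] at hcard
    have hTG := Subgroup.card_subgroup_dvd_card (centralizer ({x} : Set G))
    have h5 : l * Nat.card ↥(centralizer ({x} : Set G)) ∣ Nat.card G := by
      obtain ⟨c, hc⟩ := hd2
      have : Nat.card G = Nat.card ↥(centralizer ({x} : Set G)) * (l * c) := by
        rw [← hc]; exact (Nat.mul_div_cancel' hTG).symm
      rw [this]
      exact ⟨c, by ring⟩
    have h6 : l ^ ((Nat.card G).factorization l + 1) ∣ Nat.card G := by
      rw [pow_succ, mul_comm]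
      exact (Nat.mul_dvd_mul_left l hcard).trans h5
    exact Nat.pow_succ_factorization_not_dvd Nat.card_pos.ne' hl h6
  · -- (5)
    have hle : normalizer ((centralizer ({x} : Set G) : Subgroup G) : Set G) ≤
        normalizer ((zpowers x : Subgroup G) : Set G) :=
      normalizer_le_of_isCyclic hc1 (zpowers_le.2 hxT)
    exact (Subgroup.card_dvd_of_le hle).trans hnorm

end Cfsg.Agent.Lib.Lead.ReeAbs
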