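import Cfsg.Agent.Lib.Lead.ReeAbs.Ax
import Cfsg.Agent.Lib.Lead.ReeAbs.P0
import Cfsg.Agent.Lib.Lead.ReeAbs.TorLib
import Cfsg.Agent.Lib.Lead.ReeAbs.Arith

/-! # [P4] counting -/

set_option autoImplicit false

namespace Cfsg.Agent.Lib.Lead.ReeAbs

open Subgroup

open scoped Pointwise

universe u v

namespace P4aux

/-- order of a conjugate -/
theorem orderOf_conj' {G : Type u} [Group G] (x g : G) : orderOf (x * g * x⁻¹) = orderOf g := by
  have : SemiconjBy x g (x * g * x⁻¹) := by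
    unfold SemiconjBy; group
  exact (this.orderOf_eq).symm


theorem cop2 {k : ℕ} (h : Nat.Coprime 6 k) : Nat.Coprime 2 k :=
  Nat.Coprime.coprime_dvd_left (by norm_num) h

theorem cop3 {k : ℕ} (h : Nat.Coprime 6 k) : Nat.Coprime 3 k :=
  Nat.Coprime.coprime_dvd_left (by norm_num) h

theorem cop4 {k : ℕ} (h : Nat.Coprime 6 k) : Nat.Coprime 4 k := by
  have := (cop2 h).pow_left 2
  norm_num at this
  exact this

theorem cop_6_T (m : ℕ) : Nat.Coprime 6 ((3 ^ (2 * m + 1)) ^ 2 - 3 ^ (2 * m + 1) + 1) := by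
  rw [← Arith.k2_mul_k3]
  exact Nat.Coprime.mul_right (Arith.cop_6_k2 m) (Arith.cop_6_k3 m)

theorem cop_k0_T (m : ℕ) :
    Nat.Coprime ((3 ^ (2 * m + 1) - 1) / 2) ((3 ^ (2 * m + 1)) ^ 2 - 3 ^ (2 * m + 1) + 1) := by
  rw [← Arith.k2_mul_k3]
  exact Nat.Coprime.mul_right (Arith.cop_k0_k2 m) (Arith.cop_k0_k3 m)

theorem cop_k1_T (m : ℕ) :
    Nat.Coprime ((3 ^ (2 * m + 1) + 1) / 4) ((3 ^ (2 * m + 1)) ^ 2 - 3 ^ (2 * m + 1) + 1) := by
  rw [← Arith.k2_mul_k3]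
  exact Nat.Coprime.mul_right (Arith.cop_k1_k2 m) (Arith.cop_k1_k3 m)

theorem cop_qm1_three (m : ℕ) : Nat.Coprime (3 ^ (2 * m + 1) - 1) 3 := by
  rw [← Arith.two_mul_k0]
  exact Nat.Coprime.mul_left (by norm_num) (cop3 (Arith.cop_6_k0 m)).symm

theorem cop_qm1_k1 (m : ℕ) : Nat.Coprime (3 ^ (2 * m + 1) - 1) ((3 ^ (2 * m + 1) + 1) / 4) := by
  rw [← Arith.two_mul_k0]
  exact Nat.Coprime.mul_left (cop2 (Arith.cop_6_k1 m)) (Arith.cop_k0_k1 m)

theorem cop_qm1_T (m : ℕ) :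
    Nat.Coprime (3 ^ (2 * m + 1) - 1) ((3 ^ (2 * m + 1)) ^ 2 - 3 ^ (2 * m + 1) + 1) := by
  rw [← Arith.two_mul_k0]
  exact Nat.Coprime.mul_left (cop2 (cop_6_T m)) (cop_k0_T m)

theorem cop_qp1_three (m : ℕ) : Nat.Coprime (3 ^ (2 * m + 1) + 1) 3 := by
  rw [← Arith.four_mul_k1]
  exact Nat.Coprime.mul_left (by norm_num) (cop3 (Arith.cop_6_k1 m)).symm

theorem cop_qp1_T (m : ℕ) :
    Nat.Coprime (3 ^ (2 * m + 1) + 1) ((3 ^ (2 * m + 1)) ^ 2 - 3 ^ (2 * m + 1) + 1) := by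
  rw [← Arith.four_mul_k1]
  exact Nat.Coprime.mul_left (cop4 (cop_6_T m)) (cop_k1_T m)

theorem cop_B_T (m : ℕ) : Nat.Coprime ((3 ^ (2 * m + 1)) ^ 3 * (3 ^ (2 * m + 1) - 1))
    ((3 ^ (2 * m + 1)) ^ 2 - 3 ^ (2 * m + 1) + 1) := by
  refine Nat.Coprime.mul_left ?_ (cop_qm1_T m)
  exact Nat.Coprime.pow_left _ (Nat.Coprime.pow_left _ (cop3 (cop_6_T m)))

theorem indicator_sum (p1 p2 p3 p4 p5 p6 : Prop) [Decidable p1] [Decidable p2] [Decidable p3]
    [Decidable p4] [Decidable p5] [Decidable p6] (K : p1 ∨ p2 ∨ p3 ∨ p4 ∨ p5 ∨ p6)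
    (H1 : p1 → ¬ p2 ∧ ¬ p3 ∧ ¬ p4 ∧ ¬ p5 ∧ ¬ p6) (H2 : p2 → ¬ p3 ∧ ¬ p4 ∧ ¬ p5 ∧ ¬ p6)
    (H3 : p3 → ¬ p4 ∧ ¬ p5 ∧ ¬ p6) (H4 : p4 → ¬ p5 ∧ ¬ p6) (H5 : p5 → ¬ p6) :
    1 = (if p1 then 1 else 0) + (if p2 then 1 else 0) + (if p3 then 1 else 0) +
      (if p4 then 1 else 0) + (if p5 then 1 else 0) + (if p6 then 1 else 0) := by
  rcases K with h | h | h | h | h | h
  · obtain ⟨a, b, c, d, e⟩ := H1 h
    simp [h, a, b, c, d, e]
  · have n1 : ¬ p1 := fun h' => (H1 h').1 h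
    obtain ⟨b, c, d, e⟩ := H2 h
    simp [h, n1, b, c, d, e]
  · have n1 : ¬ p1 := fun h' => (H1 h').2.1 h
    have n2 : ¬ p2 := fun h' => (H2 h').1 h
    obtain ⟨c, d, e⟩ := H3 h
    simp [h, n1, n2, c, d, e]
  · have n1 : ¬ p1 := fun h' => (H1 h').2.2.1 h
    have n2 : ¬ p2 := fun h' => (H2 h').2.1 h
    have n3 : ¬ p3 := fun h' => (H3 h').1 h
    obtain ⟨d, e⟩ := H4 h
    simp [h, n1, n2, n3, d, e]
  · have n1 : ¬ p1 := fun h' => (H1 h').2.2.2.1 h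
    have n2 : ¬ p2 := fun h' => (H2 h').2.2.1 h
    have n3 : ¬ p3 := fun h' => (H3 h').2.1 h
    have n4 : ¬ p4 := fun h' => (H4 h').1 h
    have e := H5 h
    simp [h, n1, n2, n3, n4, e]
  · have n1 : ¬ p1 := fun h' => (H1 h').2.2.2.2 h
    have n2 : ¬ p2 := fun h' => (H2 h').2.2.2 h
    have n3 : ¬ p3 := fun h' => (H3 h').2.2 h
    have n4 : ¬ p4 := fun h' => (H4 h').2 h
    have n5 : ¬ p5 := fun h' => (H5 h') h
    simp [h, n1, n2, n3, n4, n5]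

end P4aux

variable {G : Type u} [Group G] [Finite G] {K : Type v} [Field K] [Fintype K] {m : ℕ} (X : ReeAx G K m)

include X

namespace P4aux

/-- a Sylow 3-subgroup is a conjugate of `U`, its normalizer is the conjugate of `B` -/
theorem exists_conj_normalizer (P : Sylow 3 G) :
    ∃ x : G, ∀ g : G, g ∈ normalizer ((P : Subgroup G) : Set G) ↔ x⁻¹ * g * x ∈ X.B := by
  obtain ⟨P0, hP0⟩ := exists_sylow_U X
  have : Fact (Nat.Prime 3) := ⟨Nat.prime_three⟩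
  obtain ⟨x, hx⟩ := MulAction.exists_smul_eq G P0 P
  refine ⟨x, fun g => ?_⟩
  have hP : ∀ y : G, y ∈ (P : Subgroup G) ↔ x⁻¹ * y * x ∈ X.U := by
    intro y
    rw [← hx, Sylow.coe_subgroup_smul, hP0, Subgroup.mem_pointwise_smul_iff_inv_smul_mem]
    simp [MulAut.smul_def]
  rw [← normalizer_U X, Subgroup.mem_normalizer_iff, Subgroup.mem_normalizer_iff]
  constructor
  · intro h y
    have := h (x * y * x⁻¹)
    rw [hP, hP] at this
    have e1 : x⁻¹ * (x * y * x⁻¹) * x = y := by group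
    have e2 : x⁻¹ * (g * (x * y * x⁻¹) * g⁻¹) * x = x⁻¹ * g * x * y * (x⁻¹ * g * x)⁻¹ := by group
    rw [e1, e2] at this
    exact this
  · intro h y
    have := h (x⁻¹ * y * x)
    rw [hP, hP]
    have e2 : x⁻¹ * (g * y * g⁻¹) * x = x⁻¹ * g * x * (x⁻¹ * y * x) * (x⁻¹ * g * x)⁻¹ := by group
    rw [e2]
    exact this

theorem card_fiber (P : Sylow 3 G) :
    Nat.card {g : G // 3 ∣ orderOf g ∧ g ∈ normalizer ((P : Subgroup G) : Set G)} =
      2 * (3 ^ (2 * m + 1)) ^ 3 - (3 ^ (2 * m + 1)) ^ 2 - 1 := by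
  obtain ⟨x, hx⟩ := exists_conj_normalizer X P
  rw [← card_B_three X]
  refine Nat.card_congr ⟨fun g => ⟨⟨x⁻¹ * g.1 * x, (hx g.1).1 g.2.2⟩, ?_⟩,
    fun g => ⟨x * g.1.1 * x⁻¹, ?_, ?_⟩, ?_, ?_⟩
  · have := g.2.1
    rw [Subgroup.orderOf_mk]
    have e := orderOf_conj' x⁻¹ g.1
    rw [inv_inv] at e
    rw [e]; exact this
  · have := g.2
    rw [← Subgroup.orderOf_coe] at this
    rw [orderOf_conj']; exact this
  · rw [hx]
    have e1 : x⁻¹ * (x * g.1.1 * x⁻¹) * x = g.1.1 := by group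
    rw [e1]; exact g.1.2
  · intro g
    apply Subtype.ext
    show x * (x⁻¹ * g.1 * x) * x⁻¹ = g.1
    group
  · intro g
    apply Subtype.ext
    apply Subtype.ext
    show x⁻¹ * (x * g.1.1 * x⁻¹) * x = g.1.1
    group

theorem exists_normalizer {g : G} (h : 3 ∣ orderOf g) :
    ∃ P : Sylow 3 G, g ∈ normalizer ((P : Subgroup G) : Set G) := by
  obtain ⟨P0, hP0⟩ := exists_sylow_U X
  have : Fact (Nat.Prime 3) := ⟨Nat.prime_three⟩
  obtain ⟨x, hx⟩ := exists_conj_mem_B X h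
  refine ⟨x⁻¹ • P0, ?_⟩
  rw [← normalizer_U X, Subgroup.mem_normalizer_iff] at hx
  rw [Subgroup.mem_normalizer_iff]
  intro y
  rw [Sylow.coe_subgroup_smul, hP0, Subgroup.mem_pointwise_smul_iff_inv_smul_mem,
    Subgroup.mem_pointwise_smul_iff_inv_smul_mem]
  simp only [← map_inv, inv_inv, MulAut.smul_def, MulAut.conj_apply]
  have := hx (x * y * x⁻¹)
  have e2 : x * g * x⁻¹ * (x * y * x⁻¹) * (x * g * x⁻¹)⁻¹ = x * (g * y * g⁻¹) * x⁻¹ := by group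
  rw [e2] at this
  exact this

theorem unique_normalizer {g : G} (h : 3 ∣ orderOf g) (P Q : Sylow 3 G)
    (hP : g ∈ normalizer ((P : Subgroup G) : Set G)) (hQ : g ∈ normalizer ((Q : Subgroup G) : Set G)) :
    P = Q := by
  have : Fact (Nat.Prime 3) := ⟨Nat.prime_three⟩
  by_contra hne
  have hTI := sylow3_TI X P Q hne
  obtain ⟨k, hk⟩ := h
  have hpos : 0 < orderOf g := orderOf_pos g
  have hy : orderOf (g ^ k) = 3 := by
    rw [orderOf_pow' g (by rintro rfl; rw [mul_zero] at hk; omega), hk]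
    have : Nat.gcd (3 * k) k = k := Nat.gcd_eq_right (Dvd.intro_left 3 rfl)
    rw [this]
    have hk0 : 0 < k := by
      rcases Nat.eq_zero_or_pos k with rfl | h
      · rw [mul_zero] at hk; omega
      · exact h
    exact Nat.mul_div_cancel _ hk0
  have hpg : IsPGroup 3 (zpowers (g ^ k)) := by
    rw [IsPGroup.iff_card]
    exact ⟨1, by rw [Nat.card_zpowers, hy, pow_one]⟩
  have mem : ∀ R : Sylow 3 G, g ∈ normalizer ((R : Subgroup G) : Set G) → g ^ k ∈ (R : Subgroup G) := by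
    intro R hR
    have := hpg.inf_normalizer_sylow R
    have h1 : g ^ k ∈ zpowers (g ^ k) ⊓ normalizer ((R : Subgroup G) : Set G) :=
      ⟨mem_zpowers _, pow_mem hR k⟩
    have h2 : g ^ k ∈ zpowers (g ^ k) ⊓ (R : Subgroup G) := this ▸ h1
    exact h2.2
  have h1 : g ^ k ∈ (P : Subgroup G) ⊓ Q := ⟨mem P hP, mem Q hQ⟩
  rw [hTI, Subgroup.mem_bot] at h1
  rw [h1, orderOf_one] at hy
  omega

end P4aux

open P4aux

/-- [P4a] elements of order divisible by 3 -/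
theorem count_three : Nat.card {g : G // 3 ∣ orderOf g} =
    ((3 ^ (2 * m + 1)) ^ 3 + 1) * (2 * (3 ^ (2 * m + 1)) ^ 3 - (3 ^ (2 * m + 1)) ^ 2 - 1) := by
  classical
  have : Fact (Nat.Prime 3) := ⟨Nat.prime_three⟩
  let _ : Fintype (Sylow 3 G) := Fintype.ofFinite _
  have e : (Σ P : Sylow 3 G, {g : G // 3 ∣ orderOf g ∧ g ∈ normalizer ((P : Subgroup G) : Set G)}) ≃
      {g : G // 3 ∣ orderOf g} := by
    refine Equiv.ofBijective (fun z => ⟨z.2.1, z.2.2.1⟩) ⟨?_, ?_⟩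
    · rintro ⟨P, g, hg3, hgP⟩ ⟨Q, g', hg3', hgQ⟩ h
      have h' : g = g' := congrArg Subtype.val h
      subst h'
      have := unique_normalizer X hg3 P Q hgP hgQ
      subst this
      rfl
    · rintro ⟨g, hg⟩
      obtain ⟨P, hP⟩ := exists_normalizer X hg
      exact ⟨⟨P, g, hg, hP⟩, rfl⟩
  rw [← Nat.card_congr e, Nat.card_sigma]
  simp only [card_fiber X]
  rw [Finset.sum_const, Finset.card_univ, smul_eq_mul, ← Nat.card_eq_fintype_card, card_sylow3 X]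

/-- [P4b] involutions -/
theorem count_two (h2 : Syl2 G X.a) : Nat.card {g : G // orderOf g = 2} =
    (3 ^ (2 * m + 1)) ^ 2 * ((3 ^ (2 * m + 1)) ^ 2 - 3 ^ (2 * m + 1) + 1) := by
  have ha2 : orderOf X.a = 2 := orderOf_eq_prime (by rw [pow_two]; exact X.a_sq) X.a_ne
  have hiff : ∀ t : G, orderOf t = 2 ↔ t ∈ MulAction.orbit (ConjAct G) X.a := by
    intro t
    constructor
    · intro ht
      have h1 : t ≠ 1 := by
        rintro rfl; rw [orderOf_one] at ht; omega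
      have h3 : t * t = 1 := by
        rw [← pow_two, ← ht]; exact pow_orderOf_eq_one t
      obtain ⟨g, hg⟩ := h2.conj t h1 h3
      exact ⟨ConjAct.toConjAct g, by simpa [ConjAct.smul_def] using hg⟩
    · rintro ⟨g, rfl⟩
      show orderOf (g • X.a) = 2
      rw [ConjAct.smul_def, orderOf_conj', ha2]
  have e1 : Nat.card {g : G // orderOf g = 2} = Nat.card (MulAction.orbit (ConjAct G) X.a) :=
    Nat.card_congr (Equiv.subtypeEquivRight hiff)
  have e2 := Nat.card_congr (MulAction.orbitProdStabilizerEquivGroup (ConjAct G) X.a)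
  rw [Nat.card_prod, ← e1, ← Subgroup.nat_card_centralizer_nat_card_stabilizer, card_centA X] at e2
  have e3 : Nat.card (ConjAct G) = Nat.card G := rfl
  rw [e3, X.card_G] at e2
  have hq : 3 ≤ 3 ^ (2 * m + 1) := by
    calc 3 = 3 ^ 1 := by norm_num
      _ ≤ 3 ^ (2 * m + 1) := Nat.pow_le_pow_right (by norm_num) (by omega)
  generalize 3 ^ (2 * m + 1) = q at *
  generalize Nat.card {g : G // orderOf g = 2} = N at *
  obtain ⟨s, rfl⟩ := Nat.exists_eq_add_of_le hq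
  have a1 : (3 + s) ^ 2 - 1 = s ^ 2 + 6 * s + 8 := by
    apply Nat.sub_eq_of_eq_add; ring
  have a2 : (3 + s) ^ 2 - (3 + s) = s ^ 2 + 5 * s + 6 := by
    apply Nat.sub_eq_of_eq_add; ring
  have a3 : 3 + s - 1 = s + 2 := by omega
  rw [a1, a3] at e2
  rw [a2]
  have hpos : 0 < (3 + s) * (s ^ 2 + 6 * s + 8) := by positivity
  apply Nat.eq_of_mul_eq_mul_right hpos
  rw [e2]; ring

namespace P4aux

omit X [Finite G] in
theorem not_coprime_of_prime_dvd {a b p : ℕ} (hp : p.Prime) (h1 : p ∣ a) (h2 : p ∣ b) :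
    ¬ a.Coprime b := fun h => Nat.Prime.one_lt hp |>.ne' (Nat.eq_one_of_dvd_coprimes h h1 h2)

end P4aux

/-- [P4c] every element is of exactly one of six kinds -/
theorem kinds (h2 : Syl2 G X.a) (g : G) :
    g = 1 ∨ 3 ∣ orderOf g ∨ orderOf g = 2 ∨ ¬ (orderOf g).Coprime ((3 ^ (2 * m + 1) - 1) / 2) ∨
      ¬ (orderOf g).Coprime ((3 ^ (2 * m + 1) + 1) / 4) ∨
      ¬ (orderOf g).Coprime ((3 ^ (2 * m + 1)) ^ 2 - 3 ^ (2 * m + 1) + 1) := by
  have : Fact (Nat.Prime 2) := ⟨Nat.prime_two⟩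
  by_cases hall : ∀ p : ℕ, p.Prime → p ∣ orderOf g → p = 2
  · -- `g` is a 2-element
    have hpow : ∃ k, orderOf g = 2 ^ k := by
      refine ⟨(orderOf g).primeFactorsList.length, ?_⟩
      apply Nat.eq_prime_pow_of_unique_prime_dvd (orderOf_pos g).ne'
      intro d hd hdvd
      exact hall d hd hdvd
    obtain ⟨k, hk⟩ := hpow
    have hpg : IsPGroup 2 (zpowers g) := by
      rw [IsPGroup.iff_card]
      exact ⟨k, by rw [Nat.card_zpowers, hk]⟩
    obtain ⟨S, hS⟩ := hpg.exists_le_sylow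
    have hgg := h2.exp S g (hS (mem_zpowers g))
    by_cases h1 : g = 1
    · exact Or.inl h1
    · exact Or.inr (Or.inr (Or.inl (orderOf_eq_prime (by rw [pow_two]; exact hgg) h1)))
  · push Not at hall
    obtain ⟨p, hp, hpd, hp2⟩ := hall
    have hpG : p ∣ (3 ^ (2 * m + 1)) ^ 3 * (3 ^ (2 * m + 1) - 1) * ((3 ^ (2 * m + 1)) ^ 3 + 1) := by
      rw [← X.card_G]; exact hpd.trans (orderOf_dvd_natCard g)
    rcases Arith.prime_cases m hp hpG with h | h | h | h | h | h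
    · exact absurd h hp2
    · subst h; exact Or.inr (Or.inl hpd)
    · exact Or.inr (Or.inr (Or.inr (Or.inl (not_coprime_of_prime_dvd hp hpd h))))
    · exact Or.inr (Or.inr (Or.inr (Or.inr (Or.inl (not_coprime_of_prime_dvd hp hpd h)))))
    · refine Or.inr (Or.inr (Or.inr (Or.inr (Or.inr (not_coprime_of_prime_dvd hp hpd ?_)))))
      rw [← Arith.k2_mul_k3]; exact h.mul_right _
    · refine Or.inr (Or.inr (Or.inr (Or.inr (Or.inr (not_coprime_of_prime_dvd hp hpd ?_)))))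
      rw [← Arith.k2_mul_k3]; exact h.mul_left _

namespace P4aux

theorem dvd_of_not_coprime_k0 (h0 : Tor0 G m) {g : G}
    (h : ¬ (orderOf g).Coprime ((3 ^ (2 * m + 1) - 1) / 2)) : orderOf g ∣ 3 ^ (2 * m + 1) - 1 := by
  obtain ⟨A, hA, -⟩ := h0
  have hk : ((3 ^ (2 * m + 1) - 1) / 2).Coprime (Nat.card G / ((3 ^ (2 * m + 1) - 1) / 2)) := by
    rw [X.card_G]; exact Arith.hall_k0 m
  obtain ⟨x, hx⟩ := hA.exists_conj_cent hk h
  have := Subgroup.orderOf_dvd_natCard _ hx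
  rwa [orderOf_conj', hA.card_cent] at this

theorem dvd_of_not_coprime_k1 (h1 : Tor1 G m) {g : G}
    (h : ¬ (orderOf g).Coprime ((3 ^ (2 * m + 1) + 1) / 4)) : orderOf g ∣ 3 ^ (2 * m + 1) + 1 := by
  obtain ⟨A, hA, -⟩ := h1
  have hk : ((3 ^ (2 * m + 1) + 1) / 4).Coprime (Nat.card G / ((3 ^ (2 * m + 1) + 1) / 4)) := by
    rw [X.card_G]; exact Arith.hall_k1 m
  obtain ⟨x, hx⟩ := hA.exists_conj_cent hk h
  have := Subgroup.orderOf_dvd_natCard _ hx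
  rwa [orderOf_conj', hA.card_cent] at this

theorem dvd_of_three_dvd {g : G} (h : 3 ∣ orderOf g) :
    orderOf g ∣ (3 ^ (2 * m + 1)) ^ 3 * (3 ^ (2 * m + 1) - 1) := by
  obtain ⟨x, hx⟩ := exists_conj_mem_B X h
  have := Subgroup.orderOf_dvd_natCard _ hx
  rwa [orderOf_conj', card_B X] at this

end P4aux

/-- [P4c] the kinds exclude each other -/
theorem kinds_disjoint (h2 : Syl2 G X.a) (h0 : Tor0 G m) (h1 : Tor1 G m) (g : G) :
    (3 ∣ orderOf g → (orderOf g).Coprime ((3 ^ (2 * m + 1) - 1) / 2) ∧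
      (orderOf g).Coprime ((3 ^ (2 * m + 1) + 1) / 4) ∧
      (orderOf g).Coprime ((3 ^ (2 * m + 1)) ^ 2 - 3 ^ (2 * m + 1) + 1)) ∧
    (¬ (orderOf g).Coprime ((3 ^ (2 * m + 1) - 1) / 2) → (orderOf g).Coprime ((3 ^ (2 * m + 1) + 1) / 4) ∧
      (orderOf g).Coprime ((3 ^ (2 * m + 1)) ^ 2 - 3 ^ (2 * m + 1) + 1)) ∧
    (¬ (orderOf g).Coprime ((3 ^ (2 * m + 1) + 1) / 4) →
      (orderOf g).Coprime ((3 ^ (2 * m + 1)) ^ 2 - 3 ^ (2 * m + 1) + 1)) := by
  refine ⟨fun h3 => ⟨?_, ?_, ?_⟩, fun h => ⟨?_, ?_⟩, fun h => ?_⟩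
  · by_contra h
    have hd := h3.trans (dvd_of_not_coprime_k0 X h0 h)
    have := Nat.eq_one_of_dvd_coprimes (cop_qm1_three m) hd (dvd_refl 3)
    omega
  · by_contra h
    have hd := h3.trans (dvd_of_not_coprime_k1 X h1 h)
    have := Nat.eq_one_of_dvd_coprimes (cop_qp1_three m) hd (dvd_refl 3)
    omega
  · exact Nat.Coprime.coprime_dvd_left (dvd_of_three_dvd X h3) (cop_B_T m)
  · exact Nat.Coprime.coprime_dvd_left (dvd_of_not_coprime_k0 X h0 h) (cop_qm1_k1 m)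
  · exact Nat.Coprime.coprime_dvd_left (dvd_of_not_coprime_k0 X h0 h) (cop_qm1_T m)
  · exact Nat.Coprime.coprime_dvd_left (dvd_of_not_coprime_k1 X h1 h) (cop_qp1_T m)

/-- [P4d] the final count -/
theorem countT (h2 : Syl2 G X.a) (h0 : Tor0 G m) (h1 : Tor1 G m) : CountT G m := by
  classical
  unfold CountT
  have part : Nat.card G = 1 + Nat.card {g : G // 3 ∣ orderOf g} + Nat.card {g : G // orderOf g = 2} +
      Nat.card {g : G // ¬ (orderOf g).Coprime ((3 ^ (2 * m + 1) - 1) / 2)} +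
      Nat.card {g : G // ¬ (orderOf g).Coprime ((3 ^ (2 * m + 1) + 1) / 4)} +
      Nat.card {g : G // ¬ (orderOf g).Coprime ((3 ^ (2 * m + 1)) ^ 2 - 3 ^ (2 * m + 1) + 1)} := by
    let _ : Fintype G := Fintype.ofFinite G
    simp only [Nat.card_eq_fintype_card, Fintype.card_subtype, Finset.card_filter]
    have h1' : (∑ g : G, if g = 1 then 1 else 0) = 1 := by simp
    suffices key : ∑ _g : G, 1 = ∑ g : G, ((if g = 1 then 1 else 0) + (if 3 ∣ orderOf g then 1 else 0) +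
        (if orderOf g = 2 then 1 else 0) +
        (if ¬ (orderOf g).Coprime ((3 ^ (2 * m + 1) - 1) / 2) then 1 else 0) +
        (if ¬ (orderOf g).Coprime ((3 ^ (2 * m + 1) + 1) / 4) then 1 else 0) +
        (if ¬ (orderOf g).Coprime ((3 ^ (2 * m + 1)) ^ 2 - 3 ^ (2 * m + 1) + 1) then 1 else 0)) by
      simp only [Finset.sum_add_distrib] at key
      rw [h1'] at key
      rw [← key, ← Finset.card_univ, Finset.card_eq_sum_ones]
    apply Finset.sum_congr rfl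
    intro g _
    have D := kinds_disjoint X h2 h0 h1 g
    apply indicator_sum _ _ _ _ _ _ (kinds X h2 g)
    · rintro rfl
      simp
    · intro h3
      refine ⟨?_, not_not.mpr (D.1 h3).1, not_not.mpr (D.1 h3).2.1, not_not.mpr (D.1 h3).2.2⟩
      intro h; rw [h] at h3; omega
    · intro h
      rw [h]
      exact ⟨not_not.mpr (cop2 (Arith.cop_6_k0 m)), not_not.mpr (cop2 (Arith.cop_6_k1 m)),
        not_not.mpr (cop2 (cop_6_T m))⟩
    · intro h
      exact ⟨not_not.mpr (D.2.1 h).1, not_not.mpr (D.2.1 h).2⟩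
    · intro h
      exact not_not.mpr (D.2.2 h)
  have c3 := count_three X
  have c2 := count_two X h2
  obtain ⟨A0, hA0, -⟩ := h0
  obtain ⟨A1, hA1, -⟩ := h1
  have hk0 : ((3 ^ (2 * m + 1) - 1) / 2).Coprime (Nat.card G / ((3 ^ (2 * m + 1) - 1) / 2)) := by
    rw [X.card_G]; exact Arith.hall_k0 m
  have hk1 : ((3 ^ (2 * m + 1) + 1) / 4).Coprime (Nat.card G / ((3 ^ (2 * m + 1) + 1) / 4)) := by
    rw [X.card_G]; exact Arith.hall_k1 m
  have c0 := hA0.count_not_coprime hk0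
  have c1 := hA1.count_not_coprime hk1
  have id := Arith.count_identity X.hm
  have hq : 27 ≤ 3 ^ (2 * m + 1) := by
    have := X.hm
    calc 27 = 3 ^ 3 := by norm_num
      _ ≤ 3 ^ (2 * m + 1) := Nat.pow_le_pow_right (by norm_num) (by omega)
  have d0 : (3 ^ (2 * m + 1) - 1) / ((3 ^ (2 * m + 1) - 1) / 2) = 2 := by
    have e := Arith.two_mul_k0 m
    have hpos : 0 < (3 ^ (2 * m + 1) - 1) / 2 := by omega
    exact Nat.div_eq_of_eq_mul_left hpos e.symm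
  have d1 : (3 ^ (2 * m + 1) + 1) / ((3 ^ (2 * m + 1) + 1) / 4) = 4 := by
    have e := Arith.four_mul_k1 m
    have hpos : 0 < (3 ^ (2 * m + 1) + 1) / 4 := by omega
    exact Nat.div_eq_of_eq_mul_left hpos e.symm
  rw [d0, X.card_G] at c0
  rw [d1, X.card_G] at c1
  rw [X.card_G, c3, c2] at part
  generalize Nat.card {g : G // ¬ (orderOf g).Coprime ((3 ^ (2 * m + 1) - 1) / 2)} = N0 at *
  generalize Nat.card {g : G // ¬ (orderOf g).Coprime ((3 ^ (2 * m + 1) + 1) / 4)} = N1 at *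
  generalize Nat.card {g : G // ¬ (orderOf g).Coprime ((3 ^ (2 * m + 1)) ^ 2 - 3 ^ (2 * m + 1) + 1)} =
    NT at *
  have f0 : 6 * N0 = 3 * ((3 ^ (2 * m + 1) - 3) * (3 ^ (2 * m + 1)) ^ 3 * ((3 ^ (2 * m + 1)) ^ 3 + 1)) := by
    have hpos : 0 < 3 ^ (2 * m + 1) - 1 := by omega
    apply Nat.eq_of_mul_eq_mul_left hpos
    have e : 3 ^ (2 * m + 1) - 1 - 2 = 3 ^ (2 * m + 1) - 3 := by omega
    rw [e] at c0
    calc (3 ^ (2 * m + 1) - 1) * (6 * N0) = 3 * (2 * (3 ^ (2 * m + 1) - 1) * N0) := by ring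
      _ = _ := by rw [c0]; ring
  have f1 : 6 * N1 = (3 ^ (2 * m + 1) - 3) * (3 ^ (2 * m + 1)) ^ 3 * (3 ^ (2 * m + 1) - 1) *
        ((3 ^ (2 * m + 1)) ^ 2 - 3 ^ (2 * m + 1) + 1) := by
    have hpos : 0 < 3 ^ (2 * m + 1) + 1 := by omega
    apply Nat.eq_of_mul_eq_mul_left hpos
    have e : 3 ^ (2 * m + 1) + 1 - 4 = 3 ^ (2 * m + 1) - 3 := by omega
    rw [e] at c1
    have e3 : (3 ^ (2 * m + 1)) ^ 3 + 1 =
        (3 ^ (2 * m + 1) + 1) * ((3 ^ (2 * m + 1)) ^ 2 - 3 ^ (2 * m + 1) + 1) := by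
      generalize 3 ^ (2 * m + 1) = q at *
      obtain ⟨s, rfl⟩ := Nat.exists_eq_add_of_le hq
      have a2 : (27 + s) ^ 2 - (27 + s) = s ^ 2 + 53 * s + 702 := by
        apply Nat.sub_eq_of_eq_add; ring
      rw [a2]; ring
    calc (3 ^ (2 * m + 1) + 1) * (6 * N1) = 6 * (3 ^ (2 * m + 1) + 1) * N1 := by ring
      _ = _ := by rw [c1, e3]; ring
  rw [← f0, ← f1] at id
  omega


end Cfsg.Agent.Lib.Lead.ReeAbs
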