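import Cfsg.Agent.Lib.Lead.ReeAbs.Ax
import Cfsg.Agent.Lib.Lead.ReeAbs.TorLib

/-! # [P5] the tori of order q ± r + 1 -/

set_option autoImplicit false

namespace Cfsg.Agent.Lib.Lead.ReeAbs

open Subgroup

universe u

namespace P5

variable (G : Type u) [Group G]

/-- number of elements whose order is not prime to `k` -/
noncomputable def cnt (k : ℕ) : ℕ := Nat.card {g : G // ¬ (orderOf g).Coprime k}

variable {G} [Finite G]

theorem cnt_eq_ncard (k : ℕ) : cnt G k = Set.ncard {g : G | ¬ (orderOf g).Coprime k} := by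
  unfold cnt
  exact _root_.Nat.card_coe_set_eq _

theorem cnt_mul {a b : ℕ} (h : ∀ g : G, ¬ (orderOf g).Coprime a → (orderOf g).Coprime b) :
    cnt G (a * b) = cnt G a + cnt G b := by
  rw [cnt_eq_ncard, cnt_eq_ncard, cnt_eq_ncard, ← Set.ncard_union_eq]
  · congr 1
    ext g
    simp only [Set.mem_ofPred_eq, Set.mem_union, Nat.coprime_mul_iff_right]
    tauto
  · rw [Set.disjoint_left]
    intro g hg hg'
    exact hg' (h g hg)

theorem cnt_mono {a b : ℕ} (h : a ∣ b) : cnt G a ≤ cnt G b := by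
  rw [cnt_eq_ncard, cnt_eq_ncard]
  apply Set.ncard_le_ncard _ (Set.toFinite _)
  intro g hg hg'
  exact hg (Nat.Coprime.coprime_dvd_right h hg')

/-- what we need to know on one of the tori -/
structure Dat (G : Type u) [Group G] (M n e : ℕ) : Prop where
  n_dvd : n ∣ M
  one_lt : 1 < n
  e_pos : 1 ≤ e
  cnt_eq : 6 * n * cnt G n = e * Nat.card G * (n - 1)
  ord : ∀ g : G, ¬ (orderOf g).Coprime n → orderOf g ∣ n
  gen : ∃ g : G, orderOf g = n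
  hall : n.Coprime (Nat.card G / n)
  tor : e = 1 → ∃ A : Subgroup G, IsTorus A n n (6 * n)

theorem exists_dat {M : ℕ}
    (hT : ∀ (p : ℕ) (x : G), p.Prime → p ∣ M → orderOf x = p →
      IsCyclic ↥(centralizer ({x} : Set G)) ∧
      Nat.card ↥(centralizer ({x} : Set G)) ∣ M ∧
      (Nat.card ↥(centralizer ({x} : Set G))).Coprime (Nat.card G / Nat.card ↥(centralizer ({x} : Set G))) ∧
      (∀ y ∈ centralizer ({x} : Set G), y ≠ 1 → centralizer ({y} : Set G) = centralizer ({x} : Set G)) ∧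
      Nat.card ↥(normalizer ((centralizer ({x} : Set G) : Subgroup G) : Set G)) ∣
        6 * Nat.card ↥(centralizer ({x} : Set G)))
    (hMG : M ∣ Nat.card G) {p : ℕ} (hp : p.Prime) (hpM : p ∣ M) :
    ∃ n e, Dat G M n e ∧ p ∣ n := by
  have := Fact.mk hp
  obtain ⟨x, hx⟩ := exists_prime_orderOf_dvd_card' (G := G) p (hpM.trans hMG)
  obtain ⟨hcyc, hdvd, hhall, hcent, hnorm⟩ := hT p x hp hpM hx
  set T := centralizer ({x} : Set G) with hTdef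
  have hxT : x ∈ T := by
    rw [hTdef, mem_centralizer_singleton_iff]
  have hx1 : x ≠ 1 := by
    intro h
    rw [h, orderOf_one] at hx
    exact hp.one_lt.ne hx
  have hTbot : T ≠ ⊥ := by
    intro h
    rw [h, mem_bot] at hxT
    exact hx1 hxT
  have htor := isTorus_of_cent hcyc hcent hTbot
  have hpn : p ∣ Nat.card T := by
    rw [← hx]
    exact Subgroup.orderOf_dvd_natCard T hxT
  have hn1 : 1 < Nat.card T := lt_of_lt_of_le hp.one_lt (Nat.le_of_dvd Nat.card_pos hpn)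
  obtain ⟨e, he⟩ := hnorm
  have hcount := htor.count_not_coprime hhall
  rw [Nat.div_self Nat.card_pos] at hcount
  refine ⟨Nat.card T, e, ⟨hdvd, hn1, ?_, ?_, ?_, ?_, hhall, ?_⟩, hpn⟩
  · rcases Nat.eq_zero_or_pos e with h0 | h0
    · rw [h0, mul_zero] at he
      omega
    · exact h0
  · unfold cnt
    rw [he]
    calc Nat.card ↥(normalizer (T : Set G)) * e * Nat.card {g : G // ¬ (orderOf g).Coprime (Nat.card T)}
        = e * (Nat.card ↥(normalizer (T : Set G)) *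
            Nat.card {g : G // ¬ (orderOf g).Coprime (Nat.card T)}) := by ring
      _ = e * Nat.card G * (Nat.card T - 1) := by rw [hcount]; ring
  · intro g hg
    obtain ⟨h, hh⟩ := htor.exists_conj_cent hhall hg
    have h1 : orderOf (h * g * h⁻¹) ∣ Nat.card ↥(centralizer (T : Set G)) :=
      Subgroup.orderOf_dvd_natCard _ hh
    rw [htor.card_cent] at h1
    have h2 : orderOf (h * g * h⁻¹) = orderOf g := by
      have := orderOf_injective (MulAut.conj h).toMonoidHom (MulEquiv.injective _) g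
      simpa using this
    rwa [h2] at h1
  · obtain ⟨g, hg⟩ := hcyc.exists_generator
    refine ⟨(g : G), ?_⟩
    rw [Subgroup.orderOf_coe]
    exact orderOf_eq_card_of_forall_mem_zpowers hg
  · intro he1
    refine ⟨T, ?_⟩
    rw [he1, mul_one] at he
    rw [he]
    exact htor

theorem Dat.coprime {M n₁ e₁ n₂ e₂ p : ℕ} (h₁ : Dat G M n₁ e₁) (h₂ : Dat G M n₂ e₂)
    (hp2 : p ∣ n₂) (hp1 : ¬ p ∣ n₁) : n₁.Coprime n₂ := by
  by_contra h
  obtain ⟨g, hg⟩ := h₂.gen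
  have h3 : ¬ (orderOf g).Coprime n₁ := by
    rw [hg]
    intro h4
    exact h h4.symm
  have h5 := h₁.ord g h3
  rw [hg] at h5
  exact hp1 (hp2.trans h5)

theorem Dat.disj {M n₁ e₁ n₂ : ℕ} (h₁ : Dat G M n₁ e₁) (h : n₁.Coprime n₂) (g : G)
    (hg : ¬ (orderOf g).Coprime n₁) : (orderOf g).Coprime n₂ :=
  Nat.Coprime.coprime_dvd_left (h₁.ord g hg) h

theorem Dat.not_dvd {M n e p d : ℕ} (h : Dat G M n e) (hMG : M ∣ Nat.card G) (hp : p.Prime)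
    (hd : d ∣ M / n) (hpd : p ∣ d) : ¬ p ∣ n := by
  intro hpn
  have h1 : M / n ∣ Nat.card G / n := Nat.div_dvd_div h.n_dvd hMG
  have h2 : p ∣ Nat.card G / n := hpd.trans (hd.trans h1)
  have h3 := Nat.dvd_gcd hpn h2
  rw [h.hall] at h3
  exact hp.one_lt.ne' (Nat.dvd_one.mp h3)

theorem arith1 {L k2 k3 e c : ℕ} (hL : 0 < L) (hk2 : 2 ≤ k2) (hk3 : 2 ≤ k3) (he : 1 ≤ e)
    (h1 : 6 * (k2 * k3) * c = e * (L * (k2 * k3)) * (k2 * k3 - 1))
    (h2 : 6 * c = L * ((k2 - 1) * k3 + (k3 - 1) * k2)) : False := by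
  obtain ⟨a, rfl⟩ := Nat.exists_eq_add_of_le hk2
  obtain ⟨b, rfl⟩ := Nat.exists_eq_add_of_le hk3
  obtain ⟨e', rfl⟩ := Nat.exists_eq_add_of_le he
  have e1 : (2 + a) * (2 + b) - 1 = a * b + 2 * a + 2 * b + 3 := by
    have : (2 + a) * (2 + b) = a * b + 2 * a + 2 * b + 3 + 1 := by ring
    omega
  have e2 : 2 + a - 1 = a + 1 := by omega
  have e3 : 2 + b - 1 = b + 1 := by omega
  rw [e1] at h1
  rw [e2, e3] at h2
  have hM : 0 < (2 + a) * (2 + b) := by positivity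
  have h3 : (2 + a) * (2 + b) * (6 * c) =
      (2 + a) * (2 + b) * ((1 + e') * L * (a * b + 2 * a + 2 * b + 3)) := by
    calc (2 + a) * (2 + b) * (6 * c) = 6 * ((2 + a) * (2 + b)) * c := by ring
      _ = _ := by rw [h1]; ring
  have h4 := Nat.eq_of_mul_eq_mul_left hM h3
  rw [h2] at h4
  have h5 : L * ((a + 1) * (2 + b) + (b + 1) * (2 + a)) =
      L * ((1 + e') * (a * b + 2 * a + 2 * b + 3)) := by rw [h4]; ring
  have h6 := Nat.eq_of_mul_eq_mul_left hL h5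
  rcases Nat.eq_zero_or_pos e' with h0 | h0
  · subst h0
    nlinarith
  · nlinarith [Nat.zero_le (a * b), Nat.zero_le (e' * (a * b)), Nat.zero_le (e' * a),
      Nat.zero_le (e' * b), Nat.mul_le_mul_right (a * b + 2 * a + 2 * b + 3) h0]

theorem arith3 {N n e c : ℕ} (he : 1 ≤ e) (hn : 7 ≤ n) (h : 6 * n * c = e * N * (n - 1)) :
    N ≤ 7 * c := by
  obtain ⟨x, rfl⟩ := Nat.exists_eq_add_of_le hn
  have e1 : 7 + x - 1 = 6 + x := by omega
  rw [e1] at h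
  by_contra hlt
  rw [not_le] at hlt
  have h1 : N * (6 + x) ≤ e * N * (6 + x) := by
    apply Nat.mul_le_mul_right
    nlinarith
  have h2 : (7 * c + 1) * (6 + x) ≤ N * (6 + x) := Nat.mul_le_mul_right _ hlt
  nlinarith

theorem arith2 {L k2 k3 n₁ n₂ e₁ e₂ c₁ c₂ : ℕ} (hL : 0 < L) (hk2 : 2 ≤ k2) (hk3 : 2 ≤ k3)
    (he₁ : 1 ≤ e₁) (he₂ : 1 ≤ e₂) (hn₁ : 7 ≤ n₁) (hn₂ : 7 ≤ n₂) (hM : n₁ * n₂ = k2 * k3)
    (h1 : 6 * n₁ * c₁ = e₁ * (L * (n₁ * n₂)) * (n₁ - 1))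
    (h2 : 6 * n₂ * c₂ = e₂ * (L * (n₁ * n₂)) * (n₂ - 1))
    (h3 : 6 * (c₁ + c₂) = L * ((k2 - 1) * k3 + (k3 - 1) * k2)) :
    e₁ = 1 ∧ e₂ = 1 ∧ ((n₁ = k2 ∧ n₂ = k3) ∨ (n₁ = k3 ∧ n₂ = k2)) := by
  obtain ⟨a, rfl⟩ := Nat.exists_eq_add_of_le hk2
  obtain ⟨b, rfl⟩ := Nat.exists_eq_add_of_le hk3
  obtain ⟨x, rfl⟩ := Nat.exists_eq_add_of_le hn₁
  obtain ⟨y, rfl⟩ := Nat.exists_eq_add_of_le hn₂
  obtain ⟨f₁, rfl⟩ := Nat.exists_eq_add_of_le he₁
  obtain ⟨f₂, rfl⟩ := Nat.exists_eq_add_of_le he₂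
  have e1 : 7 + x - 1 = 6 + x := by omega
  have e2 : 7 + y - 1 = 6 + y := by omega
  have e3 : 2 + a - 1 = a + 1 := by omega
  have e4 : 2 + b - 1 = b + 1 := by omega
  rw [e1] at h1
  rw [e2] at h2
  rw [e3, e4] at h3
  have g1 : 6 * c₁ = (1 + f₁) * L * (7 + y) * (6 + x) := by
    have : (7 + x) * (6 * c₁) = (7 + x) * ((1 + f₁) * L * (7 + y) * (6 + x)) := by
      calc (7 + x) * (6 * c₁) = 6 * (7 + x) * c₁ := by ring
        _ = _ := by rw [h1]; ring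
    exact Nat.eq_of_mul_eq_mul_left (by positivity) this
  have g2 : 6 * c₂ = (1 + f₂) * L * (7 + x) * (6 + y) := by
    have : (7 + y) * (6 * c₂) = (7 + y) * ((1 + f₂) * L * (7 + x) * (6 + y)) := by
      calc (7 + y) * (6 * c₂) = 6 * (7 + y) * c₂ := by ring
        _ = _ := by rw [h2]; ring
    exact Nat.eq_of_mul_eq_mul_left (by positivity) this
  have g3 : L * ((1 + f₁) * (7 + y) * (6 + x) + (1 + f₂) * (7 + x) * (6 + y)) =
      L * ((a + 1) * (2 + b) + (b + 1) * (2 + a)) := by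
    rw [← h3]
    calc _ = (1 + f₁) * L * (7 + y) * (6 + x) + (1 + f₂) * L * (7 + x) * (6 + y) := by ring
      _ = 6 * (c₁ + c₂) := by rw [← g1, ← g2]; ring
  have g4 := Nat.eq_of_mul_eq_mul_left hL g3
  -- RHS + k2 + k3 = 2 n₁ n₂
  have g5 : (a + 1) * (2 + b) + (b + 1) * (2 + a) + (2 + a) + (2 + b) = 2 * ((7 + x) * (7 + y)) := by
    rw [hM]; ring
  have hf₁ : f₁ = 0 := by
    by_contra hne
    have hpos : 1 ≤ f₁ := Nat.one_le_iff_ne_zero.mpr hne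
    have k1 : (7 + y) * (6 + x) ≤ f₁ * ((7 + y) * (6 + x)) := Nat.le_mul_of_pos_left _ hpos
    linarith [Nat.zero_le (f₂ * ((7 + x) * (6 + y))), Nat.zero_le (x * y)]
  have hf₂ : f₂ = 0 := by
    by_contra hne
    have hpos : 1 ≤ f₂ := Nat.one_le_iff_ne_zero.mpr hne
    have k1 : (7 + x) * (6 + y) ≤ f₂ * ((7 + x) * (6 + y)) := Nat.le_mul_of_pos_left _ hpos
    linarith [Nat.zero_le (f₁ * ((7 + y) * (6 + x))), Nat.zero_le (x * y)]
  subst hf₁ hf₂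
  refine ⟨rfl, rfl, ?_⟩
  simp only [add_zero, one_mul] at g4
  have g6 : (7 + x) + (7 + y) = (2 + a) + (2 + b) := by linarith
  have g7 : ((7 + x : ℕ) : ℤ) + ((7 + y : ℕ) : ℤ) = ((2 + a : ℕ) : ℤ) + ((2 + b : ℕ) : ℤ) := by
    exact_mod_cast g6
  have g8 : ((7 + x : ℕ) : ℤ) * ((7 + y : ℕ) : ℤ) = ((2 + a : ℕ) : ℤ) * ((2 + b : ℕ) : ℤ) := by
    exact_mod_cast hM
  have g9 : (((7 + x : ℕ) : ℤ) - ((2 + a : ℕ) : ℤ)) * (((7 + x : ℕ) : ℤ) - ((2 + b : ℕ) : ℤ)) = 0 := by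
    generalize ((7 + x : ℕ) : ℤ) = A at *
    generalize ((7 + y : ℕ) : ℤ) = B at *
    generalize ((2 + a : ℕ) : ℤ) = C at *
    generalize ((2 + b : ℕ) : ℤ) = D at *
    calc (A - C) * (A - D) = A * A - A * (C + D) + C * D := by ring
      _ = 0 := by rw [← g7, ← g8]; ring
  rcases mul_eq_zero.mp g9 with h | h
  · left
    have h' : (7 + x : ℕ) = 2 + a := by
      have : ((7 + x : ℕ) : ℤ) = ((2 + a : ℕ) : ℤ) := by linarith
      exact_mod_cast this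
    exact ⟨h', by omega⟩
  · right
    have h' : (7 + x : ℕ) = 2 + b := by
      have : ((7 + x : ℕ) : ℤ) = ((2 + b : ℕ) : ℤ) := by linarith
      exact_mod_cast this
    exact ⟨h', by omega⟩

theorem arith4 {L k2 k3 c : ℕ} (hL : 0 < L) (hk2 : 2 ≤ k2) (hk3 : 2 ≤ k3)
    (h : 6 * c = L * ((k2 - 1) * k3 + (k3 - 1) * k2)) : 3 * c < L * (k2 * k3) := by
  obtain ⟨a, rfl⟩ := Nat.exists_eq_add_of_le hk2
  obtain ⟨b, rfl⟩ := Nat.exists_eq_add_of_le hk3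
  have e3 : 2 + a - 1 = a + 1 := by omega
  have e4 : 2 + b - 1 = b + 1 := by omega
  rw [e3, e4] at h
  have h1 : (a + 1) * (2 + b) + (b + 1) * (2 + a) < 2 * ((2 + a) * (2 + b)) := by nlinarith
  have h2 := Nat.mul_lt_mul_of_pos_left h1 hL
  rw [← h] at h2
  have h3 : L * (2 * ((2 + a) * (2 + b))) = 2 * (L * ((2 + a) * (2 + b))) := by ring
  omega

theorem main {M k2 k3 L : ℕ} (hM : M = k2 * k3) (hk2 : 2 ≤ k2) (hk3 : 2 ≤ k3) (hL : 0 < L)
    (hN : Nat.card G = L * M) (h7 : ∀ d, d ∣ M → 1 < d → 7 ≤ d)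
    (hT : ∀ (p : ℕ) (x : G), p.Prime → p ∣ M → orderOf x = p →
      IsCyclic ↥(centralizer ({x} : Set G)) ∧
      Nat.card ↥(centralizer ({x} : Set G)) ∣ M ∧
      (Nat.card ↥(centralizer ({x} : Set G))).Coprime (Nat.card G / Nat.card ↥(centralizer ({x} : Set G))) ∧
      (∀ y ∈ centralizer ({x} : Set G), y ≠ 1 → centralizer ({y} : Set G) = centralizer ({x} : Set G)) ∧
      Nat.card ↥(normalizer ((centralizer ({x} : Set G) : Subgroup G) : Set G)) ∣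
        6 * Nat.card ↥(centralizer ({x} : Set G)))
    (hC : 6 * cnt G M = L * ((k2 - 1) * k3 + (k3 - 1) * k2)) :
    (∃ A : Subgroup G, IsTorus A k2 k2 (6 * k2)) ∧ (∃ A : Subgroup G, IsTorus A k3 k3 (6 * k3)) := by
  have hMG : M ∣ Nat.card G := ⟨L, by rw [hN]; ring⟩
  have hM1 : 1 < M := by rw [hM]; nlinarith
  obtain ⟨p₁, hp₁, hp₁M⟩ := Nat.exists_prime_and_dvd hM1.ne'
  obtain ⟨n₁, e₁, D₁, hpn₁⟩ := exists_dat hT hMG hp₁ hp₁M
  have hn₁pos : 0 < n₁ := by have := D₁.one_lt; omega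
  by_cases h1 : n₁ = M
  · exfalso
    have h := D₁.cnt_eq
    rw [h1, hN] at h
    subst hM
    exact arith1 hL hk2 hk3 D₁.e_pos h hC
  obtain ⟨d₂, hd₂⟩ := D₁.n_dvd
  have hd₂1 : d₂ ≠ 1 := by
    intro h
    rw [h, mul_one] at hd₂
    exact h1 hd₂.symm
  obtain ⟨p₂, hp₂, hp₂d⟩ := Nat.exists_prime_and_dvd hd₂1
  have hMdiv : M / n₁ = d₂ := by rw [hd₂]; exact Nat.mul_div_cancel_left _ hn₁pos
  obtain ⟨n₂, e₂, D₂, hpn₂⟩ := exists_dat hT hMG hp₂ (hp₂d.trans ⟨n₁, by rw [hd₂]; ring⟩)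
  have hn₂pos : 0 < n₂ := by have := D₂.one_lt; omega
  have hnp : ¬ p₂ ∣ n₁ := D₁.not_dvd hMG hp₂ (d := d₂) (by rw [hMdiv]) hp₂d
  have hc12 : n₁.Coprime n₂ := D₁.coprime D₂ hpn₂ hnp
  have hdvd12 : n₁ * n₂ ∣ M := Nat.Coprime.mul_dvd_of_dvd_of_dvd hc12 D₁.n_dvd D₂.n_dvd
  by_cases h2 : n₁ * n₂ = M
  · have hcnt : cnt G M = cnt G n₁ + cnt G n₂ := by rw [← h2]; exact cnt_mul (D₁.disj hc12)
    have c1 := D₁.cnt_eq
    have c2 := D₂.cnt_eq
    rw [hN, ← h2] at c1 c2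
    rw [hcnt] at hC
    obtain ⟨he₁, he₂, h | h⟩ := arith2 hL hk2 hk3 D₁.e_pos D₂.e_pos (h7 _ D₁.n_dvd D₁.one_lt)
      (h7 _ D₂.n_dvd D₂.one_lt) (h2.trans hM) c1 c2 hC
    · obtain ⟨rfl, rfl⟩ := h
      exact ⟨D₁.tor he₁, D₂.tor he₂⟩
    · obtain ⟨rfl, rfl⟩ := h
      exact ⟨D₂.tor he₂, D₁.tor he₁⟩
  · exfalso
    obtain ⟨d₃, hd₃⟩ := hdvd12
    have hd₃1 : d₃ ≠ 1 := by
      intro h
      rw [h, mul_one] at hd₃
      exact h2 hd₃.symm
    obtain ⟨p₃, hp₃, hp₃d⟩ := Nat.exists_prime_and_dvd hd₃1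
    obtain ⟨n₃, e₃, D₃, hpn₃⟩ := exists_dat hT hMG hp₃ (hp₃d.trans ⟨n₁ * n₂, by rw [hd₃]; ring⟩)
    have hdiv1 : d₃ ∣ M / n₁ := by
      have : M / n₁ = n₂ * d₃ := by
        rw [hd₃, mul_assoc]; exact Nat.mul_div_cancel_left _ hn₁pos
      rw [this]; exact Dvd.intro_left _ rfl
    have hdiv2 : d₃ ∣ M / n₂ := by
      have : M / n₂ = n₁ * d₃ := by
        rw [hd₃, mul_comm n₁ n₂, mul_assoc]; exact Nat.mul_div_cancel_left _ hn₂pos
      rw [this]; exact Dvd.intro_left _ rfl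
    have hc13 : n₁.Coprime n₃ := D₁.coprime D₃ hpn₃ (D₁.not_dvd hMG hp₃ hdiv1 hp₃d)
    have hc23 : n₂.Coprime n₃ := D₂.coprime D₃ hpn₃ (D₂.not_dvd hMG hp₃ hdiv2 hp₃d)
    have hc123 : (n₁ * n₂).Coprime n₃ := Nat.Coprime.mul_left hc13 hc23
    have hdvd123 : n₁ * n₂ * n₃ ∣ M :=
      Nat.Coprime.mul_dvd_of_dvd_of_dvd hc123 ⟨d₃, hd₃⟩ D₃.n_dvd
    have hcnt : cnt G (n₁ * n₂ * n₃) = cnt G n₁ + cnt G n₂ + cnt G n₃ := by
      rw [cnt_mul, cnt_mul (D₁.disj hc12)]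
      intro g hg
      rw [Nat.coprime_mul_iff_right] at hg
      by_cases hg1 : (orderOf g).Coprime n₁
      · exact D₂.disj hc23 g (fun h => hg ⟨hg1, h⟩)
      · exact D₁.disj hc13 g hg1
    have hle := cnt_mono (G := G) hdvd123
    rw [hcnt] at hle
    have a1 := arith3 D₁.e_pos (h7 _ D₁.n_dvd D₁.one_lt) D₁.cnt_eq
    have a2 := arith3 D₂.e_pos (h7 _ D₂.n_dvd D₂.one_lt) D₂.cnt_eq
    have a3 := arith3 D₃.e_pos (h7 _ D₃.n_dvd D₃.one_lt) D₃.cnt_eq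
    have a4 := arith4 hL hk2 hk3 hC
    rw [← hM, ← hN] at a4
    omega

theorem arithM {q r : ℕ} (hr : r ^ 2 = 3 * q) (hrq : 3 * r ≤ q) :
    q ^ 2 - q + 1 = (q - r + 1) * (q + r + 1) := by
  obtain ⟨a, rfl⟩ := Nat.exists_eq_add_of_le (show r ≤ q by omega)
  have e1 : r + a - r = a := by omega
  rw [e1]
  have h : (a + 1) * (r + a + r + 1) + (r + a) = (r + a) ^ 2 + 1 := by nlinarith
  have hc : 0 < (a + 1) * (r + a + r + 1) := by positivity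
  omega

theorem arithN {q : ℕ} (hq : 1 ≤ q) :
    q ^ 3 * (q - 1) * (q ^ 3 + 1) = q ^ 3 * (q ^ 2 - 1) * (q ^ 2 - q + 1) := by
  obtain ⟨b, rfl⟩ := Nat.exists_eq_add_of_le hq
  have e1 : 1 + b - 1 = b := by omega
  have e2 : (1 + b) ^ 2 - 1 = b ^ 2 + 2 * b := by
    have : (1 + b) ^ 2 = b ^ 2 + 2 * b + 1 := by ring
    omega
  have e3 : (1 + b) ^ 2 - (1 + b) + 1 = b ^ 2 + b + 1 := by
    have : (1 + b) ^ 2 = b ^ 2 + b + (1 + b) := by ring
    omega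
  rw [e1, e2, e3]
  ring

theorem arith7 {q : ℕ} (hq : 1 ≤ q) (h3 : 3 ∣ q) (d : ℕ) (hd : d ∣ q ^ 2 - q + 1) (h1 : 1 < d) :
    7 ≤ d := by
  have hM : q ^ 2 - q + 1 + q = q * q + 1 := by
    have : q ≤ q ^ 2 := by nlinarith
    have h2 : q ^ 2 = q * q := by ring
    omega
  generalize q ^ 2 - q + 1 = M at hd hM
  have m2 : M % 2 = 1 := by
    obtain ⟨c, hc⟩ := Nat.even_mul_succ_self q
    have : q * (q + 1) = q * q + q := by ring
    omega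
  have m3 : M % 3 = 1 := by
    obtain ⟨j, rfl⟩ := h3
    have : 3 * j * (3 * j) = 3 * (3 * (j * j)) := by ring
    omega
  have m5 : M % 5 ≠ 0 := by
    obtain ⟨j, i, hi, rfl⟩ : ∃ j i, i < 5 ∧ q = 5 * j + i :=
      ⟨q / 5, q % 5, Nat.mod_lt _ (by norm_num), (Nat.div_add_mod q 5).symm⟩
    have : (5 * j + i) * (5 * j + i) = 5 * (5 * (j * j) + 2 * (i * j)) + i * i := by ring
    interval_cases i <;> omega
  by_contra hlt
  have hd6 : d ≤ 6 := by omega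
  interval_cases d <;> omega

end P5

variable {G : Type u} [Group G] [Finite G] {m : ℕ}

theorem tor23 (hm : 1 ≤ m)
    (hG : Nat.card G = (3 ^ (2 * m + 1)) ^ 3 * (3 ^ (2 * m + 1) - 1) * ((3 ^ (2 * m + 1)) ^ 3 + 1))
    (hT : TStr G m) (hC : CountT G m) : Tor2 G m ∧ Tor3 G m := by
  have hr : (3 ^ (m + 1)) ^ 2 = 3 * 3 ^ (2 * m + 1) := by
    rw [← pow_mul, ← pow_succ']
    congr 1
    ring
  have hrq : 3 * 3 ^ (m + 1) ≤ 3 ^ (2 * m + 1) := by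
    rw [← pow_succ']
    exact Nat.pow_le_pow_right (by norm_num) (by omega)
  have h3 : 3 ∣ 3 ^ (2 * m + 1) := dvd_pow_self 3 (by omega)
  have hq1 : 1 ≤ 3 ^ (2 * m + 1) := Nat.one_le_pow _ _ (by norm_num)
  have hr1 : 1 ≤ 3 ^ (m + 1) := Nat.one_le_pow _ _ (by norm_num)
  unfold TStr at hT
  unfold CountT at hC
  unfold Tor2 Tor3
  generalize 3 ^ (2 * m + 1) = q at *
  generalize 3 ^ (m + 1) = r at *
  have hM := P5.arithM hr hrq
  have hq2 : 0 < q ^ 2 - 1 := by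
    have : 3 ≤ q := by omega
    have : 9 ≤ q ^ 2 := by nlinarith
    omega
  refine P5.main (L := q ^ 3 * (q ^ 2 - 1)) hM (by omega) (by omega) (by positivity)
    (by rw [hG]; exact P5.arithN hq1) (P5.arith7 hq1 h3) hT ?_
  have e1 : q - r + 1 - 1 = q - r := by omega
  have e2 : q + r + 1 - 1 = q + r := by omega
  rw [e1, e2]
  exact hC

end Cfsg.Agent.Lib.Lead.ReeAbs
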