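import Cfsg.Agent.S1073

/-! # [REP7] a faithful 7-dimensional representation of 2G2(q) over F_q -/

set_option autoImplicit false

namespace Cfsg.Agent.Lib.Lead.ReeAbs

open Cfsg.Lie Matrix Cfsg.Agent.Lib.Helper18

namespace Rep7

/-- the entries of `x_r(t)` as lists of (exponent, coefficient). -/
def entryList (D : ChevalleyDatum) (r : Fin D.nroots) (row col : D.Idx) : List (ℕ × ℤ) :=
  match col with
  | Sum.inl i =>
    (match row with
     | Sum.inl i' => if i' = i then [(0, 1)] else []
     | Sum.inr u => if u = r then [(1, - ((D.cartanSR.getD i.val #[]).getD r.val 0))] else [])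
  | Sum.inr s =>
    if s = r then (match row with | Sum.inr u => if u = r then [(0, 1)] else [] | Sum.inl _ => [])
    else if s.val = D.negIdx.getD r.val 0 then
      (match row with
       | Sum.inl i => [(1, (D.coroot.getD r.val #[]).getD i.val 0)]
       | Sum.inr u => if u = s then [(0, 1)] else if u = r then [(2, -1)] else [])
    else
      (match row with
       | Sum.inl _ => []
       | Sum.inr u => (if u = s then [(0, 1)] else []) ++ D.chainCoeff r.val s.val u.val)

/-- evaluation of such a list. -/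
def ev {F : Type*} [Field F] (t : F) (l : List (ℕ × ℤ)) : F :=
  (l.map fun km => ((km.2 : ℤ) : F) * t ^ km.1).sum

lemma xMat_apply_eq (D : ChevalleyDatum) {F : Type*} [Field F] (r : Fin D.nroots) (t : F)
    (row col : D.Idx) : D.xMat F r t row col = ev t (entryList D r row col) := by
  rcases col with i | s
  · rcases row with i' | u
    · simp only [ChevalleyDatum.xMat, Matrix.of_apply, entryList, ev]
      split_ifs <;> simp
    · simp only [ChevalleyDatum.xMat, Matrix.of_apply, entryList, ev]
      split_ifs <;> simp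
  · simp only [ChevalleyDatum.xMat, Matrix.of_apply, entryList]
    by_cases hs : s = r
    · rw [if_pos hs, if_pos hs]
      rcases row with i' | u
      · simp [ev]
      · simp only [ev]; split_ifs <;> simp
    · rw [if_neg hs, if_neg hs]
      by_cases hn : s.val = D.negIdx.getD r.val 0
      · rw [if_pos hn, if_pos hn]
        rcases row with i' | u
        · simp [ev]
        · simp only [ev]; split_ifs <;> simp
      · rw [if_neg hn, if_neg hn]
        rcases row with i' | u
        · simp [ev]
        · simp only [ev]; split_ifs <;> simp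

/-- the short-root ideal. -/
def inJ : chevG2.Idx → Bool
  | Sum.inl i => decide (i.val = 0)
  | Sum.inr s => decide (s.val ∈ [2, 3, 4, 7, 8, 9])

/-- its basis. -/
def emb : Fin 7 → chevG2.Idx :=
  ![Sum.inl ⟨0, by decide⟩, Sum.inr ⟨2, by decide⟩, Sum.inr ⟨3, by decide⟩, Sum.inr ⟨4, by decide⟩,
    Sum.inr ⟨7, by decide⟩, Sum.inr ⟨8, by decide⟩, Sum.inr ⟨9, by decide⟩]

lemma emb_inj : Function.Injective emb := by decide

lemma inJ_emb : ∀ i, inJ (emb i) = true := by decide

lemma exists_emb : ∀ k, inJ k = true → ∃ i, emb i = k := by decide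

lemma check : ∀ (r : Fin chevG2.nroots) (row col : chevG2.Idx), inJ col = true → inJ row = false →
    ∀ km ∈ entryList chevG2 r row col, km.2 % 3 = 0 := by decide +kernel

variable {K : Type*} [Field K]

lemma ev_eq_zero [CharP K 3] (t : K) {l : List (ℕ × ℤ)} (h : ∀ km ∈ l, km.2 % 3 = 0) : ev t l = 0 := by
  unfold ev
  apply List.sum_eq_zero
  intro x hx
  rw [List.mem_map] at hx
  obtain ⟨km, hkm, rfl⟩ := hx
  have : ((km.2 : ℤ) : K) = 0 := by
    rw [CharP.intCast_eq_zero_iff K 3]
    exact Int.dvd_of_emod_eq_zero (h km hkm)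
  rw [this, zero_mul]

/-- the matrices stabilizing the ideal. -/
def blk (K : Type*) [Field K] : Submonoid (Matrix chevG2.Idx chevG2.Idx K) where
  carrier := {M | ∀ row col, inJ col = true → inJ row = false → M row col = 0}
  one_mem' := by
    intro row col h1 h2
    rw [Matrix.one_apply_ne]
    rintro rfl
    rw [h1] at h2
    exact absurd h2 (by simp)
  mul_mem' := by
    intro M N hM hN row col h1 h2
    rw [Matrix.mul_apply]
    apply Finset.sum_eq_zero
    intro k _
    by_cases hk : inJ k = true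
    · rw [hM row k hk h2, zero_mul]
    · rw [hN k col h1 (by simpa using hk), mul_zero]

lemma x_mem_blk [CharP K 3] (r : ℕ) (t : K) : chevG2.x K r t ∈ blk K := by
  unfold ChevalleyDatum.x
  split_ifs with h
  · intro row col h1 h2
    rw [xMat_apply_eq]
    exact ev_eq_zero t (check ⟨r, h⟩ row col h1 h2)
  · exact (blk K).one_mem

lemma wordMat_mem_blk [CharP K 3] (w : List (ℕ × K)) : chevG2.wordMat K w ∈ blk K := by
  unfold ChevalleyDatum.wordMat
  apply Submonoid.list_prod_mem
  intro x hx
  rw [List.mem_map] at hx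
  obtain ⟨p, -, rfl⟩ := hx
  exact x_mem_blk _ _

lemma sub_mul (M : Matrix chevG2.Idx chevG2.Idx K) {N : Matrix chevG2.Idx chevG2.Idx K} (hN : N ∈ blk K) :
    (M * N).submatrix emb emb = M.submatrix emb emb * N.submatrix emb emb := by
  ext i j
  rw [Matrix.submatrix_apply, Matrix.mul_apply, Matrix.mul_apply]
  symm
  apply Fintype.sum_of_injective emb emb_inj
  · intro k hk
    have : inJ k = false := by
      by_contra h
      exact hk (exists_emb k (by simpa using h))
    rw [hN k (emb j) (inJ_emb j) this, mul_zero]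
  · intro l
    rfl

lemma mem_blk_of_mem [Fintype K] [CharP K 3] (e : ℕ) {g : GL chevG2.Idx K} (hg : g ∈ twistedG2 K e) :
    (g : Matrix chevG2.Idx chevG2.Idx K) ∈ blk K := by
  unfold twistedG2 ChevalleyDatum.genSubgroup at hg
  induction hg using Subgroup.closure_induction with
  | mem x hx =>
    obtain ⟨w, -, hw⟩ := hx
    rw [hw]
    exact wordMat_mem_blk w
  | one => exact (blk K).one_mem
  | mul x y _ _ hx hy => exact (blk K).mul_mem hx hy
  | inv x _ hx =>
    have h1 : x⁻¹ = x ^ (orderOf x - 1) := by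
      rw [inv_eq_iff_mul_eq_one, ← pow_succ', Nat.sub_add_cancel (orderOf_pos x), pow_orderOf_eq_one]
    rw [h1, Units.val_pow_eq_pow_val]
    exact (blk K).pow_mem hx _

/-- the action on the ideal. -/
def rep0 [Fintype K] [CharP K 3] (e : ℕ) : ↥(twistedG2 K e) →* Matrix (Fin 7) (Fin 7) K where
  toFun g := ((g : GL chevG2.Idx K) : Matrix chevG2.Idx chevG2.Idx K).submatrix emb emb
  map_one' := by
    ext i j
    simp [Matrix.one_apply, emb_inj.eq_iff]
  map_mul' g h := by
    rw [Subgroup.coe_mul, Units.val_mul]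
    exact sub_mul _ (mem_blk_of_mem e h.2)

lemma ev_one (l : List (ℕ × ℤ)) : ev (1 : K) l = (((l.map Prod.snd).sum : ℤ) : K) := by
  unfold ev
  induction l with
  | nil => simp
  | cons a l ih =>
    rw [List.map_cons, List.sum_cons, ih, List.map_cons, List.sum_cons, Int.cast_add, one_pow, mul_one]

lemma entry_check : ∑ k : chevG2.Idx,
    ((entryList chevG2 ⟨9, by decide⟩ (Sum.inr ⟨8, by decide⟩) k).map Prod.snd).sum *
      ((entryList chevG2 ⟨11, by decide⟩ k (Sum.inr ⟨2, by decide⟩)).map Prod.snd).sum = 1 := by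
  decide +kernel

lemma entry_eq : (chevG2.x K 9 1 * chevG2.x K 11 1) (emb 5) (emb 1) = 1 := by
  have h9 : chevG2.x K 9 1 = chevG2.xMat K ⟨9, by decide⟩ 1 := by
    unfold ChevalleyDatum.x; rw [dif_pos (by decide)]
  have h11 : chevG2.x K 11 1 = chevG2.xMat K ⟨11, by decide⟩ 1 := by
    unfold ChevalleyDatum.x; rw [dif_pos (by decide)]
  rw [h9, h11, Matrix.mul_apply]
  simp only [xMat_apply_eq, ev_one]
  have := congrArg (fun z : ℤ => (z : K)) entry_check
  simp only [Int.cast_sum, Int.cast_mul, Int.cast_one] at this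
  exact this

end Rep7

open Rep7 in
theorem exists_rep7 {K : Type*} [Field K] [Fintype K] {m : ℕ} (hm : 1 ≤ m)
    (hK : Fintype.card K = 3 ^ (2 * m + 1)) :
    ∃ ρ : ↥(Cfsg.Lie.twistedG2 K (3 ^ m)) →* GL (Fin 7) K, Function.Injective ρ := by
  have : Fact (Nat.Prime 3) := ⟨by norm_num⟩
  have : CharP K 3 := charP_of_card_eq_prime_pow hK
  have := (Cfsg.Agent.S1073.result hm hK).1
  have hB : Base chevG2 K := base_of_mem K (by simp)
  refine ⟨(rep0 (3 ^ m)).toHomUnits, ?_⟩
  rw [← MonoidHom.ker_eq_bot_iff]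
  rcases (MonoidHom.normal_ker (rep0 (K := K) (3 ^ m)).toHomUnits).eq_bot_or_eq_top with h | h
  · exact h
  · exfalso
    -- the element x_{2a+b}(1) x_{3a+2b}(1)
    have hmem : hB.xg 9 1 * hB.xg 11 1 ∈ twistedG2 K (3 ^ m) := by
      apply Subgroup.subset_closure
      refine ⟨reeWordU (3 ^ m) 0 0 1, ⟨0, 0, 1, Or.inl rfl⟩, ?_⟩
      have h0 : (0 : K) ^ 3 ^ m = 0 := zero_pow (by positivity)
      simp [reeWordU, ChevalleyDatum.wordMat, h0, hB.x_zero, g2aab, g2aaabb]
    have h1 : (⟨_, hmem⟩ : ↥(twistedG2 K (3 ^ m))) ∈ (rep0 (K := K) (3 ^ m)).toHomUnits.ker := by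
      rw [h]; trivial
    rw [MonoidHom.mem_ker] at h1
    have h2 := congrArg (fun u : GL (Fin 7) K => (u : Matrix (Fin 7) (Fin 7) K) 5 1) h1
    simp only [MonoidHom.coe_toHomUnits, Units.val_one] at h2
    have h3 : (chevG2.x K 9 1 * chevG2.x K 11 1) (emb 5) (emb 1) = (1 : Matrix (Fin 7) (Fin 7) K) 5 1 := h2
    rw [entry_eq, Matrix.one_apply_ne (by decide)] at h3
    exact one_ne_zero h3

end Cfsg.Agent.Lib.Lead.ReeAbs
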