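import Cfsg.Agent.Lib.Lead.ReeCent3
import Cfsg.Agent.Lib.Lead.ReeAbs.Model
import Cfsg.Agent.Lib.Lead.ReeAbs.Rep7
import Cfsg.Agent.Lib.Lead.ReeAbs.P0
import Cfsg.Agent.Lib.Lead.ReeAbs.P1b
import Cfsg.Agent.Lib.Lead.ReeAbs.P2
import Cfsg.Agent.Lib.Lead.ReeAbs.P3
import Cfsg.Agent.Lib.Lead.ReeAbs.P4
import Cfsg.Agent.Lib.Lead.ReeAbs.P5

/-! # The structure of `²G₂(q)`: assembly of the pieces -/

set_option autoImplicit false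

namespace Cfsg.Agent.Lib.Lead.ReeAbs

open Cfsg.Lie

/-- the model satisfies `ReeAx` -/
theorem exists_model {K : Type*} [Field K] [Fintype K] {m : ℕ} (hm : 1 ≤ m) (hK : Fintype.card K = 3 ^ (2 * m + 1)) :
    Nonempty (ReeAx ↥(twistedG2 K (3 ^ m)) K m) := by
  have : Fact (Nat.Prime 3) := ⟨by norm_num⟩
  have : CharP K 3 := charP_of_card_eq_prime_pow hK
  obtain ⟨T, -, hρR, hf⟩ := Cfsg.Agent.Lib.Lead.Ree.exists_twist hK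
  let a : ↥(twistedG2 K (3 ^ m)) := ⟨Ree.hR K m (-1), Ree.hR_mem_G1 hK T hρR hf (-1)⟩
  have haH : (a : GL chevG2.Idx K) ∈ chevG2.diagonalSubgroup K := Ree.hR_mem_H _
  have ha1 : a ≠ 1 := by
    intro h
    have h1 : Ree.hR K m (-1) = 1 := congrArg Subtype.val h
    exact Ree.neg_one_ne_one (K := K) (Ree.hR_injective (K := K) (m := m) (by rw [h1, map_one]))
  have ha2 : a * a = 1 := Subtype.ext Ree.a0_sq
  obtain ⟨e⟩ := Ree.centA_equiv hK T hρR hf a haH ha1 ha2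
  obtain ⟨X, -⟩ := exists_reeAx hm hK a haH ha1 ha2 e
  exact ⟨X⟩

/-- Sylow 2-subgroups and the first two tori -/
theorem exists_str1 {K : Type*} [Field K] [Fintype K] {m : ℕ} (hm : 1 ≤ m) (hK : Fintype.card K = 3 ^ (2 * m + 1)) :
    ∃ X : ReeAx ↥(twistedG2 K (3 ^ m)) K m, Syl2 ↥(twistedG2 K (3 ^ m)) X.a ∧ Tor0 ↥(twistedG2 K (3 ^ m)) m ∧
      Tor1 ↥(twistedG2 K (3 ^ m)) m := by
  classical
  obtain ⟨X⟩ := exists_model hm hK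
  exact ⟨X, syl2 X, tor0 X, tor1 X (syl2 X)⟩

/-- all four tori -/
theorem exists_str {K : Type*} [Field K] [Fintype K] {m : ℕ} (hm : 1 ≤ m) (hK : Fintype.card K = 3 ^ (2 * m + 1)) :
    ∃ X : ReeAx ↥(twistedG2 K (3 ^ m)) K m, Syl2 ↥(twistedG2 K (3 ^ m)) X.a ∧ Tor0 ↥(twistedG2 K (3 ^ m)) m ∧
      Tor1 ↥(twistedG2 K (3 ^ m)) m ∧ Tor2 ↥(twistedG2 K (3 ^ m)) m ∧ Tor3 ↥(twistedG2 K (3 ^ m)) m := by
  classical
  obtain ⟨X, hs, h0, h1⟩ := exists_str1 hm hK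
  obtain ⟨ρ, hρ⟩ := exists_rep7 hm hK
  obtain ⟨h2, h3⟩ := tor23 hm X.card_G (tstr X ρ hρ hs h0 h1) (countT X hs h0 h1)
  exact ⟨X, hs, h0, h1, h2, h3⟩

end Cfsg.Agent.Lib.Lead.ReeAbs
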