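import Cfsg.Agent.Lib.Lead.ReeAbs.Ax
import Cfsg.Agent.S0276

/-! # [P1a] Sylow 2-subgroups are elementary abelian of order 8 (all m ≥ 0; second half of S1152) -/

set_option autoImplicit false

namespace Cfsg.Agent.Lib.Lead.ReeAbs

open Subgroup

universe u v

theorem q_mod_eight (m : ℕ) : 3 ^ (2 * m + 1) % 8 = 3 := by
  have h : (9 : ℕ) ^ m % 8 = 1 := by
    rw [Nat.pow_mod]; simp
  rw [pow_succ, pow_mul]
  norm_num
  omega

theorem card_G_eq_eight_mul (q : ℕ) (hq : q % 8 = 3) :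
    ∃ k : ℕ, ¬ 2 ∣ k ∧ q ^ 3 * (q - 1) * (q ^ 3 + 1) = 8 * k := by
  obtain ⟨j, rfl⟩ : ∃ j, q = 8 * j + 3 := ⟨q / 8, by omega⟩
  have h3 : (8 * j + 3) ^ 3 % 8 = 3 := by
    rw [Nat.pow_mod]
    have : (8 * j + 3) % 8 = 3 := by omega
    rw [this]
  obtain ⟨i, hi⟩ : ∃ i, (8 * j + 3) ^ 3 = 8 * i + 3 := ⟨(8 * j + 3) ^ 3 / 8, by omega⟩
  refine ⟨(8 * i + 3) * (4 * j + 1) * (2 * i + 1), ?_, ?_⟩
  · intro h
    have h1 : Odd ((8 * i + 3) * (4 * j + 1) * (2 * i + 1)) := by
      refine Odd.mul (Odd.mul ?_ ?_) ?_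
      · exact ⟨4 * i + 1, by ring⟩
      · exact ⟨2 * j, by ring⟩
      · exact ⟨i, by ring⟩
    exact (Nat.not_even_iff_odd.2 h1) (even_iff_two_dvd.2 h)
  · rw [hi]
    have : 8 * j + 3 - 1 = 2 * (4 * j + 1) := by omega
    rw [this]
    ring

theorem factorization_two_of_eight_mul (n k : ℕ) (hk : ¬ 2 ∣ k) (h : n = 8 * k) :
    n.factorization 2 = 3 := by
  have hk0 : k ≠ 0 := by rintro rfl; exact hk (dvd_zero _)
  rw [h, Nat.factorization_mul (by norm_num) hk0]
  have h8 : (8 : ℕ).factorization 2 = 3 := by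
    have : (8 : ℕ) = 2 ^ 3 := by norm_num
    rw [this, Nat.Prime.factorization_pow Nat.prime_two]
    simp
  simp [h8, Nat.factorization_eq_zero_of_not_dvd hk]

theorem zmod2_mul_self : ∀ z : Multiplicative (ZMod 2), z * z = 1 := by decide

theorem sylow2_of_cent {G : Type u} [Group G] [Finite G] {K : Type v} [Field K] [Fintype K] {m : ℕ}
    (hK : Fintype.card K = 3 ^ (2 * m + 1))
    (hG : Nat.card G = (3 ^ (2 * m + 1)) ^ 3 * (3 ^ (2 * m + 1) - 1) * ((3 ^ (2 * m + 1)) ^ 3 + 1))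
    (a : G) (e : ↥(centralizer ({a} : Set G)) ≃*
      Multiplicative (ZMod 2) × Matrix.ProjectiveSpecialLinearGroup (Fin 2) K) :
    ∀ S : Sylow 2 G, Nat.card S = 8 ∧ ∀ x ∈ S, x * x = 1 := by
  classical
  have : Fact (Nat.Prime 2) := ⟨Nat.prime_two⟩
  obtain ⟨k, hk, hk8⟩ := card_G_eq_eight_mul _ (q_mod_eight m)
  have hfac : (Nat.card G).factorization 2 = 3 :=
    factorization_two_of_eight_mul _ k hk (hG.trans hk8)
  -- a Klein four subgroup of `PSL₂`
  obtain ⟨V⟩ : Nonempty (Sylow 2 (Matrix.ProjectiveSpecialLinearGroup (Fin 2) K)) := inferInstance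
  have hV : IsKleinFour (V : Subgroup (Matrix.ProjectiveSpecialLinearGroup (Fin 2) K)) :=
    Cfsg.Agent.S0276.result hK (Or.inl (q_mod_eight m)) V
  let T : Subgroup (Multiplicative (ZMod 2) × Matrix.ProjectiveSpecialLinearGroup (Fin 2) K) :=
    (⊤ : Subgroup (Multiplicative (ZMod 2))).prod
      (V : Subgroup (Matrix.ProjectiveSpecialLinearGroup (Fin 2) K))
  have hTcard : Nat.card T = 8 := by
    rw [Nat.card_congr (Subgroup.prodEquiv _ _).toEquiv, Nat.card_prod, Subgroup.card_top,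
      hV.card_four]
    simp
  have hTexp : ∀ x ∈ T, x * x = 1 := by
    rintro ⟨z, v⟩ hx
    have hv : v ∈ (V : Subgroup (Matrix.ProjectiveSpecialLinearGroup (Fin 2) K)) :=
      (Subgroup.mem_prod.1 hx).2
    have h1 : v * v = 1 := by
      have h2 : (⟨v, hv⟩ : (V : Subgroup (Matrix.ProjectiveSpecialLinearGroup (Fin 2) K))) ^ 2 = 1 := by
        have h4 := Monoid.pow_exponent_eq_one
          (⟨v, hv⟩ : (V : Subgroup (Matrix.ProjectiveSpecialLinearGroup (Fin 2) K)))
        rwa [hV.exponent_two] at h4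
      have h3 := congrArg Subtype.val h2
      simpa [pow_two] using h3
    have h2 : z * z = 1 := zmod2_mul_self z
    exact Prod.ext h2 h1
  let E : Subgroup G := (T.comap e.toMonoidHom).map (centralizer ({a} : Set G)).subtype
  have hEcard : Nat.card E = 8 := by
    rw [Subgroup.card_map_of_injective (Subgroup.subtype_injective _), ← hTcard]
    have h1 : T.comap e.toMonoidHom = T.map e.symm.toMonoidHom :=
      Subgroup.comap_equiv_eq_map_symm e T
    rw [h1]
    exact Subgroup.card_map_of_injective e.symm.injective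
  have hEexp : ∀ x ∈ E, x * x = 1 := by
    rintro _ ⟨x, hx, rfl⟩
    have h1 : e x * e x = 1 := hTexp _ hx
    have h2 : x * x = 1 := e.injective (by rw [map_mul, h1, map_one])
    have := congrArg Subtype.val h2
    simpa using this
  let P : Sylow 2 G := Sylow.ofCard E (by rw [hEcard, hfac]; norm_num)
  intro S
  refine ⟨by rw [Sylow.card_eq_multiplicity, hfac]; norm_num, ?_⟩
  obtain ⟨g, rfl⟩ := MulAction.exists_smul_eq G P S
  intro x hx
  rw [Sylow.smul_def] at hx
  obtain ⟨y, hy, rfl⟩ := (Subgroup.mem_smul_pointwise_iff_exists _ _ _).1 hx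
  have hy' : y * y = 1 := hEexp y hy
  simp only [MulAut.smul_def, MulAut.conj_apply]
  calc g * y * g⁻¹ * (g * y * g⁻¹) = g * (y * y) * g⁻¹ := by group
    _ = 1 := by rw [hy']; group

end Cfsg.Agent.Lib.Lead.ReeAbs
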