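import Cfsg.Agent.Lib.Lead.ReeAbs.TorLib
import Cfsg.Agent.Lib.Lead.ReeAbs.Arith

/-! # [R1156] Sylow `p`-subgroups are cyclic for `p > 3` -/

set_option autoImplicit false

namespace Cfsg.Agent.Lib.Lead.ReeAbs

open Subgroup

universe u v

variable {G : Type u} [Group G] [Finite G] {K : Type v} [Field K] [Fintype K] {m : ℕ} (X : ReeAx G K m)

include X in
theorem hallG0 : Nat.Coprime ((3 ^ (2 * m + 1) - 1) / 2) (Nat.card G / ((3 ^ (2 * m + 1) - 1) / 2)) := by
  rw [X.card_G]; exact Arith.hall_k0 m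

include X in
theorem hallG1 : Nat.Coprime ((3 ^ (2 * m + 1) + 1) / 4) (Nat.card G / ((3 ^ (2 * m + 1) + 1) / 4)) := by
  rw [X.card_G]; exact Arith.hall_k1 m

include X in
theorem hallG2 : Nat.Coprime (3 ^ (2 * m + 1) - 3 ^ (m + 1) + 1)
    (Nat.card G / (3 ^ (2 * m + 1) - 3 ^ (m + 1) + 1)) := by
  rw [X.card_G]; exact Arith.hall_k2 m

include X in
theorem hallG3 : Nat.Coprime (3 ^ (2 * m + 1) + 3 ^ (m + 1) + 1)
    (Nat.card G / (3 ^ (2 * m + 1) + 3 ^ (m + 1) + 1)) := by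
  rw [X.card_G]; exact Arith.hall_k3 m

include X in
/-- [R1156] -/
theorem row1156 (h0 : Tor0 G m) (h1 : Tor1 G m) (h2 : Tor2 G m) (h3 : Tor3 G m)
    {p : ℕ} [Fact p.Prime] (hp : 3 < p) (P : Sylow p G) : IsCyclic (P : Subgroup G) := by
  have hpp : p.Prime := Fact.out
  by_cases hd : p ∣ Nat.card G
  · rw [X.card_G] at hd
    obtain ⟨A0, hA0, -⟩ := h0
    obtain ⟨A1, hA1, -⟩ := h1
    obtain ⟨A2, hA2⟩ := h2
    obtain ⟨A3, hA3⟩ := h3
    rcases Arith.prime_cases m hpp hd with h | h | h | h | h | h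
    · omega
    · omega
    · exact hA0.sylow_cyclic (hallG0 X) h P
    · exact hA1.sylow_cyclic (hallG1 X) h P
    · exact hA2.sylow_cyclic (hallG2 X) h P
    · exact hA3.sylow_cyclic (hallG3 X) h P
  · have h1 : Nat.card (P : Subgroup G) = 1 := by
      rw [P.card_eq_multiplicity, Nat.factorization_eq_zero_of_not_dvd hd, pow_zero]
    have : Subsingleton (P : Subgroup G) := (Nat.card_eq_one_iff_unique.1 h1).1
    infer_instance

end Cfsg.Agent.Lib.Lead.ReeAbs
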