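import Cfsg.Agent.Lib.Lead.ReeAbs.Ax

/-! # [R1158] the four families of cyclic Hall subgroups -/

set_option autoImplicit false

namespace Cfsg.Agent.Lib.Lead.ReeAbs

open Subgroup

universe u v

variable {G : Type u} [Group G] [Finite G] {m : ℕ}

/-- [R1158] -/
theorem row1158 (h0 : Tor0 G m) (h1 : Tor1 G m) (h2 : Tor2 G m) (h3 : Tor3 G m) :
    ∀ kn ∈ ({((3 ^ (2 * m + 1) - 1) / 2, 2 * (3 ^ (2 * m + 1) - 1)), ((3 ^ (2 * m + 1) + 1) / 4, 6 * (3 ^ (2 * m + 1) + 1)),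
        (3 ^ (2 * m + 1) - 3 ^ (m + 1) + 1, 6 * (3 ^ (2 * m + 1) - 3 ^ (m + 1) + 1)),
        (3 ^ (2 * m + 1) + 3 ^ (m + 1) + 1, 6 * (3 ^ (2 * m + 1) + 3 ^ (m + 1) + 1))} : Set (ℕ × ℕ)),
      ∃ A : Subgroup G, IsCyclic A ∧ Nat.card A = kn.1 ∧
        Nat.card (Subgroup.normalizer (A : Set G)) = kn.2 ∧
        ∀ A₀ : Subgroup G, A₀ ≤ A → A₀ ≠ ⊥ →
          Subgroup.normalizer (A₀ : Set G) = Subgroup.normalizer (A : Set G) := by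
  obtain ⟨A0, hA0, -⟩ := h0
  obtain ⟨A1, hA1, -⟩ := h1
  obtain ⟨A2, hA2⟩ := h2
  obtain ⟨A3, hA3⟩ := h3
  intro kn hkn
  simp only [Set.mem_insert_iff, Set.mem_singleton_iff] at hkn
  rcases hkn with rfl | rfl | rfl | rfl
  · exact ⟨A0, hA0.cyc, hA0.card, hA0.card_norm, hA0.norm_eq⟩
  · exact ⟨A1, hA1.cyc, hA1.card, hA1.card_norm, hA1.norm_eq⟩
  · exact ⟨A2, hA2.cyc, hA2.card, hA2.card_norm, hA2.norm_eq⟩
  · exact ⟨A3, hA3.cyc, hA3.card, hA3.card_norm, hA3.norm_eq⟩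

end Cfsg.Agent.Lib.Lead.ReeAbs
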