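import Cfsg.Agent.Lib.Lead.ReeAbs.R2357

/-! # [R1159] the spectrum of a group of Ree type -/

set_option autoImplicit false

namespace Cfsg.Agent.Lib.Lead.ReeAbs

open Subgroup

universe u v

namespace R1159

theorem exists_of_dvd {G : Type u} [Group G] {n d : ℕ} (h : ∃ g : G, orderOf g = n) (hn : 0 < n)
    (hd : d ∣ n) : ∃ g : G, orderOf g = d := by
  obtain ⟨g, hg⟩ := h
  obtain ⟨e, rfl⟩ := hd
  have hd0 : 0 < d := Nat.pos_of_mul_pos_right hn
  have he0 : 0 < e := Nat.pos_of_mul_pos_left hn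
  refine ⟨g ^ e, ?_⟩
  rw [orderOf_pow_of_dvd he0.ne' (by rw [hg]; exact Dvd.intro_left d rfl), hg]
  exact Nat.mul_div_cancel _ he0

theorem exists_of_card_pos {α : Type*} {P : α → Prop} (h : 0 < Nat.card {x : α // P x}) : ∃ x, P x := by
  by_contra hne
  push Not at hne
  haveI : IsEmpty {x : α // P x} := ⟨fun x => hne x.1 x.2⟩
  simp at h

theorem exists_of_cyclic {G : Type u} [Group G] (A : Subgroup G) (hA : IsCyclic A) :
    ∃ g : G, orderOf g = Nat.card A := by
  obtain ⟨z, hz⟩ := IsCyclic.exists_generator (α := A)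
  refine ⟨z, ?_⟩
  rw [Subgroup.orderOf_coe]
  exact orderOf_eq_card_of_forall_mem_zpowers hz

theorem orderOf_dvd_of_mem {G : Type u} [Group G] {A : Subgroup G} {x : G} (hx : x ∈ A) :
    orderOf x ∣ Nat.card A := by
  have := orderOf_dvd_natCard (⟨x, hx⟩ : A)
  rwa [← Subgroup.orderOf_coe] at this

end R1159

variable {G : Type u} [Group G] [Finite G] {K : Type v} [Field K] [Fintype K] {m : ℕ} (X : ReeAx G K m)

/-- [R1159] -/
theorem row1159 (hs : Syl2 G X.a) (h0 : Tor0 G m) (h1 : Tor1 G m) (h2 : Tor2 G m) (h3 : Tor3 G m) (d : ℕ) :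
    (∃ g : G, orderOf g = d) ↔
      (d ∣ 6 ∨ d ∣ 9 ∨ d ∣ 3 ^ (2 * m + 1) - 1 ∨ d ∣ (3 ^ (2 * m + 1) + 1) / 2 ∨
        d ∣ 3 ^ (2 * m + 1) - 3 ^ (m + 1) + 1 ∨ d ∣ 3 ^ (2 * m + 1) + 3 ^ (m + 1) + 1) := by
  have hrow := row2357 X hs h0 h1 h2 h3
  obtain ⟨A0, hA0, hcyc0⟩ := h0
  obtain ⟨A1, hA1, hno4⟩ := h1
  obtain ⟨A2, hA2⟩ := h2
  obtain ⟨A3, hA3⟩ := h3
  have hk0 : ((3 ^ (2 * m + 1) - 1) / 2).Coprime (Nat.card G / ((3 ^ (2 * m + 1) - 1) / 2)) := by
    rw [X.card_G]; exact Arith.hall_k0 m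
  have hk1 : ((3 ^ (2 * m + 1) + 1) / 4).Coprime (Nat.card G / ((3 ^ (2 * m + 1) + 1) / 4)) := by
    rw [X.card_G]; exact Arith.hall_k1 m
  have hk2 : (3 ^ (2 * m + 1) - 3 ^ (m + 1) + 1).Coprime
      (Nat.card G / (3 ^ (2 * m + 1) - 3 ^ (m + 1) + 1)) := by
    rw [X.card_G]; exact Arith.hall_k2 m
  have hk3 : (3 ^ (2 * m + 1) + 3 ^ (m + 1) + 1).Coprime
      (Nat.card G / (3 ^ (2 * m + 1) + 3 ^ (m + 1) + 1)) := by
    rw [X.card_G]; exact Arith.hall_k3 m
  have hq3 : 3 ≤ 3 ^ (2 * m + 1) := by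
    calc 3 = 3 ^ 1 := by norm_num
      _ ≤ 3 ^ (2 * m + 1) := Nat.pow_le_pow_right (by norm_num) (by omega)
  have hkk := Arith.k2_mul_k3 m
  have h4k1 := Arith.four_mul_k1 m
  have hhalf : (3 ^ (2 * m + 1) + 1) / 2 = 2 * ((3 ^ (2 * m + 1) + 1) / 4) := by omega
  have hA1' : IsTorus A1 ((3 ^ (2 * m + 1) + 1) / 4) (4 * ((3 ^ (2 * m + 1) + 1) / 4))
      (6 * (3 ^ (2 * m + 1) + 1)) := by rw [h4k1]; exact hA1
  have hodd : Odd ((3 ^ (2 * m + 1) + 1) / 4) := by
    have := Arith.cop_6_k1 m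
    have h7 : Nat.Coprime 2 ((3 ^ (2 * m + 1) + 1) / 4) := Nat.Coprime.coprime_dvd_left (by norm_num) this
    exact (Nat.coprime_two_left.1 h7)
  have hkpos : 0 < (3 ^ (2 * m + 1) + 1) / 4 := hodd.pos
  constructor
  · rintro ⟨g, rfl⟩
    rcases kinds X hs g with h | h | h | h | h | h
    · left; rw [h, orderOf_one]; exact one_dvd _
    · rcases R2357.order_cases X hs h with h | h | h
      · left; rw [h]; norm_num
      · left; rw [h]
      · right; left; rw [h]
    · left; rw [h]; norm_num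
    · right; right; left
      obtain ⟨c, hc⟩ := hA0.exists_conj_cent hk0 h
      rw [← R2357.orderOf_conj' c g, ← hA0.card_cent]
      exact R1159.orderOf_dvd_of_mem hc
    · right; right; right; left
      obtain ⟨c, hc⟩ := hA1.exists_conj_cent hk1 h
      rw [← R2357.orderOf_conj' c g, hhalf]
      exact orderOf_dvd_of_pow_eq_one (R2357.exp_cent hA1' hno4 _ hc)
    · rw [← hkk] at h
      have h5 : ¬ (orderOf g).Coprime (3 ^ (2 * m + 1) - 3 ^ (m + 1) + 1) ∨
          ¬ (orderOf g).Coprime (3 ^ (2 * m + 1) + 3 ^ (m + 1) + 1) := by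
        by_contra hne
        push Not at hne
        exact h (Nat.Coprime.mul_right hne.1 hne.2)
      rcases h5 with h5 | h5
      · right; right; right; right; left
        obtain ⟨c, hc⟩ := hA2.exists_conj_cent hk2 h5
        rw [← R2357.orderOf_conj' c g]
        have := R1159.orderOf_dvd_of_mem hc
        rwa [hA2.card_cent] at this
      · right; right; right; right; right
        obtain ⟨c, hc⟩ := hA3.exists_conj_cent hk3 h5
        rw [← R2357.orderOf_conj' c g]
        have := R1159.orderOf_dvd_of_mem hc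
        rwa [hA3.card_cent] at this
  · have hqm : 0 < 3 ^ (2 * m + 1) - 1 := by omega
    rintro (h | h | h | h | h | h)
    · refine R1159.exists_of_dvd (R1159.exists_of_card_pos (P := fun g : G => orderOf g = 6) ?_)
        (by norm_num) h
      rw [hrow.2.2.1]
      positivity
    · refine R1159.exists_of_dvd (R1159.exists_of_card_pos (P := fun g : G => orderOf g = 9) ?_)
        (by norm_num) h
      rw [hrow.2.2.2.1]
      positivity
    · refine R1159.exists_of_dvd ?_ hqm h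
      rw [← hA0.card_cent]
      exact R1159.exists_of_cyclic _ hcyc0
    · rw [hhalf] at h
      refine R1159.exists_of_dvd ?_ (by omega) h
      have h5 := R2357.card_cent_two_mul hA1' hk1 hodd hkpos hno4 (dvd_refl _)
      have h6 : 0 < Nat.card {x : G // x ∈ centralizer (A1 : Set G) ∧
          orderOf x = 2 * ((3 ^ (2 * m + 1) + 1) / 4)} := by
        rw [h5]
        have := Nat.totient_pos.2 hkpos
        omega
      obtain ⟨x, _, hx⟩ := R1159.exists_of_card_pos h6
      exact ⟨x, hx⟩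
    · refine R1159.exists_of_dvd ?_ (Nat.succ_pos _) h
      have := R1159.exists_of_cyclic _ hA2.cyc
      rwa [hA2.card] at this
    · refine R1159.exists_of_dvd ?_ (Nat.succ_pos _) h
      have := R1159.exists_of_cyclic _ hA3.cyc
      rwa [hA3.card] at this

end Cfsg.Agent.Lib.Lead.ReeAbs
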