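import Cfsg.Agent.Lib.Lead.ReeAbs.P0
import Cfsg.Agent.Lib.Lead.ReeAbs.P4
import Cfsg.Agent.Lib.Lead.ReeAbs.TorLib
import Cfsg.Agent.Lib.Lead.ReeAbs.Arith
import Cfsg.Agent.Lib.Helper41.Dickson.Orders

/-! # [R2357] the number of elements of each order in a group of Ree type -/

set_option autoImplicit false

namespace Cfsg.Agent.Lib.Lead.ReeAbs

open Subgroup

universe u v

namespace R2357

theorem card_sub {G : Type u} [Group G] (S : Subgroup G) (P : G → Prop) :
    Nat.card {x : S // P x} = Nat.card {x : G // x ∈ S ∧ P x} :=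
  Nat.card_congr (Equiv.subtypeSubtypeEquivSubtypeInter (· ∈ S) P)

theorem card_or {α : Type*} [Finite α] (P Q : α → Prop) (h : ∀ x, P x → ¬ Q x) :
    Nat.card {x // P x ∨ Q x} = Nat.card {x // P x} + Nat.card {x // Q x} := by
  classical
  haveI := Fintype.ofFinite α
  simp only [Nat.card_eq_fintype_card]
  exact Fintype.card_subtype_or_disjoint P Q
    (fun R hRP hRQ x hx => h x (hRP x hx) (hRQ x hx))

theorem card_iff {α : Type*} {P Q : α → Prop} (h : ∀ x, P x ↔ Q x) :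
    Nat.card {x // P x} = Nat.card {x // Q x} :=
  Nat.card_congr (Equiv.subtypeEquivRight h)

theorem card_orderOf_cyc {C : Type*} [Group C] [Finite C] [IsCyclic C] {i : ℕ} (hi : i ∣ Nat.card C) :
    Nat.card {x : C // orderOf x = i} = Nat.totient i := by
  classical
  haveI := Fintype.ofFinite C
  rw [Nat.card_eq_fintype_card, Fintype.card_subtype]
  exact IsCyclic.card_orderOf_eq_totient (by rwa [← Nat.card_eq_fintype_card])

theorem orderOf_conj' {G : Type u} [Group G] (g x : G) : orderOf (g * x * g⁻¹) = orderOf x :=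
  MulEquiv.orderOf_eq (MulAut.conj g) x

variable {G : Type u} [Group G] [Finite G]

omit [Finite G] in
theorem le_cent {A : Subgroup G} {k c n : ℕ} (hA : IsTorus A k c n) : A ≤ centralizer (A : Set G) := by
  haveI := hA.cyc
  intro x hx
  rw [mem_centralizer_iff]
  intro y hy
  obtain ⟨z, hz⟩ := IsCyclic.exists_generator (α := A)
  obtain ⟨a, ha⟩ := Subgroup.mem_zpowers_iff.1 (hz ⟨x, hx⟩)
  obtain ⟨b, hb⟩ := Subgroup.mem_zpowers_iff.1 (hz ⟨y, hy⟩)
  have ha' : (z : G) ^ a = x := by simpa using congrArg Subtype.val ha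
  have hb' : (z : G) ^ b = y := by simpa using congrArg Subtype.val hb
  rw [← ha', ← hb', ← zpow_add, ← zpow_add, add_comm]

theorem card_cent_order {A : Subgroup G} {k c n i : ℕ} (hA : IsTorus A k c n)
    (hk : k.Coprime (Nat.card G / k)) (hik : i ∣ k) :
    Nat.card {x : G // x ∈ centralizer (A : Set G) ∧ orderOf x = i} = Nat.totient i := by
  haveI := hA.cyc
  have h2 : Nat.card {x : G // x ∈ centralizer (A : Set G) ∧ orderOf x = i} =
      Nat.card {x : G // x ∈ A ∧ orderOf x = i} := by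
    apply card_iff
    intro x
    constructor
    · rintro ⟨hx, ho⟩
      exact ⟨hA.mem_of_orderOf_dvd hk hx (ho ▸ hik), ho⟩
    · rintro ⟨hx, ho⟩
      exact ⟨le_cent hA hx, ho⟩
  rw [h2, ← card_sub A (fun x => orderOf x = i)]
  have h3 : Nat.card {x : A // orderOf (x : G) = i} = Nat.card {x : A // orderOf x = i} := by
    apply card_iff
    intro x
    rw [Subgroup.orderOf_coe]
  rw [h3]
  exact card_orderOf_cyc (by rw [hA.card]; exact hik)

/-- number of elements of order `i ∣ k`, `i > 1` -/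
theorem count_cyc {A : Subgroup G} {k c n i : ℕ} (hA : IsTorus A k c n)
    (hk : k.Coprime (Nat.card G / k)) (hi : 1 < i) (hik : i ∣ k) :
    n * Nat.card {g : G // orderOf g = i} = Nat.card G * Nat.totient i := by
  have h1 := hA.count hk (fun x => orderOf x = i)
    (fun g x hx => by rw [orderOf_conj']; exact hx)
    (fun x hx hc => by
      rw [hx] at hc
      have := Nat.Coprime.eq_one_of_dvd hc hik
      omega)
  rw [h1, card_sub (centralizer (A : Set G)) (fun x => orderOf x = i), card_cent_order hA hk hik]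

omit [Finite G] in
/-- splitting an abelian group into the odd part and the 2-part -/
theorem card_split (C : Subgroup G) (hcomm : ∀ x ∈ C, ∀ y ∈ C, x * y = y * x) (j : ℕ) (hodd : Odd j)
    (PX PY PT : G → Prop)
    (hY : ∀ y, PY y → y ^ j = 1) (hT : ∀ t, PT t → t ^ 2 = 1)
    (hmul : ∀ y t, y ∈ C → t ∈ C → PY y → PT t → PX (y * t))
    (hX1 : ∀ x ∈ C, PX x → PY (x ^ (j + 1))) (hX2 : ∀ x ∈ C, PX x → PT (x ^ j))
    (hX3 : ∀ x, PX x → x ^ (2 * j) = 1) :
    Nat.card {x : G // x ∈ C ∧ PX x} =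
      Nat.card {y : G // y ∈ C ∧ PY y} * Nat.card {t : G // t ∈ C ∧ PT t} := by
  rw [← Nat.card_prod]
  symm
  obtain ⟨l, hl⟩ := hodd
  have key : ∀ y t, y ∈ C → t ∈ C → PY y → PT t → (y * t) ^ j = t := by
    intro y t hy ht hPy hPt
    rw [(show Commute y t from hcomm y hy t ht).mul_pow, hY y hPy, one_mul, hl, pow_succ, pow_mul,
      hT t hPt, one_pow, one_mul]
  refine Nat.card_congr (Equiv.ofBijective
    (fun z => ⟨z.1.1 * z.2.1, C.mul_mem z.1.2.1 z.2.2.1, hmul _ _ z.1.2.1 z.2.2.1 z.1.2.2 z.2.2.2⟩)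
    ⟨?_, ?_⟩)
  · rintro ⟨⟨y, hy, hPy⟩, ⟨t, ht, hPt⟩⟩ ⟨⟨y', hy', hPy'⟩, ⟨t', ht', hPt'⟩⟩ h
    have h1 : y * t = y' * t' := congrArg Subtype.val h
    have h2 : t = t' := by
      rw [← key y t hy ht hPy hPt, ← key y' t' hy' ht' hPy' hPt', h1]
    subst h2
    have h3 : y = y' := mul_right_cancel h1
    subst h3
    rfl
  · rintro ⟨x, hx, hPx⟩
    refine ⟨⟨⟨x ^ (j + 1), C.pow_mem hx _, hX1 x hx hPx⟩, ⟨x ^ j, C.pow_mem hx _, hX2 x hx hPx⟩⟩, ?_⟩
    apply Subtype.ext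
    show x ^ (j + 1) * x ^ j = x
    rw [← pow_add, show j + 1 + j = 2 * j + 1 by ring, pow_succ, hX3 x hPx, one_mul]

variable {K : Type v} [Field K] [Fintype K] {m : ℕ} (X : ReeAx G K m)

omit [Finite G] in
include X in
theorem charP3 : CharP K 3 := by
  obtain ⟨p, hp⟩ := CharP.exists K
  haveI := hp
  obtain ⟨n, hpp, hn⟩ := FiniteField.card K p
  have h1 : p ∣ 3 ^ (2 * m + 1) := by
    rw [← X.hK, hn]
    exact dvd_pow_self p n.pos.ne'
  have h2 : p ∣ 3 := hpp.dvd_of_dvd_pow h1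
  have h3 : p = 3 := (Nat.prime_dvd_prime_iff_eq hpp Nat.prime_three).1 h2
  subst h3
  exact hp

theorem exists_conj_coset {h : G} (hh : h ∈ X.H) (h1 : h ≠ 1) (ha : h ≠ X.a) {u : G} (hu : u ∈ X.U) :
    ∃ x ∈ X.U, u * h = x * h * x⁻¹ := by
  classical
  let f : X.U → X.U := fun x =>
    ⟨x * (h * (x : G)⁻¹ * h⁻¹), X.U.mul_mem x.2 (X.H_norm h hh _ (X.U.inv_mem x.2))⟩
  have hinj : Function.Injective f := by
    intro x y hxy
    have h2 : (x : G) * (h * (x : G)⁻¹ * h⁻¹) = y * (h * (y : G)⁻¹ * h⁻¹) := congrArg Subtype.val hxy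
    by_contra hne
    have h3 : ((y : G)⁻¹ * x) ≠ 1 := by
      intro h4
      apply hne
      ext
      exact (inv_mul_eq_one.1 h4).symm
    have h5 : (x : G) * h * (x : G)⁻¹ = y * h * (y : G)⁻¹ := by
      have := congrArg (· * h) h2
      simpa [mul_assoc] using this
    have h4 : h * ((y : G)⁻¹ * x) = ((y : G)⁻¹ * x) * h := by
      calc h * ((y : G)⁻¹ * x) = (y : G)⁻¹ * (y * h * (y : G)⁻¹) * x := by group
        _ = (y : G)⁻¹ * (x * h * (x : G)⁻¹) * x := by rw [h5]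
        _ = _ := by group
    rcases X.cent_H h hh _ (X.U.mul_mem (X.U.inv_mem y.2) x.2) h3 h4 with h6 | h6
    · exact h1 h6
    · exact ha h6
  have hsurj := Finite.surjective_of_injective hinj
  obtain ⟨x, hx⟩ := hsurj ⟨u, hu⟩
  refine ⟨x, x.2, ?_⟩
  have h7 : (x : G) * (h * (x : G)⁻¹ * h⁻¹) = u := congrArg Subtype.val hx
  rw [← h7]; group

omit [Finite G] in
theorem not_three_dvd (m : ℕ) : ¬ 3 ∣ 3 ^ (2 * m + 1) - 1 := by
  have h1 : 3 ∣ 3 ^ (2 * m + 1) := dvd_pow_self 3 (by omega)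
  have h2 : 0 < 3 ^ (2 * m + 1) := by positivity
  omega

omit [Finite G] in
theorem not_three_dvd' (m : ℕ) : ¬ 3 ∣ 3 ^ (2 * m + 1) + 1 := by
  have h1 : 3 ∣ 3 ^ (2 * m + 1) := dvd_pow_self 3 (by omega)
  omega

omit [Finite G] in
/-- no element of order 9 in `C(a)` -/
theorem pow_three_of_centA {y : G} (hy : y ∈ centralizer ({X.a} : Set G)) (h9 : y ^ 9 = 1) : y ^ 3 = 1 := by
  haveI := charP3 X
  haveI : Fact (Nat.Prime 3) := ⟨Nat.prime_three⟩
  set z := X.centA ⟨y, hy⟩ with hz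
  have hz9 : z ^ 9 = 1 := by
    rw [hz, ← map_pow]
    have : (⟨y, hy⟩ : centralizer ({X.a} : Set G)) ^ 9 = 1 := by
      ext; simpa using h9
    rw [this, map_one]
  have h1 : z.1 ^ 9 = 1 := by simpa using congrArg Prod.fst hz9
  have h2 : z.2 ^ 9 = 1 := by simpa using congrArg Prod.snd hz9
  have h3 : z.2 ^ 3 = 1 := by
    have hd : orderOf z.2 ∣ 9 := orderOf_dvd_of_pow_eq_one h2
    have hcop : ∀ N : ℕ, ¬ 3 ∣ N → orderOf z.2 ∣ N → orderOf z.2 = 1 := by
      intro N hN hdN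
      have h4 : Nat.Coprime 9 N := by
        have : Nat.Coprime 3 N := (Nat.Prime.coprime_iff_not_dvd Nat.prime_three).2 hN
        exact Nat.Coprime.pow_left 2 this
      exact Nat.eq_one_of_dvd_coprimes h4 hd hdN
    rcases Cfsg.Agent.Lib.Helper41.Dickson.psl2_orderOf_dvd 3 z.2 with h | h | h
    · exact orderOf_dvd_iff_pow_eq_one.1 h
    · have := hcop _ (not_three_dvd m) (h.trans (by rw [X.hK]; exact Nat.div_dvd_of_dvd (Nat.gcd_dvd_right _ _)))
      rw [orderOf_eq_one_iff] at this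
      rw [this, one_pow]
    · have hg : Nat.gcd 2 (Fintype.card K - 1) ∣ Fintype.card K + 1 := by
        have h5 : Nat.gcd 2 (Fintype.card K - 1) ∣ 2 := Nat.gcd_dvd_left _ _
        have h6 : Nat.gcd 2 (Fintype.card K - 1) ∣ Fintype.card K - 1 := Nat.gcd_dvd_right _ _
        have h7 : Fintype.card K + 1 = (Fintype.card K - 1) + 2 := by
          have : 0 < Fintype.card K := Fintype.card_pos
          omega
        rw [h7]
        exact dvd_add h6 h5
      have := hcop _ (not_three_dvd' m) (h.trans (by rw [X.hK] at hg ⊢; exact Nat.div_dvd_of_dvd hg))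
      rw [orderOf_eq_one_iff] at this
      rw [this, one_pow]
  have h4 : z.1 = 1 := by
    have h5 : ∀ c : Multiplicative (ZMod 2), c ^ 9 = 1 → c = 1 := by decide
    exact h5 _ h1
  have h5 : z ^ 3 = 1 := by
    ext
    · simp [h4]
    · simpa using h3
  have h6 : (⟨y, hy⟩ : centralizer ({X.a} : Set G)) ^ 3 = 1 := by
    apply X.centA.injective
    rw [map_pow, map_one, ← hz, h5]
  simpa using congrArg Subtype.val h6

/-- the orders divisible by 3 are 3, 6 and 9 -/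
theorem order_cases (hs : Syl2 G X.a) {g : G} (h3 : 3 ∣ orderOf g) :
    orderOf g = 3 ∨ orderOf g = 6 ∨ orderOf g = 9 := by
  obtain ⟨x, hx⟩ := exists_conj_mem_B X h3
  rw [← orderOf_conj' x g] at h3 ⊢
  set g' := x * g * x⁻¹ with hg'
  obtain ⟨u, hu, h, hh, hguh⟩ := (mem_B X).1 hx
  by_cases h1 : h = 1
  · -- `g' ∈ U`
    have h9 : g' ^ 9 = 1 := by
      rw [hguh, h1, mul_one]; exact X.exp_U u hu
    have hd : orderOf g' ∣ 9 := orderOf_dvd_of_pow_eq_one h9
    have hmem : orderOf g' ∈ Nat.divisors 9 := Nat.mem_divisors.2 ⟨hd, by norm_num⟩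
    have hdiv : Nat.divisors 9 = {1, 3, 9} := by decide
    rw [hdiv] at hmem
    simp only [Finset.mem_insert, Finset.mem_singleton] at hmem
    rcases hmem with h | h | h
    · rw [h] at h3; omega
    · exact Or.inl h
    · exact Or.inr (Or.inr h)
  by_cases ha : h = X.a
  · -- `g' ∈ U a`
    have hsq : g' ^ 2 ∈ X.U := by
      have hainv : X.a⁻¹ = X.a := inv_eq_of_mul_eq_one_left X.a_sq
      have h4 : g' ^ 2 = u * (X.a * u * X.a⁻¹) := by
        rw [hguh, ha, pow_two, hainv]; group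
      rw [h4]
      exact X.U.mul_mem hu (X.H_norm _ X.a_mem _ hu)
    have h18 : g' ^ 18 = 1 := by
      rw [show 18 = 2 * 9 by norm_num, pow_mul]; exact X.exp_U _ hsq
    have hd : orderOf g' ∣ 18 := orderOf_dvd_of_pow_eq_one h18
    have hmem : orderOf g' ∈ Nat.divisors 18 := Nat.mem_divisors.2 ⟨hd, by norm_num⟩
    have hdiv : Nat.divisors 18 = {1, 2, 3, 6, 9, 18} := by decide
    rw [hdiv] at hmem
    simp only [Finset.mem_insert, Finset.mem_singleton] at hmem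
    rcases hmem with h | h | h | h | h | h
    · rw [h] at h3; omega
    · rw [h] at h3; omega
    · exact Or.inl h
    · exact Or.inr (Or.inl h)
    · exact Or.inr (Or.inr h)
    · exfalso
      -- the involution `t = g'^9`
      have ht1 : g' ^ 9 ≠ 1 := by
        intro h5
        have := orderOf_dvd_of_pow_eq_one h5
        rw [h] at this; omega
      have ht2 : g' ^ 9 * g' ^ 9 = 1 := by rw [← pow_add]; exact h18
      obtain ⟨c, hc⟩ := hs.conj _ ht1 ht2
      have hy : c⁻¹ * g' ^ 2 * c ∈ centralizer ({X.a} : Set G) := by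
        rw [mem_centralizer_singleton_iff]
        have h6 : X.a = c⁻¹ * g' ^ 9 * c := by rw [← hc]; group
        have h7 : g' ^ 2 * g' ^ 9 = g' ^ 9 * g' ^ 2 := by rw [← pow_add, ← pow_add]
        rw [h6]
        calc c⁻¹ * g' ^ 2 * c * (c⁻¹ * g' ^ 9 * c) = c⁻¹ * (g' ^ 2 * g' ^ 9) * c := by group
          _ = c⁻¹ * (g' ^ 9 * g' ^ 2) * c := by rw [h7]
          _ = _ := by group
      have hpow : ∀ k : ℕ, (c⁻¹ * g' ^ 2 * c) ^ k = c⁻¹ * (g' ^ 2) ^ k * c := by
        intro k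
        have := conj_pow (a := c⁻¹) (b := g' ^ 2) (i := k)
        simpa using this
      have h9 : (c⁻¹ * g' ^ 2 * c) ^ 9 = 1 := by
        rw [hpow, ← pow_mul, h18]; group
      have h3' := pow_three_of_centA X hy h9
      rw [hpow, ← pow_mul] at h3'
      have h6 : g' ^ 6 = 1 := by
        have : g' ^ (2 * 3) = c * (c⁻¹ * g' ^ (2 * 3) * c) * c⁻¹ := by group
        rw [h3'] at this
        simpa using this
      have := orderOf_dvd_of_pow_eq_one h6
      rw [h] at this; omega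
  · exfalso
    obtain ⟨y, _, hy⟩ := exists_conj_coset X hh h1 ha hu
    rw [hguh, hy, orderOf_conj'] at h3
    have h4 : orderOf h ∣ 3 ^ (2 * m + 1) - 1 := by
      rw [← X.card_H]
      have := orderOf_dvd_natCard (⟨h, hh⟩ : X.H)
      rwa [← Subgroup.orderOf_coe] at this
    exact not_three_dvd m (h3.trans h4)

/-- counting 3-elements through the TI Sylow 3-subgroups -/
theorem count_TI (Pr : G → Prop) (hconj : ∀ g x, Pr x → Pr (g * x * g⁻¹))
    (h3 : ∀ x, Pr x → x ≠ 1 ∧ ∃ k : ℕ, x ^ 3 ^ k = 1) :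
    Nat.card {g : G // Pr g} =
      ((3 ^ (2 * m + 1)) ^ 3 + 1) * Nat.card {u : G // u ∈ X.U ∧ Pr u} := by
  classical
  haveI : Fact (Nat.Prime 3) := ⟨Nat.prime_three⟩
  haveI : Fintype (Sylow 3 G) := Fintype.ofFinite _
  obtain ⟨P0, hP0⟩ := exists_sylow_U X
  have hmem : ∀ c g : G, g ∈ (c • P0 : Sylow 3 G) ↔ c⁻¹ * g * c ∈ X.U := by
    intro c g
    rw [← hP0]
    show g ∈ ((c • P0 : Sylow 3 G) : Subgroup G) ↔ _
    rw [Sylow.coe_subgroup_smul, Subgroup.mem_pointwise_smul_iff_inv_smul_mem, MulAut.smul_def,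
      ← map_inv, MulAut.conj_apply, inv_inv]
  have hPr : ∀ c g : G, Pr g ↔ Pr (c * g * c⁻¹) := by
    intro c g
    refine ⟨hconj c g, fun h => ?_⟩
    have := hconj c⁻¹ _ h
    have h2 : c⁻¹ * (c * g * c⁻¹) * c⁻¹⁻¹ = g := by group
    rwa [h2] at this
  have hfib : ∀ P : Sylow 3 G,
      Nat.card {g : G // g ∈ P ∧ Pr g} = Nat.card {u : G // u ∈ X.U ∧ Pr u} := by
    intro P
    obtain ⟨c, hc⟩ := MulAction.exists_smul_eq G P0 P
    refine Nat.card_congr (Equiv.subtypeEquiv (MulAut.conj c⁻¹).toEquiv (fun g => ?_))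
    show g ∈ P ∧ Pr g ↔ c⁻¹ * g * c⁻¹⁻¹ ∈ X.U ∧ Pr (c⁻¹ * g * c⁻¹⁻¹)
    rw [← hc, hmem, ← hPr, inv_inv]
  have hbij : Function.Bijective
      (fun z : (Σ P : Sylow 3 G, {g : G // g ∈ P ∧ Pr g}) => (⟨z.2.1, z.2.2.2⟩ : {g : G // Pr g})) := by
    constructor
    · rintro ⟨P, g, hgP, hg⟩ ⟨Q, g', hgQ, hg'⟩ h
      have h1 : g = g' := congrArg Subtype.val h
      subst h1
      have h2 : P = Q := by
        by_contra hne
        have h4 := sylow3_TI X P Q hne
        have h5 : g ∈ (P : Subgroup G) ⊓ Q := ⟨hgP, hgQ⟩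
        rw [h4, mem_bot] at h5
        exact (h3 g hg).1 h5
      subst h2
      rfl
    · rintro ⟨g, hg⟩
      obtain ⟨k, hk⟩ := (h3 g hg).2
      obtain ⟨x, hx⟩ := exists_conj_mem_U X hk
      refine ⟨⟨x⁻¹ • P0, g, ?_, hg⟩, rfl⟩
      rw [hmem, inv_inv]
      exact hx
  rw [← Nat.card_congr (Equiv.ofBijective _ hbij), Nat.card_sigma]
  simp only [hfib]
  rw [Finset.sum_const, Finset.card_univ, ← Nat.card_eq_fintype_card, card_sylow3 X, smul_eq_mul]

omit [Finite G] in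
theorem card_U_three : Nat.card {u : G // u ∈ X.U ∧ orderOf u = 3} = (3 ^ (2 * m + 1)) ^ 2 - 1 := by
  rw [← card_sub X.U (fun u => orderOf u = 3), ← X.card_three]
  apply card_iff
  intro x
  rw [Subgroup.orderOf_coe]

/-- the elements of `U` by their orders -/
theorem card_U_nine : Nat.card {u : G // u ∈ X.U ∧ orderOf u = 9} + (3 ^ (2 * m + 1)) ^ 2 =
    (3 ^ (2 * m + 1)) ^ 3 := by
  have h3 := card_U_three X
  have h1 : Nat.card {u : G // u ∈ X.U ∧ orderOf u = 1} = 1 := by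
    have : Nat.card {u : G // u ∈ X.U ∧ orderOf u = 1} = Nat.card {u : G // u = 1} := by
      apply card_iff
      intro x
      rw [orderOf_eq_one_iff]
      constructor
      · exact fun h => h.2
      · rintro rfl; exact ⟨X.U.one_mem, rfl⟩
    rw [this]
    simp
  have hall : Nat.card X.U = Nat.card {u : G // (u ∈ X.U ∧ orderOf u = 1) ∨
      ((u ∈ X.U ∧ orderOf u = 3) ∨ (u ∈ X.U ∧ orderOf u = 9))} := by
    apply card_iff
    intro x
    constructor
    · intro hx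
      have hd : orderOf x ∣ 9 := orderOf_dvd_of_pow_eq_one (X.exp_U x hx)
      have hmem : orderOf x ∈ Nat.divisors 9 := Nat.mem_divisors.2 ⟨hd, by norm_num⟩
      have hdiv : Nat.divisors 9 = {1, 3, 9} := by decide
      rw [hdiv] at hmem
      simp only [Finset.mem_insert, Finset.mem_singleton] at hmem
      rcases hmem with h | h | h
      · exact Or.inl ⟨hx, h⟩
      · exact Or.inr (Or.inl ⟨hx, h⟩)
      · exact Or.inr (Or.inr ⟨hx, h⟩)
    · rintro (h | h | h) <;> exact h.1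
  rw [card_or _ _ (by rintro x ⟨_, h⟩ (⟨_, h'⟩ | ⟨_, h'⟩) <;> omega),
    card_or _ _ (by rintro x ⟨_, h⟩ ⟨_, h'⟩; omega), h1, h3, X.card_U] at hall
  have hpos : 0 < (3 ^ (2 * m + 1)) ^ 2 := by positivity
  omega

/-- the exponent of `C(A)` divides `2k` -/
theorem exp_cent {A : Subgroup G} {k n : ℕ} (hA : IsTorus A k (4 * k) n)
    (h4 : ∀ x ∈ centralizer (A : Set G), orderOf x ≠ 4) :
    ∀ x ∈ centralizer (A : Set G), x ^ (2 * k) = 1 := by
  intro x hx
  have h1 : x ^ (4 * k) = 1 := by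
    have : (⟨x, hx⟩ : centralizer (A : Set G)) ^ Nat.card (centralizer (A : Set G)) = 1 :=
      pow_card_eq_one'
    rw [hA.card_cent] at this
    simpa using congrArg Subtype.val this
  have h2 : (x ^ k) ^ 4 = 1 := by rw [← pow_mul, mul_comm]; exact h1
  have hd : orderOf (x ^ k) ∣ 4 := orderOf_dvd_of_pow_eq_one h2
  have hmem : orderOf (x ^ k) ∈ Nat.divisors 4 := Nat.mem_divisors.2 ⟨hd, by norm_num⟩
  have hdiv : Nat.divisors 4 = {1, 2, 4} := by decide
  rw [hdiv] at hmem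
  simp only [Finset.mem_insert, Finset.mem_singleton] at hmem
  have h5 : orderOf (x ^ k) ∣ 2 := by
    rcases hmem with h | h | h
    · rw [h]; norm_num
    · rw [h]
    · exact absurd h (h4 _ ((centralizer (A : Set G)).pow_mem hx _))
  rw [mul_comm, pow_mul]
  exact orderOf_dvd_iff_pow_eq_one.1 h5

/-- the number of involutions in `C(A)`, `A` a torus of odd order `k` with `|C(A)| = 4k`, no element of
order 4 -/
theorem card_cent_two {A : Subgroup G} {k n : ℕ} (hA : IsTorus A k (4 * k) n)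
    (hk : k.Coprime (Nat.card G / k)) (hodd : Odd k) (hk0 : 0 < k)
    (h4 : ∀ x ∈ centralizer (A : Set G), orderOf x ≠ 4) :
    Nat.card {t : G // t ∈ centralizer (A : Set G) ∧ orderOf t = 2} = 3 := by
  set C := centralizer (A : Set G) with hC
  have hexp : ∀ x ∈ C, x ^ (2 * k) = 1 := exp_cent hA h4
  obtain ⟨l, hl⟩ := id hodd
  have h1 := card_split C hA.comm_cent k hodd (fun x => x ^ (2 * k) = 1) (fun y => y ^ k = 1)
    (fun t => t ^ 2 = 1) (fun _ h => h) (fun _ h => h)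
    (fun y t hy ht _ _ => hexp _ (C.mul_mem hy ht))
    (fun x hx _ => by
      show (x ^ (k + 1)) ^ k = 1
      rw [← pow_mul, show (k + 1) * k = 2 * k * (l + 1) by rw [hl]; ring, pow_mul, hexp x hx, one_pow])
    (fun x hx _ => by
      show (x ^ k) ^ 2 = 1
      rw [← pow_mul, mul_comm]; exact hexp x hx)
    (fun _ h => h)
  have h2 : Nat.card {x : G // x ∈ C ∧ x ^ (2 * k) = 1} = 4 * k := by
    rw [← hA.card_cent]
    apply card_iff
    intro x
    exact ⟨fun h => h.1, fun h => ⟨h, hexp x h⟩⟩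
  have h3 : Nat.card {y : G // y ∈ C ∧ y ^ k = 1} = k := by
    refine Eq.trans ?_ hA.card
    apply card_iff
    intro x
    constructor
    · rintro ⟨hx, hxk⟩
      exact hA.mem_of_orderOf_dvd hk hx (orderOf_dvd_of_pow_eq_one hxk)
    · intro hx
      refine ⟨le_cent hA hx, ?_⟩
      have : (⟨x, hx⟩ : A) ^ Nat.card A = 1 := pow_card_eq_one'
      rw [hA.card] at this
      simpa using congrArg Subtype.val this
  rw [h2, h3] at h1
  have h5 : Nat.card {t : G // t ∈ C ∧ t ^ 2 = 1} = 4 := by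
    have : k * 4 = k * Nat.card {t : G // t ∈ C ∧ t ^ 2 = 1} := by rw [← h1]; ring
    exact (Nat.eq_of_mul_eq_mul_left hk0 this).symm
  have h6 : Nat.card {t : G // t ∈ C ∧ t ^ 2 = 1} =
      Nat.card {t : G // t = 1 ∨ (t ∈ C ∧ orderOf t = 2)} := by
    apply card_iff
    intro t
    constructor
    · rintro ⟨ht, h⟩
      by_cases h1 : t = 1
      · exact Or.inl h1
      · exact Or.inr ⟨ht, orderOf_eq_prime h h1⟩
    · rintro (rfl | ⟨ht, h⟩)
      · exact ⟨C.one_mem, one_pow _⟩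
      · exact ⟨ht, by rw [← h]; exact pow_orderOf_eq_one t⟩
  rw [h6, card_or _ _ (by rintro x rfl ⟨_, h⟩; simp at h)] at h5
  have h7 : Nat.card {t : G // t = 1} = 1 := by simp
  omega

/-- the number of elements of order `2 i` in `C(A)` -/
theorem card_cent_two_mul {A : Subgroup G} {k n i : ℕ} (hA : IsTorus A k (4 * k) n)
    (hk : k.Coprime (Nat.card G / k)) (hodd : Odd k) (hk0 : 0 < k)
    (h4 : ∀ x ∈ centralizer (A : Set G), orderOf x ≠ 4) (hik : i ∣ k) :
    Nat.card {x : G // x ∈ centralizer (A : Set G) ∧ orderOf x = 2 * i} = 3 * Nat.totient i := by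
  have hio : Odd i := Odd.of_dvd_nat hodd hik
  have hi0 : 0 < i := Nat.pos_of_dvd_of_pos hik hk0
  obtain ⟨l, hl⟩ := id hio
  have h1 := card_split (centralizer (A : Set G)) hA.comm_cent i hio (fun x => orderOf x = 2 * i)
    (fun y => orderOf y = i) (fun t => orderOf t = 2)
    (fun y h => by rw [← h]; exact pow_orderOf_eq_one y)
    (fun t h => by rw [← h]; exact pow_orderOf_eq_one t)
    (fun y t hy ht h h' => by
      show orderOf (y * t) = 2 * i
      have hc : Commute y t := hA.comm_cent y hy t ht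
      rw [hc.orderOf_mul_eq_mul_orderOf_of_coprime (by rw [h, h']; exact hio.coprime_two_right), h, h',
        mul_comm])
    (fun x _ h => by
      show orderOf (x ^ (i + 1)) = i
      rw [orderOf_pow' x (by omega), h]
      have hg : Nat.gcd (2 * i) (i + 1) = 2 := by
        have h5 : i + 1 = 2 * (l + 1) := by omega
        rw [h5, Nat.gcd_mul_left]
        have h6 : Nat.Coprime i (l + 1) := by
          apply Nat.isCoprime_iff_coprime.1
          exact ⟨-1, 2, by rw [hl]; push_cast; ring⟩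
        rw [h6.gcd_eq_one]
      rw [hg]
      omega)
    (fun x _ h => by
      show orderOf (x ^ i) = 2
      rw [orderOf_pow_of_dvd (by omega) (by rw [h]; exact Dvd.intro_left 2 rfl), h]
      exact Nat.mul_div_cancel _ hi0)
    (fun x h => by rw [← h]; exact pow_orderOf_eq_one x)
  rw [h1, card_cent_order hA hk hik, card_cent_two hA hk hodd hk0 h4, mul_comm]

theorem f1 (q : ℕ) (hq : 1 ≤ q) : (q + 1) * (q ^ 2 - q + 1) = q ^ 3 + 1 := by
  obtain ⟨a, rfl⟩ : ∃ a, q = a + 1 := ⟨q - 1, by omega⟩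
  have h : (a + 1) ^ 2 - (a + 1) = a ^ 2 + a := by
    have : (a + 1) ^ 2 = a ^ 2 + a + (a + 1) := by ring
    omega
  rw [h]; ring

theorem f2 (q : ℕ) (hq : 1 ≤ q) : (q - 1) * (q + 1) = q ^ 2 - 1 := by
  obtain ⟨a, rfl⟩ : ∃ a, q = a + 1 := ⟨q - 1, by omega⟩
  have h : (a + 1) ^ 2 = a * (a + 1 + 1) + 1 := by ring
  rw [h]; simp

theorem ar6 (q N3 N6 N9 M9 : ℕ) (hq : 1 ≤ q) (h3 : N3 = (q ^ 3 + 1) * (q ^ 2 - 1))
    (h9 : N9 = (q ^ 3 + 1) * M9) (hM9 : M9 + q ^ 2 = q ^ 3)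
    (htot : N3 + (N6 + N9) = (q ^ 3 + 1) * (2 * q ^ 3 - q ^ 2 - 1)) :
    N6 = q ^ 2 * (q - 1) * (q ^ 3 + 1) ∧ N9 = q ^ 2 * (q - 1) * (q ^ 3 + 1) := by
  obtain ⟨a, rfl⟩ : ∃ a, q = a + 1 := ⟨q - 1, by omega⟩
  have e1 : (a + 1) ^ 2 - 1 = a ^ 2 + 2 * a := by
    have : (a + 1) ^ 2 = a ^ 2 + 2 * a + 1 := by ring
    omega
  have e2 : 2 * (a + 1) ^ 3 - (a + 1) ^ 2 - 1 = 2 * a ^ 3 + 5 * a ^ 2 + 4 * a := by
    have h1 : (a + 1) ^ 2 = a ^ 2 + 2 * a + 1 := by ring
    have h2 : (a + 1) ^ 3 = a ^ 3 + 3 * a ^ 2 + 3 * a + 1 := by ring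
    omega
  have e3 : M9 = (a + 1) ^ 2 * a := by
    have : (a + 1) ^ 3 = (a + 1) ^ 2 * a + (a + 1) ^ 2 := by ring
    omega
  rw [e1] at h3
  rw [e2] at htot
  subst e3 h3 h9
  simp only [Nat.add_sub_cancel]
  constructor
  · nlinarith [htot]
  · ring

end R2357

variable {G : Type u} [Group G] [Finite G] {K : Type v} [Field K] [Fintype K] {m : ℕ} (X : ReeAx G K m)

/-- [R2357] -/
theorem row2357 (hs : Syl2 G X.a) (h0 : Tor0 G m) (h1 : Tor1 G m) (h2 : Tor2 G m) (h3 : Tor3 G m) :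
    Nat.card {g : G // orderOf g = 2} = (3 ^ (2 * m + 1)) ^ 2 * ((3 ^ (2 * m + 1)) ^ 2 - 3 ^ (2 * m + 1) + 1) ∧
    Nat.card {g : G // orderOf g = 3} = ((3 ^ (2 * m + 1)) ^ 2 - 1) * ((3 ^ (2 * m + 1)) ^ 3 + 1) ∧
    Nat.card {g : G // orderOf g = 6} = (3 ^ (2 * m + 1)) ^ 2 * (3 ^ (2 * m + 1) - 1) * ((3 ^ (2 * m + 1)) ^ 3 + 1) ∧
    Nat.card {g : G // orderOf g = 9} = (3 ^ (2 * m + 1)) ^ 2 * (3 ^ (2 * m + 1) - 1) * ((3 ^ (2 * m + 1)) ^ 3 + 1) ∧
    (∀ i : ℕ, 2 < i → i ∣ 3 ^ (2 * m + 1) - 1 →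
      2 * Nat.card {g : G // orderOf g = i} = Nat.totient i * (3 ^ (2 * m + 1)) ^ 3 * ((3 ^ (2 * m + 1)) ^ 3 + 1)) ∧
    (∀ i : ℕ, 1 < i → i ∣ (3 ^ (2 * m + 1) + 1) / 4 →
      6 * Nat.card {g : G // orderOf g = i} =
          Nat.totient i * (3 ^ (2 * m + 1)) ^ 3 * (3 ^ (2 * m + 1) - 1) * ((3 ^ (2 * m + 1)) ^ 2 - 3 ^ (2 * m + 1) + 1) ∧
        2 * Nat.card {g : G // orderOf g = 2 * i} =
          Nat.totient i * (3 ^ (2 * m + 1)) ^ 3 * (3 ^ (2 * m + 1) - 1) * ((3 ^ (2 * m + 1)) ^ 2 - 3 ^ (2 * m + 1) + 1)) ∧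
    (∀ i : ℕ, 1 < i → i ∣ 3 ^ (2 * m + 1) - 3 ^ (m + 1) + 1 →
      6 * Nat.card {g : G // orderOf g = i} =
        Nat.totient i * (3 ^ (2 * m + 1)) ^ 3 * ((3 ^ (2 * m + 1)) ^ 2 - 1) * (3 ^ (2 * m + 1) + 3 ^ (m + 1) + 1)) ∧
    (∀ i : ℕ, 1 < i → i ∣ 3 ^ (2 * m + 1) + 3 ^ (m + 1) + 1 →
      6 * Nat.card {g : G // orderOf g = i} =
        Nat.totient i * (3 ^ (2 * m + 1)) ^ 3 * ((3 ^ (2 * m + 1)) ^ 2 - 1) * (3 ^ (2 * m + 1) - 3 ^ (m + 1) + 1)) := by
  obtain ⟨A0, hA0, hcyc0⟩ := h0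
  obtain ⟨A1, hA1, hno4⟩ := h1
  obtain ⟨A2, hA2⟩ := h2
  obtain ⟨A3, hA3⟩ := h3
  have hk0 : ((3 ^ (2 * m + 1) - 1) / 2).Coprime (Nat.card G / ((3 ^ (2 * m + 1) - 1) / 2)) := by
    rw [X.card_G]; exact Arith.hall_k0 m
  have hk1 : ((3 ^ (2 * m + 1) + 1) / 4).Coprime (Nat.card G / ((3 ^ (2 * m + 1) + 1) / 4)) := by
    rw [X.card_G]; exact Arith.hall_k1 m
  have hk2 : (3 ^ (2 * m + 1) - 3 ^ (m + 1) + 1).Coprime
      (Nat.card G / (3 ^ (2 * m + 1) - 3 ^ (m + 1) + 1)) := by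
    rw [X.card_G]; exact Arith.hall_k2 m
  have hk3 : (3 ^ (2 * m + 1) + 3 ^ (m + 1) + 1).Coprime
      (Nat.card G / (3 ^ (2 * m + 1) + 3 ^ (m + 1) + 1)) := by
    rw [X.card_G]; exact Arith.hall_k3 m
  have hq1 : 1 ≤ 3 ^ (2 * m + 1) := Nat.one_le_pow _ _ (by norm_num)
  have hq3 : 3 ≤ 3 ^ (2 * m + 1) := by
    calc 3 = 3 ^ 1 := by norm_num
      _ ≤ 3 ^ (2 * m + 1) := Nat.pow_le_pow_right (by norm_num) (by omega)
  have hf1 := R2357.f1 _ hq1
  have hf2 := R2357.f2 _ hq1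
  have hkk := Arith.k2_mul_k3 m
  have h2k0 := Arith.two_mul_k0 m
  have h4k1 := Arith.four_mul_k1 m
  have hN3 : Nat.card {g : G // orderOf g = 3} =
      ((3 ^ (2 * m + 1)) ^ 3 + 1) * ((3 ^ (2 * m + 1)) ^ 2 - 1) := by
    rw [R2357.count_TI X (fun g => orderOf g = 3) (fun g x hx => by rw [R2357.orderOf_conj']; exact hx)
      (fun x hx => ⟨by rintro rfl; simp at hx, 1, by rw [pow_one, ← hx]; exact pow_orderOf_eq_one x⟩),
      R2357.card_U_three X]
  have hN9 : Nat.card {g : G // orderOf g = 9} =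
      ((3 ^ (2 * m + 1)) ^ 3 + 1) * Nat.card {u : G // u ∈ X.U ∧ orderOf u = 9} :=
    R2357.count_TI X (fun g => orderOf g = 9) (fun g x hx => by rw [R2357.orderOf_conj']; exact hx)
      (fun x hx => ⟨by rintro rfl; simp at hx, 2, by
        rw [show (3 : ℕ) ^ 2 = 9 by norm_num, ← hx]; exact pow_orderOf_eq_one x⟩)
  have htot : Nat.card {g : G // orderOf g = 3} +
      (Nat.card {g : G // orderOf g = 6} + Nat.card {g : G // orderOf g = 9}) =
      ((3 ^ (2 * m + 1)) ^ 3 + 1) * (2 * (3 ^ (2 * m + 1)) ^ 3 - (3 ^ (2 * m + 1)) ^ 2 - 1) := by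
    rw [← count_three X, ← R2357.card_or _ _ (by intro x h h'; omega),
      ← R2357.card_or _ _ (by rintro x h (h' | h') <;> omega)]
    apply R2357.card_iff
    intro x
    constructor
    · rintro (h | h | h) <;> rw [h] <;> norm_num
    · intro h
      exact R2357.order_cases X hs h
  obtain ⟨hN6, hN9'⟩ := R2357.ar6 _ _ _ _ _ hq1 hN3 hN9 (R2357.card_U_nine X) htot
  refine ⟨count_two X hs, by rw [hN3, mul_comm], hN6, hN9', ?_, ?_, ?_, ?_⟩
  · intro i hi hid
    have h5 := hA0.count hk0 (fun x => orderOf x = i)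
      (fun g x hx => by rw [R2357.orderOf_conj']; exact hx)
      (fun x hx hc => by
        rw [hx] at hc
        rw [← h2k0] at hid
        have := Nat.le_of_dvd (by norm_num) (hc.dvd_of_dvd_mul_right hid)
        omega)
    have h6 : Nat.card {x : ↥(centralizer (A0 : Set G)) // orderOf (x : G) = i} = Nat.totient i := by
      have : Nat.card {x : ↥(centralizer (A0 : Set G)) // orderOf (x : G) = i} =
          Nat.card {x : ↥(centralizer (A0 : Set G)) // orderOf x = i} := by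
        apply R2357.card_iff
        intro x
        rw [Subgroup.orderOf_coe]
      rw [this]
      exact R2357.card_orderOf_cyc (by rw [hA0.card_cent]; exact hid)
    rw [h6, X.card_G] at h5
    have hpos : 0 < 3 ^ (2 * m + 1) - 1 := by omega
    apply Nat.eq_of_mul_eq_mul_left hpos
    calc _ = 2 * (3 ^ (2 * m + 1) - 1) * Nat.card {g : G // orderOf g = i} := by ring
      _ = _ := h5
      _ = _ := by ring
  · intro i hi hid
    have hA1' : IsTorus A1 ((3 ^ (2 * m + 1) + 1) / 4) (4 * ((3 ^ (2 * m + 1) + 1) / 4))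
        (6 * (3 ^ (2 * m + 1) + 1)) := by rw [h4k1]; exact hA1
    have hodd : Odd ((3 ^ (2 * m + 1) + 1) / 4) := by
      have := Arith.cop_6_k1 m
      have h7 : Nat.Coprime 2 ((3 ^ (2 * m + 1) + 1) / 4) := Nat.Coprime.coprime_dvd_left (by norm_num) this
      exact (Nat.coprime_two_left.1 h7)
    have hkpos : 0 < (3 ^ (2 * m + 1) + 1) / 4 := hodd.pos
    have hpos : 0 < 3 ^ (2 * m + 1) + 1 := by omega
    constructor
    · have h5 := R2357.count_cyc hA1 hk1 hi hid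
      rw [X.card_G, ← hf1] at h5
      apply Nat.eq_of_mul_eq_mul_left hpos
      calc _ = 6 * (3 ^ (2 * m + 1) + 1) * Nat.card {g : G // orderOf g = i} := by ring
        _ = _ := h5
        _ = _ := by ring
    · have h5 := hA1.count hk1 (fun x => orderOf x = 2 * i)
        (fun g x hx => by rw [R2357.orderOf_conj']; exact hx)
        (fun x hx hc => by
          rw [hx] at hc
          have := Nat.Coprime.eq_one_of_dvd (Nat.Coprime.coprime_dvd_left (Dvd.intro_left 2 rfl) hc) hid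
          omega)
      rw [R2357.card_sub (centralizer (A1 : Set G)) (fun x => orderOf x = 2 * i),
        R2357.card_cent_two_mul hA1' hk1 hodd hkpos hno4 hid, X.card_G, ← hf1] at h5
      have hpos' : 0 < 3 * (3 ^ (2 * m + 1) + 1) := by omega
      apply Nat.eq_of_mul_eq_mul_left hpos'
      calc _ = 6 * (3 ^ (2 * m + 1) + 1) * Nat.card {g : G // orderOf g = 2 * i} := by ring
        _ = _ := h5
        _ = _ := by ring
  · intro i hi hid
    have h5 := R2357.count_cyc hA2 hk2 hi hid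
    rw [X.card_G, ← hf1, ← hkk] at h5
    rw [← hf2]
    have hpos : 0 < 3 ^ (2 * m + 1) - 3 ^ (m + 1) + 1 := Nat.succ_pos _
    apply Nat.eq_of_mul_eq_mul_left hpos
    calc _ = 6 * (3 ^ (2 * m + 1) - 3 ^ (m + 1) + 1) * Nat.card {g : G // orderOf g = i} := by ring
      _ = _ := h5
      _ = _ := by ring
  · intro i hi hid
    have h5 := R2357.count_cyc hA3 hk3 hi hid
    rw [X.card_G, ← hf1, ← hkk] at h5
    rw [← hf2]
    have hpos : 0 < 3 ^ (2 * m + 1) + 3 ^ (m + 1) + 1 := Nat.succ_pos _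
    apply Nat.eq_of_mul_eq_mul_left hpos
    calc _ = 6 * (3 ^ (2 * m + 1) + 3 ^ (m + 1) + 1) * Nat.card {g : G // orderOf g = i} := by ring
      _ = _ := h5
      _ = _ := by ring

end Cfsg.Agent.Lib.Lead.ReeAbs
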