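import Mathlib
import Cfsg.Agent.Lib.Helper6.PSLCore3
import Cfsg.Agent.Lib.Helper17.ClassCount

/-! # [RK1] recognition of PSL2(K) from the rank one relations -/

set_option autoImplicit false

namespace Cfsg.Agent.Lib.Lead.ReeAbs

namespace RK1

section basic

variable {Γ : Type*} [Group Γ] {K : Type*} [Field K]
    (β : K → Γ) (η : Kˣ → Γ) (ν : Γ)

theorem b0 (hβ : ∀ x y, β (x + y) = β x * β y) : β 0 = 1 := by
  have := hβ 0 0
  rw [add_zero] at this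
  exact (mul_eq_left.mp this.symm)

theorem bneg (hβ : ∀ x y, β (x + y) = β x * β y) (x : K) : β (-x) = (β x)⁻¹ := by
  rw [eq_inv_iff_mul_eq_one, ← hβ, neg_add_cancel, b0 β hβ]

theorem e1 (hη : ∀ s t, η (s * t) = η s * η t) : η 1 = 1 := by
  have := hη 1 1
  rw [mul_one] at this
  exact (mul_eq_left.mp this.symm)

theorem einv (hη : ∀ s t, η (s * t) = η s * η t) (t : Kˣ) : η t⁻¹ = (η t)⁻¹ := by
  rw [eq_inv_iff_mul_eq_one, ← hη, inv_mul_cancel, e1 η hη]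

theorem ninv (hν2 : ν * ν = 1) : ν⁻¹ = ν := inv_eq_of_mul_eq_one_left hν2

/-- `η t * β x = β (t^2 x) * η t` -/
theorem eb (hηβ : ∀ (t : Kˣ) (x : K), η t * β x * (η t)⁻¹ = β ((t : K) ^ 2 * x)) (t : Kˣ) (x : K) :
    η t * β x = β ((t : K) ^ 2 * x) * η t := by
  rw [← hηβ]; group

/-- `η t * ν = ν * (η t)⁻¹` -/
theorem en (hν2 : ν * ν = 1) (hνη : ∀ t, ν * η t * ν⁻¹ = (η t)⁻¹) (t : Kˣ) :
    η t * ν = ν * (η t)⁻¹ := by
  rw [← hνη, ninv ν hν2]
  calc η t * ν = (ν * ν) * η t * ν := by rw [hν2, one_mul]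
    _ = _ := by group

/-- the normal-form predicate -/
def NF (g : Γ) : Prop := (∃ x t, g = β x * η t) ∨ ∃ x t y, g = β x * η t * ν * β y

theorem nf_mul_b (hβ : ∀ x y, β (x + y) = β x * β y)
    (hηβ : ∀ (t : Kˣ) (x : K), η t * β x * (η t)⁻¹ = β ((t : K) ^ 2 * x))
    {g : Γ} (hg : NF β η ν g) (z : K) : NF β η ν (g * β z) := by
  rcases hg with ⟨x, t, rfl⟩ | ⟨x, t, y, rfl⟩
  · left
    refine ⟨x + (t : K) ^ 2 * z, t, ?_⟩
    rw [mul_assoc, eb β η hηβ, hβ, mul_assoc]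
  · right
    refine ⟨x, t, y + z, ?_⟩
    rw [hβ, mul_assoc]

theorem nf_mul_n (hβ : ∀ x y, β (x + y) = β x * β y)
    (hη : ∀ s t, η (s * t) = η s * η t)
    (hηβ : ∀ (t : Kˣ) (x : K), η t * β x * (η t)⁻¹ = β ((t : K) ^ 2 * x))
    (hν2 : ν * ν = 1)
    (hrel : ∀ x : Kˣ, ν * β (x : K) * ν⁻¹ = β (-((x⁻¹ : Kˣ) : K)) * η x⁻¹ * ν * β (-((x⁻¹ : Kˣ) : K)))
    {g : Γ} (hg : NF β η ν g) : NF β η ν (g * ν) := by
  rcases hg with ⟨x, t, rfl⟩ | ⟨x, t, y, rfl⟩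
  · right
    refine ⟨x, t, 0, ?_⟩
    rw [b0 β hβ, mul_one]
  · by_cases hy : y = 0
    · left
      refine ⟨x, t, ?_⟩
      rw [hy, b0 β hβ, mul_one, mul_assoc, hν2, mul_one]
    · right
      obtain ⟨u, rfl⟩ : ∃ u : Kˣ, (u : K) = y := ⟨Units.mk0 y hy, rfl⟩
      refine ⟨x + (t : K) ^ 2 * (-((u⁻¹ : Kˣ) : K)), t * u⁻¹, -((u⁻¹ : Kˣ) : K), ?_⟩
      have h := hrel u
      rw [ninv ν hν2] at h
      calc β x * η t * ν * β (u : K) * ν = β x * η t * (ν * β (u : K) * ν) := by group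
        _ = β x * (η t * β (-((u⁻¹ : Kˣ) : K))) * η u⁻¹ * ν * β (-((u⁻¹ : Kˣ) : K)) := by
            rw [h]; group
        _ = _ := by
            rw [eb β η hηβ, hβ, hη]; group

theorem nf_of_mem_closure (hβ : ∀ x y, β (x + y) = β x * β y)
    (hη : ∀ s t, η (s * t) = η s * η t)
    (hηβ : ∀ (t : Kˣ) (x : K), η t * β x * (η t)⁻¹ = β ((t : K) ^ 2 * x))
    (hν2 : ν * ν = 1)
    (hrel : ∀ x : Kˣ, ν * β (x : K) * ν⁻¹ = β (-((x⁻¹ : Kˣ) : K)) * η x⁻¹ * ν * β (-((x⁻¹ : Kˣ) : K)))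
    {g : Γ} (hg : g ∈ Subgroup.closure (Set.range β ∪ {ν})) : NF β η ν g := by
  induction hg using Subgroup.closure_induction_right with
  | one => exact Or.inl ⟨0, 1, by rw [b0 β hβ, e1 η hη, one_mul]⟩
  | mul_right g y _ hy ih =>
    rcases hy with ⟨z, rfl⟩ | hy
    · exact nf_mul_b β η ν hβ hηβ ih z
    · rw [Set.mem_singleton_iff] at hy
      rw [hy]
      exact nf_mul_n β η ν hβ hη hηβ hν2 hrel ih
  | mul_inv_cancel g y _ hy ih =>
    rcases hy with ⟨z, rfl⟩ | hy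
    · rw [← bneg β hβ]
      exact nf_mul_b β η ν hβ hηβ ih _
    · rw [Set.mem_singleton_iff] at hy
      rw [hy, ninv ν hν2]
      exact nf_mul_n β η ν hβ hη hηβ hν2 hrel ih

theorem e_mem_closure
    (hrel : ∀ x : Kˣ, ν * β (x : K) * ν⁻¹ = β (-((x⁻¹ : Kˣ) : K)) * η x⁻¹ * ν * β (-((x⁻¹ : Kˣ) : K)))
    (t : Kˣ) : η t ∈ Subgroup.closure (Set.range β ∪ {ν}) := by
  have hb : ∀ x, β x ∈ Subgroup.closure (Set.range β ∪ {ν}) :=
    fun x => Subgroup.subset_closure (Or.inl ⟨x, rfl⟩)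
  have hn : ν ∈ Subgroup.closure (Set.range β ∪ {ν}) :=
    Subgroup.subset_closure (Or.inr rfl)
  have h := hrel t⁻¹
  rw [inv_inv] at h
  have : η t = (β (-(t : K)))⁻¹ * (ν * β ((t⁻¹ : Kˣ) : K) * ν⁻¹) * (β (-(t : K)))⁻¹ * ν⁻¹ := by
    rw [h]; group
  rw [this]
  exact mul_mem (mul_mem (mul_mem (inv_mem (hb _)) (mul_mem (mul_mem hn (hb _)) (inv_mem hn)))
    (inv_mem (hb _))) (inv_mem hn)

end basic


section core

variable {G : Type*} [Group G] {K : Type*} [Field K]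

/-- the Borel subgroup `T D` -/
def Bor (β : K → G) (η : Kˣ → G) (hβ : ∀ x y, β (x + y) = β x * β y)
    (hη : ∀ s t, η (s * t) = η s * η t)
    (hηβ : ∀ (t : Kˣ) (x : K), η t * β x * (η t)⁻¹ = β ((t : K) ^ 2 * x)) : Subgroup G where
  carrier := {g | ∃ x t, g = β x * η t}
  mul_mem' := by
    rintro _ _ ⟨x, t, rfl⟩ ⟨y, s, rfl⟩
    refine ⟨x + (t : K) ^ 2 * y, t * s, ?_⟩
    calc β x * η t * (β y * η s) = β x * (η t * β y) * η s := by group
      _ = _ := by rw [eb β η hηβ, hβ, hη]; group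
  one_mem' := ⟨0, 1, by rw [b0 β hβ, e1 η hη, one_mul]⟩
  inv_mem' := by
    rintro _ ⟨x, t, rfl⟩
    refine ⟨((t⁻¹ : Kˣ) : K) ^ 2 * (-x), t⁻¹, ?_⟩
    rw [← eb β η hηβ, mul_inv_rev, einv η hη, bneg β hβ]

/-- the root subgroup -/
def Tor (β : K → G) (hβ : ∀ x y, β (x + y) = β x * β y) : Subgroup G where
  carrier := Set.range β
  mul_mem' := by
    rintro _ _ ⟨x, rfl⟩ ⟨y, rfl⟩
    exact ⟨x + y, hβ x y⟩
  one_mem' := ⟨0, b0 β hβ⟩
  inv_mem' := by
    rintro _ ⟨x, rfl⟩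
    exact ⟨-x, bneg β hβ x⟩

theorem core [Finite G] [Fintype K]
    (hq : Fintype.card K % 4 = 3)
    (β : K → G) (η : Kˣ → G) (ν : G)
    (hβ : ∀ x y, β (x + y) = β x * β y) (hβi : Function.Injective β)
    (hη : ∀ s t, η (s * t) = η s * η t)
    (hηβ : ∀ (t : Kˣ) (x : K), η t * β x * (η t)⁻¹ = β ((t : K) ^ 2 * x))
    (hν2 : ν * ν = 1) (hνη : ∀ t, ν * η t * ν⁻¹ = (η t)⁻¹)
    (hrel : ∀ x : Kˣ, ν * β (x : K) * ν⁻¹ = β (-((x⁻¹ : Kˣ) : K)) * η x⁻¹ * ν * β (-((x⁻¹ : Kˣ) : K)))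
    (hneg : η (-1) = 1) (hker : ∀ t, η t = 1 → t = 1 ∨ t = -1)
    (_hTD : ∀ x t, β x = η t → x = 0)
    (hnd : ∀ x t, ν ≠ β x * η t)
    (hnf : ∀ g : G, NF β η ν g) :
    Nonempty (G ≃* Matrix.ProjectiveSpecialLinearGroup (Fin 2) K) := by
  classical
  set B : Subgroup G := Bor β η hβ hη hηβ with hB
  have hbB : ∀ x, β x ∈ B := fun x => ⟨x, 1, by rw [e1 η hη, mul_one]⟩
  have heB : ∀ t, η t ∈ B := fun t => ⟨0, t, by rw [b0 β hβ, one_mul]⟩
  have hnB : ν ∉ B := fun ⟨x, t, h⟩ => hnd x t h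
  have hni : ν⁻¹ = ν := ninv ν hν2
  have hb0 := b0 β hβ
  have he1 := e1 η hη
  have key : ∀ x, ν * β x * ν ∈ B → x = 0 := by
    intro x hx
    by_contra hx0
    obtain ⟨u, rfl⟩ : ∃ u : Kˣ, (u : K) = x := ⟨Units.mk0 x hx0, rfl⟩
    have h := hrel u
    rw [hni] at h
    rw [h] at hx
    apply hnB
    have : ν = (β (-((u⁻¹ : Kˣ) : K)) * η u⁻¹)⁻¹ *
        (β (-((u⁻¹ : Kˣ) : K)) * η u⁻¹ * ν * β (-((u⁻¹ : Kˣ) : K))) *
        (β (-((u⁻¹ : Kˣ) : K)))⁻¹ := by group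
    rw [this]
    exact mul_mem (mul_mem (inv_mem (mul_mem (hbB _) (heB _))) hx) (inv_mem (hbB _))
  have hsm : ∀ g h : G, g • (h : G ⧸ B) = ((g * h : G) : G ⧸ B) := fun _ _ => rfl
  have hnen : ∀ s, ν * (η s)⁻¹ * ν = η s := by
    intro s
    have := hνη s
    rw [hni] at this
    calc ν * (η s)⁻¹ * ν = ν * (ν * η s * ν) * ν := by rw [this]
      _ = (ν * ν) * η s * (ν * ν) := by group
      _ = η s := by rw [hν2, one_mul, mul_one]
  -- cosets
  have hcos : ∀ x y, ((β x * ν : G) : G ⧸ B) = ((β y * ν : G) : G ⧸ B) → x = y := by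
    intro x y h
    rw [QuotientGroup.eq] at h
    have h1 : (β x * ν)⁻¹ * (β y * ν) = ν * β (-x + y) * ν := by
      rw [hβ, bneg β hβ, mul_inv_rev, hni]; group
    rw [h1] at h
    have := key _ h
    linear_combination -this
  have hcs : ∀ a s b, ((β a * η s * ν * β b : G) : G ⧸ B) = ((β a * ν : G) : G ⧸ B) := by
    intro a s b
    rw [QuotientGroup.eq]
    have h1 : (β a * η s * ν * β b)⁻¹ * (β a * ν) = (β b)⁻¹ * (ν * (η s)⁻¹ * ν) := by
      simp only [mul_inv_rev, hni]; group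
    rw [h1, hnen]
    exact mul_mem (inv_mem (hbB _)) (heB _)
  have hpt : ∀ p : G ⧸ B, p = ((1 : G) : G ⧸ B) ∨ ∃ z, p = ((β z * ν : G) : G ⧸ B) := by
    intro p
    obtain ⟨g, rfl⟩ := QuotientGroup.mk_surjective p
    rcases hnf g with ⟨x, t, rfl⟩ | ⟨x, t, y, rfl⟩
    · left
      rw [QuotientGroup.eq, mul_one]
      exact inv_mem (mul_mem (hbB _) (heB _))
    · right
      exact ⟨x, hcs x t y⟩
  have hne : ((ν : G) : G ⧸ B) ≠ ((1 : G) : G ⧸ B) := by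
    intro h
    rw [QuotientGroup.eq, mul_one, hni] at h
    exact hnB h
  have hfixI : ∀ g : G, g • ((1 : G) : G ⧸ B) = ((1 : G) : G ⧸ B) ↔ g ∈ B := by
    intro g
    rw [hsm, QuotientGroup.eq, mul_one, mul_one, inv_mem_iff]
  have hbn : ∀ x z, β x • ((β z * ν : G) : G ⧸ B) = ((β (x + z) * ν : G) : G ⧸ B) := by
    intro x z
    rw [hsm, hβ, mul_assoc]
  have hen : ∀ t z, η t • ((β z * ν : G) : G ⧸ B) = ((β ((t : K) ^ 2 * z) * ν : G) : G ⧸ B) := by
    intro t z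
    rw [hsm, ← hcs _ t 0, hb0, mul_one, ← mul_assoc, eb β η hηβ]
  have ho0 : ((ν : G) : G ⧸ B) = ((β 0 * ν : G) : G ⧸ B) := by rw [hb0, one_mul]
  have h1ne : (1 : Kˣ) ≠ -1 := by
    intro h
    have h2 : (2 : K) = 0 := by
      have := congrArg (fun u : Kˣ => (u : K)) h
      simp only [Units.val_one, Units.val_neg] at this
      linear_combination this
    have h3 : ringChar K = 2 := by
      have : (ringChar K) ∣ 2 := by
        rw [← ringChar.spec]; exact_mod_cast h2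
      rcases (Nat.dvd_prime Nat.prime_two).1 this with h | h
      · exact absurd h (CharP.ringChar_ne_one)
      · exact h
    have := FiniteField.even_card_of_char_two h3
    omega
  have hsq1 : ∀ t : Kˣ, (t : K) ^ 2 = 1 → η t = 1 := by
    intro t ht
    rw [sq, mul_self_eq_one_iff] at ht
    rcases ht with h | h
    · have : t = 1 := Units.ext h
      rw [this, he1]
    · have : t = -1 := Units.ext (by rw [h]; simp)
      rw [this, hneg]
  -- faithfulness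
  have hfaith : ∀ g : G, (∀ p : G ⧸ B, g • p = p) → g = 1 := by
    intro g hg
    obtain ⟨x, t, rfl⟩ := (hfixI g).1 (hg _)
    have h0 := hg ((β 0 * ν : G) : G ⧸ B)
    rw [mul_smul, hen, hbn, mul_zero, add_zero] at h0
    have hx : x = 0 := hcos _ _ h0
    have h1 := hg ((β 1 * ν : G) : G ⧸ B)
    rw [mul_smul, hen, hbn, mul_one, hx, zero_add] at h1
    rw [hx, hb0, one_mul]
    exact hsq1 t (hcos _ _ h1)
  have : FaithfulSMul G (G ⧸ B) := ⟨by
    intro g₁ g₂ h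
    have : g₂⁻¹ * g₁ = 1 := hfaith _ (fun p => by rw [mul_smul, h, inv_smul_smul])
    exact (inv_mul_eq_one.mp this).symm⟩
  let T : Subgroup G := Tor β hβ
  let ηH : Kˣ →* G := MonoidHom.mk' η hη
  let D : Subgroup G := ηH.range
  have hT : ∀ g ∈ T, ∃ x, g = β x := by
    rintro _ ⟨x, rfl⟩
    exact ⟨x, rfl⟩
  have hD : ∀ g ∈ D, ∃ t, g = η t := by
    rintro _ ⟨t, rfl⟩
    exact ⟨t, rfl⟩
  have hbT : ∀ x, β x ∈ T := fun x => ⟨x, rfl⟩
  have heD : ∀ t, η t ∈ D := fun t => ⟨t, rfl⟩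
  have hcT : Nat.card T = Fintype.card K := by
    rw [← Nat.card_eq_fintype_card]
    exact (Nat.card_congr (Equiv.ofInjective β hβi)).symm
  have hcker : Nat.card ηH.ker = 2 := by
    rw [Nat.card_eq_two_iff]
    refine ⟨⟨1, one_mem _⟩, ⟨-1, hneg⟩, ?_, ?_⟩
    · intro h
      exact h1ne (congrArg Subtype.val h)
    · ext ⟨t, ht⟩
      simp only [Set.mem_insert_iff, Set.mem_singleton_iff, Set.mem_univ, iff_true]
      rcases hker t ht with h | h
      · exact Or.inl (Subtype.ext h)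
      · exact Or.inr (Subtype.ext h)
  have hcD : 2 * Nat.card D + 1 = Fintype.card K := by
    have h1 := Subgroup.card_mul_index ηH.ker
    rw [Subgroup.index_ker, hcker, Nat.card_eq_fintype_card (α := Kˣ), Fintype.card_units] at h1
    have : 0 < Fintype.card K := Fintype.card_pos
    change 2 * Nat.card D = _ at h1
    omega
  obtain ⟨F, iF, iFt, hcF, -, ⟨e⟩⟩ := Cfsg.Agent.Lib.Helper6.PSL3.psl2_core3 (G := G) (X := G ⧸ B)
    T D ν ((1 : G) : G ⧸ B) ((ν : G) : G ⧸ B) hne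
    (by
      intro s hs t ht
      obtain ⟨x, rfl⟩ := hT s hs
      obtain ⟨y, rfl⟩ := hT t ht
      rw [← hβ, ← hβ, add_comm])
    (by
      intro t ht
      obtain ⟨x, rfl⟩ := hT t ht
      exact (hfixI _).2 (hbB x))
    (by
      intro p hp
      rcases hpt p with h | ⟨z, h⟩
      · exact absurd h hp
      · refine ⟨β z, hbT z, ?_⟩
        rw [h, hsm])
    (by
      intro t ht h
      obtain ⟨x, rfl⟩ := hT t ht
      rw [hsm, ho0] at h
      rw [hcos _ _ h, hb0])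
    (by
      intro s hs t ht
      obtain ⟨x, rfl⟩ := hD s hs
      obtain ⟨y, rfl⟩ := hD t ht
      rw [← hη, ← hη, mul_comm])
    (by
      intro t ht
      obtain ⟨x, rfl⟩ := hD t ht
      exact (hfixI _).2 (heB x))
    (by
      intro t ht
      obtain ⟨x, rfl⟩ := hD t ht
      rw [ho0, hen, mul_zero])
    (by
      intro s hs t ht
      obtain ⟨x, rfl⟩ := hD s hs
      obtain ⟨y, rfl⟩ := hT t ht
      rw [hηβ]
      exact hbT _)
    (by
      intro g hg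
      obtain ⟨x, t, rfl⟩ := (hfixI g).1 hg
      exact ⟨β x, hbT x, η t, heD t, rfl⟩)
    (by
      intro s hs t ht ht1 h
      obtain ⟨x, rfl⟩ := hD s hs
      obtain ⟨y, rfl⟩ := hT t ht
      rw [hηβ] at h
      have h1 := hβi h
      have hy : y ≠ 0 := by
        rintro rfl
        exact ht1 hb0
      apply hsq1
      exact mul_right_cancel₀ hy (by rw [h1, one_mul]))
    (by rw [hcT, hcD])
    (by
      rw [Nat.odd_iff]
      omega)
    (by
      intro p hp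
      rcases hpt p with h | ⟨z, h⟩
      · rw [h, hsm, mul_one] at hp
        exact hne hp
      · rw [h, hsm] at hp
        by_cases hz : z = 0
        · rw [hz, hb0, one_mul, hν2] at hp
          exact hne hp.symm
        · obtain ⟨u, rfl⟩ : ∃ u : Kˣ, (u : K) = z := ⟨Units.mk0 z hz, rfl⟩
          have h1 := hrel u
          rw [hni] at h1
          rw [← mul_assoc, h1, hcs] at hp
          have h2 := hcos _ _ hp
          have h3 : IsSquare (-1 : K) := by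
            refine ⟨(u : K), ?_⟩
            have h4 : (u : K) * ((u⁻¹ : Kˣ) : K) = 1 := by simp
            linear_combination (u : K) * h2 + h4
          rw [FiniteField.isSquare_neg_one_iff] at h3
          exact h3 hq)
    (by rw [hsm, mul_one])
    (by rw [hsm, hν2])
    hν2
    (by
      intro t ht
      obtain ⟨x, rfl⟩ := hD t ht
      exact hνη x)
    (by
      intro y₁ y₂ hy
      obtain ⟨h, rfl⟩ := QuotientGroup.mk_surjective y₁
      have hne' : h⁻¹ • y₂ ≠ ((1 : G) : G ⧸ B) := by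
        intro h1
        apply hy
        rw [inv_smul_eq_iff, hsm, mul_one] at h1
        exact h1.symm
      rcases hpt (h⁻¹ • y₂) with h1 | ⟨z, h1⟩
      · exact absurd h1 hne'
      · refine ⟨h * β z, ?_, ?_⟩
        · rw [mul_smul, (hfixI _).2 (hbB z), hsm, mul_one]
        · rw [mul_smul, hsm (β z), ← h1, smul_inv_smul])
  have hc : Fintype.card F = Fintype.card K := by rw [hcF, hcT]
  obtain ⟨e'⟩ := Cfsg.Agent.Lib.Helper17.nonempty_psl_equiv (n := Fin 2)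
    (FiniteField.ringEquivOfCardEq hc)
  exact ⟨e.trans e'⟩

end core

end RK1

/-- `β x ↔ [[1,x],[0,1]]`, `η t ↔ diag(t,t⁻¹)`, `ν ↔ [[0,1],[-1,0]]` (all modulo `±1`). -/
theorem psl2_of_rank_one {Γ : Type*} [Group Γ] [Finite Γ] {K : Type*} [Field K] [Fintype K]
    (hq : Fintype.card K % 4 = 3)
    (β : K → Γ) (η : Kˣ → Γ) (ν : Γ)
    (hβ : ∀ x y, β (x + y) = β x * β y) (hβi : Function.Injective β)
    (hη : ∀ s t, η (s * t) = η s * η t)
    (hηβ : ∀ (t : Kˣ) (x : K), η t * β x * (η t)⁻¹ = β ((t : K) ^ 2 * x))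
    (hν2 : ν * ν = 1) (hνη : ∀ t, ν * η t * ν⁻¹ = (η t)⁻¹)
    (hrel : ∀ x : Kˣ, ν * β (x : K) * ν⁻¹ = β (-((x⁻¹ : Kˣ) : K)) * η x⁻¹ * ν * β (-((x⁻¹ : Kˣ) : K)))
    (hneg : η (-1) = 1) (hker : ∀ t, η t = 1 → t = 1 ∨ t = -1)
    (hTD : ∀ x t, β x = η t → x = 0)
    (hnd : ∀ x t, ν ≠ β x * η t) :
    Nonempty (↥(Subgroup.closure (Set.range β ∪ {ν})) ≃* Matrix.ProjectiveSpecialLinearGroup (Fin 2) K) ∧
    (∀ g ∈ Subgroup.closure (Set.range β ∪ {ν}), (∃ x t, g = β x * η t) ∨ ∃ x t y, g = β x * η t * ν * β y) := by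
  have hnf : ∀ g ∈ Subgroup.closure (Set.range β ∪ {ν}), RK1.NF β η ν g :=
    fun g hg => RK1.nf_of_mem_closure β η ν hβ hη hηβ hν2 hrel hg
  refine ⟨?_, hnf⟩
  have hb : ∀ x, β x ∈ Subgroup.closure (Set.range β ∪ {ν}) :=
    fun x => Subgroup.subset_closure (Or.inl ⟨x, rfl⟩)
  have hn : ν ∈ Subgroup.closure (Set.range β ∪ {ν}) :=
    Subgroup.subset_closure (Or.inr rfl)
  have he : ∀ t, η t ∈ Subgroup.closure (Set.range β ∪ {ν}) :=
    fun t => RK1.e_mem_closure β η ν hrel t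
  refine RK1.core (G := ↥(Subgroup.closure (Set.range β ∪ {ν}))) hq
    (fun x => ⟨β x, hb x⟩) (fun t => ⟨η t, he t⟩) ⟨ν, hn⟩ ?_ ?_ ?_ ?_ ?_ ?_ ?_ ?_ ?_ ?_ ?_ ?_
  · intro x y
    exact Subtype.ext (hβ x y)
  · intro x y h
    exact hβi (congrArg Subtype.val h)
  · intro s t
    exact Subtype.ext (hη s t)
  · intro t x
    exact Subtype.ext (hηβ t x)
  · exact Subtype.ext hν2
  · intro t
    exact Subtype.ext (hνη t)
  · intro x
    exact Subtype.ext (hrel x)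
  · exact Subtype.ext hneg
  · intro t h
    exact hker t (congrArg Subtype.val h)
  · intro x t h
    exact hTD x t (congrArg Subtype.val h)
  · intro x t h
    exact hnd x t (congrArg Subtype.val h)
  · rintro ⟨g, hg⟩
    rcases hnf g hg with ⟨x, t, h⟩ | ⟨x, t, y, h⟩
    · exact Or.inl ⟨x, t, Subtype.ext h⟩
    · exact Or.inr ⟨x, t, y, Subtype.ext h⟩

end Cfsg.Agent.Lib.Lead.ReeAbs
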